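import Mathlib

/-!
# Sums of products of additive forms over a finite field
-/

set_option autoImplicit false
set_option linter.style.haveILetI false

namespace CfsgLib.SylowLie.SpFour

open MvPolynomial

variable {p : ℕ} [Fact p.Prime] {K : Type*} [Field K] [Fintype K] [CharP K p]

omit [Fintype K] in
theorem add_map_smul_zmod [Algebra (ZMod p) K] (L : K →+ ZMod p) (a : ZMod p) (x : K) :
    L (a • x) = a * L x :=
  (ZMod.map_smul L a x).trans rfl

/-- A product of few additive forms sums to zero. -/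
theorem sum_prod_eq_zero {n k : ℕ} (hn : Fintype.card K = p ^ n) (hk : k < n * (p - 1))
    (L : Fin k → K →+ ZMod p) : ∑ t : K, ∏ i, L i t = 0 := by
  classical
  letI := ZMod.algebra K p
  set b := Module.finBasis (ZMod p) K with hb
  have hrank : Module.finrank (ZMod p) K = n := by
    have h := Module.card_eq_pow_finrank (K := ZMod p) (V := K)
    rw [hn, ZMod.card] at h
    exact (Nat.pow_right_injective (Fact.out : p.Prime).two_le h).symm
  let P : MvPolynomial (Fin (Module.finrank (ZMod p) K)) (ZMod p) :=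
    ∏ i, ∑ j, C (L i (b j)) * X j
  have hdeg : P.totalDegree < (Fintype.card (ZMod p) - 1) * Fintype.card (Fin (Module.finrank (ZMod p) K)) := by
    rw [ZMod.card, Fintype.card_fin]
    refine lt_of_lt_of_eq ?_ (show n * (p - 1) = _ by rw [hrank, mul_comm])
    refine lt_of_le_of_lt (totalDegree_finsetProd _ _) (lt_of_le_of_lt ?_ hk)
    refine (Finset.sum_le_sum (g := fun _ : Fin k => 1) fun i _ => ?_).trans (by simp)
    refine totalDegree_finsetSum_le fun j _ => ?_
    exact (totalDegree_mul _ _).trans (by rw [totalDegree_C, totalDegree_X])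
  have h := MvPolynomial.sum_eval_eq_zero P hdeg
  rw [← h]
  refine Fintype.sum_equiv b.equivFun.toEquiv _ _ fun t => ?_
  simp only [P, map_prod, map_sum, map_mul, eval_C, eval_X]
  refine Finset.prod_congr rfl fun i _ => ?_
  conv_lhs => rw [← b.sum_equivFun t, map_sum]
  refine Finset.sum_congr rfl fun j _ => ?_
  rw [add_map_smul_zmod, mul_comm]
  rfl

theorem sum_const_eq_zero {n : ℕ} (hn : Fintype.card K = p ^ n) (hk : 0 < n * (p - 1)) (a : ZMod p) :
    ∑ _t : K, a = 0 := by
  have h := sum_prod_eq_zero hn hk (fun i => i.elim0)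
  simp only [Finset.univ_eq_empty, Finset.prod_empty] at h
  rw [show (∑ _t : K, a) = a * ∑ _t : K, (1 : ZMod p) by rw [Finset.mul_sum]; simp, h, mul_zero]

theorem sum_one_eq_zero {n : ℕ} (hn : Fintype.card K = p ^ n) (hk : 1 < n * (p - 1))
    (L : K →+ ZMod p) : ∑ t : K, L t = 0 := by
  simpa using sum_prod_eq_zero hn hk ![L]

theorem sum_two_eq_zero {n : ℕ} (hn : Fintype.card K = p ^ n) (hk : 2 < n * (p - 1))
    (L M : K →+ ZMod p) : ∑ t : K, L t * M t = 0 := by
  simpa [Fin.prod_univ_two] using sum_prod_eq_zero hn hk ![L, M]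

/-- A square as a sum of products of additive forms. -/
theorem exists_sq_forms (L : K →+ ZMod p) : ∃ (m : ℕ) (A B : Fin m → K →+ ZMod p),
    ∀ t, L (t * t) = ∑ j, A j t * B j t := by
  letI := ZMod.algebra K p
  set b := Module.finBasis (ZMod p) K with hb
  refine ⟨_, fun j => (b.coord j).toAddMonoidHom, fun j => L.comp (AddMonoidHom.mulLeft (b j)),
    fun t => ?_⟩
  conv_lhs => arg 2; arg 1; rw [← b.sum_equivFun t]
  rw [Finset.sum_mul, map_sum]
  refine Finset.sum_congr rfl fun j _ => ?_
  rw [smul_mul_assoc, add_map_smul_zmod]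
  rfl

theorem sum_sq_eq_zero {n : ℕ} (hn : Fintype.card K = p ^ n) (hk : 2 < n * (p - 1))
    (L : K →+ ZMod p) : ∑ t : K, L (t * t) = 0 := by
  obtain ⟨m, A, B, h⟩ := exists_sq_forms L
  simp only [h]
  rw [Finset.sum_comm]
  exact Finset.sum_eq_zero fun j _ => sum_two_eq_zero hn hk _ _

theorem sum_sq_mul_eq_zero {n : ℕ} (hn : Fintype.card K = p ^ n) (hk : 3 < n * (p - 1))
    (L M : K →+ ZMod p) : ∑ t : K, L (t * t) * M t = 0 := by
  obtain ⟨m, A, B, h⟩ := exists_sq_forms L
  simp only [h, Finset.sum_mul]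
  rw [Finset.sum_comm]
  exact Finset.sum_eq_zero fun j _ => by
    simpa [Fin.prod_univ_three] using sum_prod_eq_zero hn hk ![A j, B j, M]

theorem sum_sq_sq_eq_zero {n : ℕ} (hn : Fintype.card K = p ^ n) (hk : 4 < n * (p - 1))
    (L M : K →+ ZMod p) : ∑ t : K, L (t * t) * M (t * t) = 0 := by
  obtain ⟨m, A, B, h⟩ := exists_sq_forms L
  obtain ⟨m', A', B', h'⟩ := exists_sq_forms M
  simp only [h, h', Finset.sum_mul, Finset.mul_sum]
  rw [Finset.sum_comm]
  refine Finset.sum_eq_zero fun j _ => ?_
  rw [Finset.sum_comm]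
  exact Finset.sum_eq_zero fun i _ => by
    simpa [Fin.prod_univ_four, mul_assoc] using sum_prod_eq_zero hn hk ![A i, B i, A' j, B' j]

/-- An element killed by every additive form is zero. -/
theorem eq_zero_of_forms {a : K} (h : ∀ L : K →+ ZMod p, L a = 0) : a = 0 := by
  letI := ZMod.algebra K p
  set b := Module.finBasis (ZMod p) K with hb
  exact b.forall_coord_eq_zero_iff.1 fun j => h (b.coord j).toAddMonoidHom

end CfsgLib.SylowLie.SpFour
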