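import Cfsg.Agent.Lib.SylowLie.SpFour.Natural
import Cfsg.Agent.Lib.SylowLie.SpFour.Sums

/-!
# The abelian subgroup `A` as a module, odd characteristic

A group acting on `K³` in which a Sylow subgroup acts as a short root group, generated by its
`p`-elements, and fixing a nonzero vector of the fixed line.
-/

set_option autoImplicit false
set_option linter.style.haveILetI false
set_option linter.unusedSectionVars false

open Subgroup
open scoped Classical Pointwise

namespace CfsgLib.SylowLie.SpFour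

open Cfsg (pElementClosure)

variable {p : ℕ} [Fact p.Prime] {K : Type*} [Field K] [Fintype K] [CharP K p] {H : Type*} [Group H]
  [Finite H] [DistribMulAction H (K × K × K)]

/-- The configuration. -/
structure AMod (R : Sylow p H) (X : Subgroup H) : Prop where
  faith : ∀ h : H, (∀ x : K × K × K, h • x = x) → h = 1
  mem_R : ∀ h ∈ (R : Subgroup H), ∃ t : K, ∀ u v w : K,
    h • ((u, v, w) : K × K × K) = (u, v + t * u, w + 2 * t * v + t ^ 2 * u)
  surj_R : ∀ t : K, ∃ h ∈ (R : Subgroup H), ∀ u v w : K,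
    h • ((u, v, w) : K × K × K) = (u, v + t * u, w + 2 * t * v + t ^ 2 * u)
  gen : pElementClosure p (⊤ : Subgroup H) = ⊤
  emb : Cfsg.IsStronglyPEmbedded p X
  fix : ∃ w : K, w ≠ 0 ∧ ∀ h : H, h • ((0, 0, w) : K × K × K) = (0, 0, w)

namespace AMod

variable {R : Sylow p H} {X : Subgroup H} (hd : AMod (K := K) R X)

/-- The element of `R` with a given parameter. -/
noncomputable def par (hd : AMod (K := K) R X) (t : K) : H := (hd.surj_R t).choose

include hd

theorem par_mem (t : K) : hd.par t ∈ (R : Subgroup H) := (hd.surj_R t).choose_spec.1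

theorem par_smul (t u v w : K) :
    hd.par t • ((u, v, w) : K × K × K) = (u, v + t * u, w + 2 * t * v + t ^ 2 * u) :=
  (hd.surj_R t).choose_spec.2 u v w

theorem exists_par {h : H} (hh : h ∈ (R : Subgroup H)) : ∃ t, h = hd.par t := by
  obtain ⟨t, ht⟩ := hd.mem_R h hh
  refine ⟨t, inv_mul_eq_one.1 (hd.faith _ ?_)⟩
  rintro ⟨u, v, w⟩
  rw [mul_smul, inv_smul_eq_iff, hd.par_smul, ht]

theorem par_mul (s t : K) : hd.par s * hd.par t = hd.par (s + t) := by
  refine inv_mul_eq_one.1 (hd.faith _ ?_)
  rintro ⟨u, v, w⟩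
  rw [mul_smul, inv_smul_eq_iff, mul_smul, hd.par_smul, hd.par_smul, hd.par_smul]
  refine Prod.ext rfl (Prod.ext ?_ ?_) <;> simp only <;> ring

theorem R_comm {a b : H} (ha : a ∈ (R : Subgroup H)) (hb : b ∈ (R : Subgroup H)) :
    a * b = b * a := by
  obtain ⟨s, rfl⟩ := hd.exists_par ha
  obtain ⟨t, rfl⟩ := hd.exists_par hb
  rw [hd.par_mul, hd.par_mul, add_comm]

theorem fix_Z {h : H} (hh : h ∈ (R : Subgroup H)) (w : K) :
    h • ((0, 0, w) : K × K × K) = (0, 0, w) := by
  obtain ⟨t, ht⟩ := hd.mem_R h hh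
  rw [ht]; simp

theorem mem_Z_of_fix (h2 : (2 : K) ≠ 0) {t : K} (ht : t ≠ 0) {u v w : K}
    (h : hd.par t • ((u, v, w) : K × K × K) = (u, v, w)) : u = 0 ∧ v = 0 := by
  rw [hd.par_smul, Prod.mk.injEq, Prod.mk.injEq] at h
  obtain ⟨-, h1, h3⟩ := h
  have hu : u = 0 := (mul_eq_zero.1 (show t * u = 0 by linear_combination h1)).resolve_left ht
  subst hu
  exact ⟨rfl, (mul_eq_zero.1 (show (2 * t) * v = 0 by linear_combination h3)).resolve_left
    (mul_ne_zero h2 ht)⟩

/-- Fusion in the fixed line is controlled by the normaliser of `R`. -/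
theorem fusion_Z {g : H} {z z' : K} (h : g • ((0, 0, z) : K × K × K) = (0, 0, z')) :
    ∃ n ∈ Subgroup.normalizer ((R : Subgroup H) : Set H),
      n • ((0, 0, z) : K × K × K) = (0, 0, z') := by
  set C := MulAction.stabilizer H ((0, 0, z') : K × K × K)
  have h1 : (R : Subgroup H) ≤ C := fun r hr => hd.fix_Z hr z'
  have h2 : ((g • R : Sylow p H) : Subgroup H) ≤ C := fun r hr => by
    rw [Sylow.coe_subgroup_smul, Subgroup.mem_pointwise_smul_iff_inv_smul_mem] at hr
    have e := hd.fix_Z hr z
    simp only [MulAut.smul_def] at e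
    change ((MulAut.conj g)⁻¹ r) • ((0, 0, z) : K × K × K) = (0, 0, z) at e
    rw [MulAut.conj_inv_apply, mul_smul, mul_smul, h, inv_smul_eq_iff, h] at e
    exact e
  obtain ⟨c, hc⟩ := MulAction.exists_smul_eq C ((g • R).subtype h2) (R.subtype h1)
  rw [Sylow.smul_subtype] at hc
  have h3 : (c : H) • (g • R) = R := Sylow.subtype_injective hc
  refine ⟨c * g, Sylow.smul_eq_iff_mem_normalizer.1 (by rw [mul_smul]; exact h3), ?_⟩
  rw [mul_smul, h]
  exact c.2

/-- The action of the normaliser of `R` on the layers. -/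
theorem normalizer_layers (h2 : (2 : K) ≠ 0) {n : H}
    (hn : n ∈ Subgroup.normalizer ((R : Subgroup H) : Set H)) :
    ∃ (σ : K →+* K) (a g : K), a ≠ 0 ∧ g ≠ 0 ∧
      (∀ u v w : K, (n • ((u, v, w) : K × K × K)).1 = g * σ u) ∧
      (∀ v w : K, (n • ((0, v, w) : K × K × K)).2.1 = a * g * σ v) ∧
      (∀ w : K, n • ((0, 0, w) : K × K × K) = (0, 0, a ^ 2 * g * σ w)) ∧
      ∀ t : K, n * hd.par t * n⁻¹ = hd.par (a * σ t) := by
  have hconj : ∀ t, ∃ t', n * hd.par t * n⁻¹ = hd.par t' := fun t =>
    hd.exists_par ((Subgroup.mem_normalizer_iff.1 hn _).1 (hd.par_mem t))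
  choose α hα using hconj
  have key : ∀ t x, n • (hd.par t • x) = hd.par (α t) • (n • x) := fun t (x : K × K × K) => by
    rw [← mul_smul, ← mul_smul, ← hα, inv_mul_cancel_right]
  have hparinj : ∀ {s t : K}, hd.par s = hd.par t → s = t := fun {s t} h => by
    have e := congrArg (fun r : H => (r • ((1, 0, 0) : K × K × K)).2.1) h
    simpa [hd.par_smul] using e
  have hadd : ∀ s t, α (s + t) = α s + α t := fun s t => hparinj (by
    rw [← hd.par_mul (α s), ← hα, ← hα, ← hα, ← hd.par_mul]; group)
  have hα0 : ∀ {t}, α t = 0 → t = 0 := fun {t} h => by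
    have h0 : hd.par 0 = 1 := by
      have := hd.par_mul 0 0
      rw [add_zero] at this
      exact mul_eq_left.1 this
    apply hparinj
    rw [h0]
    have := hα t
    rw [h, h0] at this
    exact conj_eq_one_iff.1 this
  have ha : α 1 ≠ 0 := fun h => one_ne_zero (hα0 h)
  -- the lower layers are invariant
  have hZ : ∀ w, (n • ((0, 0, w) : K × K × K)).1 = 0 ∧ (n • ((0, 0, w) : K × K × K)).2.1 = 0 := by
    intro w
    have e := key 1 ((0, 0, w) : K × K × K)
    rw [hd.fix_Z (hd.par_mem 1)] at e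
    generalize n • ((0, 0, w) : K × K × K) = y at e ⊢
    obtain ⟨u', v', w'⟩ := y
    exact hd.mem_Z_of_fix h2 ha e.symm
  set μ : K → K := fun u => (n • ((u, 0, 0) : K × K × K)).1 with hμ
  have hsplit : ∀ u v w : K, n • ((u, v, w) : K × K × K) =
      n • ((u, 0, 0) : K × K × K) + n • ((0, v, 0) : K × K × K) + n • ((0, 0, w) : K × K × K) :=
    fun u v w => by rw [← smul_add, ← smul_add]; simp
  have hV : ∀ v, (n • ((0, v, 0) : K × K × K)).1 = 0 := by
    intro v
    have e := key 1 ((0, v, 0) : K × K × K)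
    rw [hd.par_smul, hsplit] at e
    generalize hy : n • ((0, v, 0) : K × K × K) = y at e ⊢
    obtain ⟨u', v', w'⟩ := y
    rw [hd.par_smul] at e
    have e' := congrArg (fun q : K × K × K => q.2.1) e
    have z2 := (hZ (0 + 2 * 1 * v + 1 ^ 2 * 0)).2
    have z0 : n • ((0, 0, 0) : K × K × K) = 0 := by
      rw [show ((0, 0, 0) : K × K × K) = 0 from rfl, smul_zero]
    simp only [mul_zero, add_zero, hy, z0, Prod.snd_add, Prod.fst_add] at e' z2
    simp [(hZ _).2] at e'
    exact e'.resolve_left ha
  set β : K → K := fun v => (n • ((0, v, 0) : K × K × K)).2.1 with hβ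
  set δ : K → K := fun w => (n • ((0, 0, w) : K × K × K)).2.2 with hδ
  -- the two relations
  have r1 : ∀ t u, β (t * u) = α t * μ u := fun t u => by
    have e := key t ((u, 0, 0) : K × K × K)
    rw [hd.par_smul, hsplit] at e
    generalize hy : n • ((u, 0, 0) : K × K × K) = y at e
    obtain ⟨u', v', w'⟩ := y
    rw [hd.par_smul] at e
    have e' := congrArg (fun q : K × K × K => q.2.1) e
    simp only [Prod.snd_add, Prod.fst_add, (hZ _).2, add_zero, zero_add] at e'
    simp only [hμ, hy, hβ]
    linear_combination e'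
  have r2 : ∀ t v, δ (2 * t * v) = 2 * α t * β v := fun t v => by
    have e := key t ((0, v, 0) : K × K × K)
    rw [hd.par_smul, hsplit] at e
    have hv1 := hV v
    generalize hy : n • ((0, v, 0) : K × K × K) = y at e hv1
    obtain ⟨u', v', w'⟩ := y
    simp only at hv1
    subst hv1
    rw [hd.par_smul] at e
    have e' := congrArg (fun q : K × K × K => q.2.2) e
    have z0 : n • ((0, 0, 0) : K × K × K) = 0 := by
      rw [show ((0, 0, 0) : K × K × K) = 0 from rfl, smul_zero]
    simp only [mul_zero, add_zero, hy, z0, Prod.snd_add, zero_add] at e'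
    simp only [hδ, hy, hβ]
    simpa using e'
  set a := α 1
  set g := μ 1 with hg
  have hμu : ∀ u, μ u = α u * g / a := fun u => by
    rw [eq_div_iff ha, mul_comm]
    have h1 := r1 1 u
    have h2' := r1 u 1
    rw [one_mul] at h1
    rw [mul_one] at h2'
    rw [← h1, h2']
  have hg0 : g ≠ 0 := fun h0 => by
    have hmid : ∀ u, μ u = 0 := fun u => by rw [hμu, h0, mul_zero, zero_div]
    obtain ⟨⟨u, v, w⟩, hz⟩ : ∃ x : K × K × K, n⁻¹ • ((1, 0, 0) : K × K × K) = x := ⟨_, rfl⟩
    have e : n • ((u, v, w) : K × K × K) = (1, 0, 0) := by rw [← hz, smul_inv_smul]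
    rw [hsplit] at e
    have e' := congrArg (fun q : K × K × K => q.1) e
    simp only [Prod.fst_add, hV, (hZ _).1, add_zero] at e'
    exact one_ne_zero (e'.symm.trans (hmid u))
  have hmulα : ∀ t u, α (t * u) = α t * α u / a := fun t u => by
    have h := r1 t u
    have h' := r1 (t * u) 1
    rw [mul_one, h, hμu] at h'
    refine mul_right_cancel₀ hg0 ?_
    rw [← h']
    ring
  let σ : K →+* K :=
    { toFun := fun s => α s / a
      map_one' := div_self ha
      map_zero' := by
        have h := hadd 0 0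
        rw [add_zero] at h
        rw [add_eq_left.1 h.symm, zero_div]
      map_add' := fun s t => by rw [hadd, add_div]
      map_mul' := fun s t => by rw [hmulα]; field_simp }
  have hασ : ∀ s, α s = a * σ s := fun s => by
    show α s = a * (α s / a); field_simp
  have hμσ : ∀ u, μ u = g * σ u := fun u => by rw [hμu, hασ]; field_simp
  have hβσ : ∀ v, β v = a * g * σ v := fun v => by
    have h := r1 1 v
    rw [one_mul] at h
    rw [h, hμσ]; ring
  refine ⟨σ, a, g, ha, hg0, fun u v w => ?_, fun v w => ?_, fun w => ?_, fun t => by rw [hα, hασ]⟩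
  · rw [hsplit, Prod.fst_add, Prod.fst_add, hV, (hZ _).1, add_zero, add_zero]
    exact hμσ u
  · rw [hsplit]
    simp only [Prod.snd_add, Prod.fst_add, (hZ _).2, Prod.mk_zero_zero, smul_zero, Prod.snd_zero,
      Prod.fst_zero, zero_add, add_zero]
    exact hβσ v
  · refine Prod.ext (hZ w).1 (Prod.ext (hZ w).2 ?_)
    show δ w = _
    have h := r2 w (1 / 2)
    rw [show 2 * w * (1 / 2 : K) = w by field_simp] at h
    rw [h, hασ, hβσ, map_div₀, map_one, map_ofNat]
    field_simp

/-- A normaliser element moving a vector of the fixed line by a fixed vector fixes it. -/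
theorem eq_zero_of_translate {n : H} (hn : n ∈ Subgroup.normalizer ((R : Subgroup H) : Set H))
    {z w : K} (hw : n • ((0, 0, w) : K × K × K) = (0, 0, w))
    (h : n • ((0, 0, z) : K × K × K) = (0, 0, z + w)) : w = 0 := by
  set N := Subgroup.normalizer ((R : Subgroup H) : Set H)
  haveI : ((R : Subgroup H).subgroupOf N).Normal := Subgroup.normal_in_normalizer
  set M := ((R : Subgroup H).subgroupOf N).index with hM
  have hMR : (⟨n, hn⟩ : N) ^ M ∈ (R : Subgroup H).subgroupOf N := Subgroup.pow_index_mem _ _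
  have hit : ∀ k : ℕ, n ^ k • ((0, 0, z) : K × K × K) = (0, 0, z + k * w) := by
    intro k
    induction k with
    | zero => simp
    | succ k ih =>
      rw [pow_succ', mul_smul, ih,
        show ((0, 0, z + k * w) : K × K × K) = (0, 0, z) + k • ((0, 0, w) : K × K × K) by
          simp [nsmul_eq_mul],
        smul_add, smul_comm n k, hw, h]
      simp [nsmul_eq_mul]
      ring
  have e := hd.fix_Z (Subgroup.mem_subgroupOf.1 hMR) z
  rw [Subgroup.coe_pow] at e
  rw [hit] at e
  simp only [Prod.mk.injEq, true_and, add_eq_left] at e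
  refine (mul_eq_zero.1 e).resolve_left fun h0 => ?_
  exact R.not_dvd_index (((CharP.cast_eq_zero_iff K p M).1 h0).trans
    (Subgroup.relIndex_dvd_index_of_le Subgroup.le_normalizer))

/-- An orbit meets a layer above the fixed line only outside it. -/
theorem orbit_avoid (h2 : (2 : K) ≠ 0) {g : H} {z v w : K}
    (h : g • ((0, 0, z) : K × K × K) = (0, v, w)) : v = 0 := by
  by_contra hv
  obtain ⟨w0, hw0, hfix⟩ := hd.fix
  set k := g⁻¹ * (hd.par (w0 / (2 * v)) * g) with hk
  have hk' : k • ((0, 0, z) : K × K × K) = (0, 0, z + w0) := by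
    rw [hk, mul_smul, mul_smul, h, hd.par_smul, inv_smul_eq_iff,
      show ((0, 0, z + w0) : K × K × K) = (0, 0, z) + (0, 0, w0) by simp, smul_add, h, hfix]
    simp
    field_simp
  obtain ⟨n, hn, hnz⟩ := hd.fusion_Z hk'
  exact hw0 (hd.eq_zero_of_translate hn (hfix n) hnz)

end AMod

end CfsgLib.SylowLie.SpFour
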