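import Cfsg.Agent.Lib.Fusion.ClassicalCharP.SymplecticSetup

/-!
# Coordinates on a Sylow subgroup of `Sp₄` in the defining characteristic

`t` is the coordinate of the short simple root, `u` of the long simple root, `v` and `w` those of
the sum and of the highest root.
-/

set_option autoImplicit false
set_option linter.style.haveILetI false

open Matrix
open scoped commutatorElement

namespace CfsgLib.SylowLie.SpFour

variable {Ω : Type*} [Group Ω]

/-- Coordinates on a group like the unitriangular subgroup of `Sp₄`. -/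
structure Coord (S : Subgroup Ω) (K : Type*) [Field K] where
  /-- short simple root -/
  t : Ω → K
  /-- long simple root -/
  u : Ω → K
  /-- short sum -/
  v : Ω → K
  /-- highest root -/
  w : Ω → K
  t_mul : ∀ {x y : Ω}, x ∈ S → y ∈ S → t (x * y) = t x + t y
  u_mul : ∀ {x y : Ω}, x ∈ S → y ∈ S → u (x * y) = u x + u y
  v_mul : ∀ {x y : Ω}, x ∈ S → y ∈ S → v (x * y) = v x + v y + t x * u y
  w_mul : ∀ {x y : Ω}, x ∈ S → y ∈ S → w (x * y) = w x + w y + 2 * t x * v y + t x ^ 2 * u y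
  ext : ∀ {x y : Ω}, x ∈ S → y ∈ S → t x = t y → u x = u y → v x = v y → w x = w y → x = y
  surj : ∀ a b c d : K, ∃ x ∈ S, t x = a ∧ u x = b ∧ v x = c ∧ w x = d

namespace Coord

variable {S : Subgroup Ω} {K : Type*} [Field K] (c : Coord S K)

theorem t_one : c.t 1 = 0 := by simpa using c.t_mul S.one_mem S.one_mem
theorem u_one : c.u 1 = 0 := by simpa using c.u_mul S.one_mem S.one_mem
theorem v_one : c.v 1 = 0 := by
  have h := c.v_mul S.one_mem S.one_mem
  rw [one_mul, c.t_one, zero_mul, add_zero] at h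
  simpa using h
theorem w_one : c.w 1 = 0 := by
  have h := c.w_mul S.one_mem S.one_mem
  rw [one_mul, c.t_one] at h
  simpa using h

variable {x y s : Ω}

theorem t_inv (hx : x ∈ S) : c.t x⁻¹ = -c.t x := by
  have h := c.t_mul (inv_mem hx) hx
  rw [inv_mul_cancel, c.t_one] at h
  linear_combination -h

theorem u_inv (hx : x ∈ S) : c.u x⁻¹ = -c.u x := by
  have h := c.u_mul (inv_mem hx) hx
  rw [inv_mul_cancel, c.u_one] at h
  linear_combination -h

theorem v_inv (hx : x ∈ S) : c.v x⁻¹ = -c.v x + c.t x * c.u x := by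
  have h := c.v_mul (inv_mem hx) hx
  rw [inv_mul_cancel, c.v_one, c.t_inv hx] at h
  linear_combination -h

theorem w_inv (hx : x ∈ S) : c.w x⁻¹ = -c.w x + 2 * c.t x * c.v x - c.t x ^ 2 * c.u x := by
  have h := c.w_mul (inv_mem hx) hx
  rw [inv_mul_cancel, c.w_one, c.t_inv hx] at h
  linear_combination -h

theorem eq_one_iff (hx : x ∈ S) : x = 1 ↔ c.t x = 0 ∧ c.u x = 0 ∧ c.v x = 0 ∧ c.w x = 0 := by
  refine ⟨?_, fun ⟨h1, h2, h3, h4⟩ => c.ext hx S.one_mem (h1.trans c.t_one.symm)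
    (h2.trans c.u_one.symm) (h3.trans c.v_one.symm) (h4.trans c.w_one.symm)⟩
  rintro rfl
  exact ⟨c.t_one, c.u_one, c.v_one, c.w_one⟩

include c in
theorem conj_mem (hs : s ∈ S) (hx : x ∈ S) : s * x * s⁻¹ ∈ S :=
  S.mul_mem (S.mul_mem hs hx) (S.inv_mem hs)

theorem t_conj (hs : s ∈ S) (hx : x ∈ S) : c.t (s * x * s⁻¹) = c.t x := by
  rw [c.t_mul (S.mul_mem hs hx) (S.inv_mem hs), c.t_mul hs hx, c.t_inv hs]; ring

theorem u_conj (hs : s ∈ S) (hx : x ∈ S) : c.u (s * x * s⁻¹) = c.u x := by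
  rw [c.u_mul (S.mul_mem hs hx) (S.inv_mem hs), c.u_mul hs hx, c.u_inv hs]; ring

theorem v_conj (hs : s ∈ S) (hx : x ∈ S) :
    c.v (s * x * s⁻¹) = c.v x + (c.t s * c.u x - c.t x * c.u s) := by
  rw [c.v_mul (S.mul_mem hs hx) (S.inv_mem hs), c.v_mul hs hx, c.t_mul hs hx, c.v_inv hs,
    c.u_inv hs]
  ring

theorem w_conj (hs : s ∈ S) (hx : x ∈ S) :
    c.w (s * x * s⁻¹) = c.w x + (2 * c.t s * c.v x + c.t s ^ 2 * c.u x) -
      (2 * c.t x * c.v s + c.t x ^ 2 * c.u s) := by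
  rw [c.w_mul (S.mul_mem hs hx) (S.inv_mem hs), c.w_mul hs hx, c.t_mul hs hx, c.w_inv hs,
    c.v_inv hs, c.u_inv hs]
  ring

theorem commute_iff (hx : x ∈ S) (hy : y ∈ S) :
    Commute x y ↔ c.t x * c.u y = c.t y * c.u x ∧
      2 * c.t x * c.v y + c.t x ^ 2 * c.u y = 2 * c.t y * c.v x + c.t y ^ 2 * c.u x := by
  constructor
  · intro h
    have h1 := congrArg c.v h.eq
    have h2 := congrArg c.w h.eq
    rw [c.v_mul hx hy, c.v_mul hy hx] at h1
    rw [c.w_mul hx hy, c.w_mul hy hx] at h2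
    exact ⟨by linear_combination h1, by linear_combination h2⟩
  · rintro ⟨h1, h2⟩
    refine c.ext (S.mul_mem hx hy) (S.mul_mem hy hx) ?_ ?_ ?_ ?_
    · rw [c.t_mul hx hy, c.t_mul hy hx, add_comm]
    · rw [c.u_mul hx hy, c.u_mul hy hx, add_comm]
    · rw [c.v_mul hx hy, c.v_mul hy hx]; linear_combination h1
    · rw [c.w_mul hx hy, c.w_mul hy hx]; linear_combination h2

theorem t_pow (hx : x ∈ S) (n : ℕ) : c.t (x ^ n) = n * c.t x := by
  induction n with
  | zero => simp [c.t_one]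
  | succ n ih => rw [pow_succ, c.t_mul (pow_mem hx n) hx, ih, Nat.cast_succ]; ring

theorem u_pow (hx : x ∈ S) (n : ℕ) : c.u (x ^ n) = n * c.u x := by
  induction n with
  | zero => simp [c.u_one]
  | succ n ih => rw [pow_succ, c.u_mul (pow_mem hx n) hx, ih, Nat.cast_succ]; ring

theorem v_pow (hx : x ∈ S) (n : ℕ) :
    c.v (x ^ n) = n * c.v x + (n.choose 2 : ℕ) * (c.t x * c.u x) := by
  induction n with
  | zero => simp [c.v_one]
  | succ n ih =>
    rw [pow_succ, c.v_mul (pow_mem hx n) hx, ih, c.t_pow hx, Nat.cast_succ,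
      show (n + 1).choose 2 = n + n.choose 2 by rw [Nat.choose_succ_succ, Nat.choose_one_right]]
    push_cast; ring

theorem w_pow (hx : x ∈ S) (n : ℕ) :
    c.w (x ^ n) = n * c.w x + (n.choose 2 : ℕ) * (2 * c.t x * c.v x) +
      (∑ k ∈ Finset.range n, k ^ 2 : ℕ) * (c.t x ^ 2 * c.u x) := by
  induction n with
  | zero => simp [c.w_one]
  | succ n ih =>
    rw [pow_succ, c.w_mul (pow_mem hx n) hx, ih, c.t_pow hx, Nat.cast_succ, Finset.sum_range_succ,
      show (n + 1).choose 2 = n + n.choose 2 by rw [Nat.choose_succ_succ, Nat.choose_one_right]]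
    push_cast; ring

end Coord

/-! ### Existence -/

section Matrices

open CfsgLib.Sp (uniGroup IsUni rk mem_uniGroup)

variable {K : Type*} [Field K]

local notation "Sp4" => Matrix.symplecticGroup (Fin 2) K

/-- The unitriangular element with the given coordinates. -/
def uniMat (a b c d : K) : Matrix (Fin 2 ⊕ Fin 2) (Fin 2 ⊕ Fin 2) K :=
  Matrix.fromBlocks !![1, a; 0, 1] !![d - a * c, c; c - a * b, b] 0 !![1, 0; -a, 1]

theorem uniMat_mem (a b c d : K) : uniMat a b c d ∈ Matrix.symplecticGroup (Fin 2) K := by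
  rw [SymplecticGroup.mem_iff]
  ext i j
  rcases i with i | i <;> rcases j with j | j <;> fin_cases i <;> fin_cases j <;>
    simp [uniMat, Matrix.J, Matrix.mul_apply, Fintype.sum_sum_type, Fin.sum_univ_two,
      Matrix.fromBlocks] <;> ring

theorem uniMat_uni (a b c d : K) : IsUni (uniMat a b c d) := by
  intro i j hij
  rcases i with i | i <;> rcases j with j | j <;> fin_cases i <;> fin_cases j <;>
    simp [uniMat, rk, Matrix.fromBlocks] at hij ⊢

theorem uni_entries {X : Sp4} (hX : IsUni X.1) :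
    X.1 (.inr 1) (.inr 0) = -X.1 (.inl 0) (.inl 1) ∧
      X.1 (.inl 1) (.inr 0) = X.1 (.inl 0) (.inr 1) -
        X.1 (.inl 0) (.inl 1) * X.1 (.inl 1) (.inr 1) := by
  have h := SymplecticGroup.mem_iff.1 X.2
  have z1 : X.1 (.inr 1) (.inl 0) = 0 := by rw [hX _ _ (by simp [rk])]; simp
  have z2 : X.1 (.inr 1) (.inl 1) = 0 := by rw [hX _ _ (by simp [rk])]; simp
  have z3 : X.1 (.inl 1) (.inl 0) = 0 := by rw [hX _ _ (by simp [rk])]; simp
  have o1 : X.1 (.inl 0) (.inl 0) = 1 := by rw [hX _ _ le_rfl]; simp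
  have o2 : X.1 (.inl 1) (.inl 1) = 1 := by rw [hX _ _ le_rfl]; simp
  have o3 : X.1 (.inr 1) (.inr 1) = 1 := by rw [hX _ _ le_rfl]; simp
  have e1 := congrFun (congrFun h (.inl 0)) (.inr 1)
  have e2 := congrFun (congrFun h (.inl 0)) (.inl 1)
  simp [Matrix.J, Matrix.mul_apply, Fintype.sum_sum_type, Fin.sum_univ_two, Matrix.fromBlocks,
    z1, z2, z3, o1, o2, o3] at e1 e2
  exact ⟨by linear_combination -e1, by linear_combination -e2⟩

theorem uni_ext {X Y : Sp4} (hX : IsUni X.1) (hY : IsUni Y.1)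
    (h1 : X.1 (.inl 0) (.inl 1) = Y.1 (.inl 0) (.inl 1))
    (h2 : X.1 (.inl 1) (.inr 1) = Y.1 (.inl 1) (.inr 1))
    (h3 : X.1 (.inl 0) (.inr 1) = Y.1 (.inl 0) (.inr 1))
    (h4 : X.1 (.inl 0) (.inr 0) = Y.1 (.inl 0) (.inr 0)) : X = Y := by
  obtain ⟨a1, a2⟩ := uni_entries hX
  obtain ⟨b1, b2⟩ := uni_entries hY
  have key : ∀ i j, rk j ≤ rk i → X.1 i j = Y.1 i j := fun i j h => by rw [hX i j h, hY i j h]
  refine Subtype.ext (Matrix.ext fun i j => ?_)
  rcases i with i | i <;> rcases j with j | j <;> fin_cases i <;> fin_cases j <;> first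
    | (refine key _ _ ?_; simp [rk]; done)
    | assumption
    | (simp only [Fin.zero_eta, Fin.mk_one]; first
        | rw [a1, b1, h1]
        | rw [a2, b2, h1, h2, h3])

theorem exists_sylow_uniGroup [Finite K] (p : ℕ) [Fact p.Prime] [CharP K p] :
    ∃ P : Sylow p Sp4, (P : Subgroup Sp4) = uniGroup := by
  haveI : Finite Sp4 := Finite.of_injective (fun X => (X.1 : Matrix _ _ K)) Subtype.val_injective
  obtain ⟨P, hP⟩ := (CfsgLib.Sp.isPGroup_uniGroup (m := 2) (F := K) (p := p)).exists_le_sylow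
  refine ⟨P, by_contra fun hne => ?_⟩
  haveI : Group.IsNilpotent (P : Subgroup Sp4) := P.2.isNilpotent
  obtain ⟨g, ⟨hgP, hgN⟩, hgU⟩ :=
    SetLike.exists_of_lt (CfsgLib.Fusion.lt_inf_normalizer hP (Ne.symm hne))
  have hup := CfsgLib.FusionCharP.Symplectic.upper_of_normalizes
    (fun u hu => (Subgroup.mem_normalizer_iff.1 hgN u).1 hu)
    (fun u hu => (Subgroup.mem_normalizer_iff.1 hgN _).2 (by simpa [mul_assoc] using hu))
  obtain ⟨k, hk⟩ := P.2 ⟨g, hgP⟩
  refine hgU (CfsgLib.FusionCharP.Symplectic.mem_uni_of_upper hup fun a =>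
    CfsgLib.FusionCharP.Symplectic.eq_one_of_pow p (k := k) ?_)
  rw [← (CfsgLib.FusionCharP.Symplectic.upper_pow hup (p ^ k)).2 a,
    show g ^ p ^ k = 1 from congrArg Subtype.val hk]
  exact Matrix.one_apply_eq a

theorem exists_coord {S : Subgroup Ω} [Finite K] (p : ℕ) [Fact p.Prime] [CharP K p]
    (T : Sylow p Sp4) (e : ↥S ≃* ↥(T : Subgroup Sp4)) : Nonempty (Coord S K) := by
  classical
  haveI : Finite Sp4 := Finite.of_injective (fun X => (X.1 : Matrix _ _ K)) Subtype.val_injective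
  obtain ⟨P, hP⟩ := exists_sylow_uniGroup (K := K) p
  set E : ↥S ≃* ↥(uniGroup : Subgroup Sp4) :=
    e.trans ((T.equiv P).trans (MulEquiv.subgroupCongr hP))
  set m : Ω → Matrix (Fin 2 ⊕ Fin 2) (Fin 2 ⊕ Fin 2) K :=
    fun x => if h : x ∈ S then (E ⟨x, h⟩ : Sp4).1 else 1 with hm
  have hval : ∀ {x} (h : x ∈ S), m x = (E ⟨x, h⟩ : Sp4).1 := fun h => by simp [hm, h]
  have huni : ∀ {x}, x ∈ S → IsUni (m x) := fun h => by rw [hval h]; exact (E ⟨_, h⟩).2
  have hmul : ∀ {x y}, x ∈ S → y ∈ S → m (x * y) = m x * m y := fun {x y} hx hy => by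
    rw [hval hx, hval hy, hval (S.mul_mem hx hy), show (⟨x * y, S.mul_mem hx hy⟩ : S) =
      ⟨x, hx⟩ * ⟨y, hy⟩ from rfl, map_mul]
    rfl
  refine ⟨{
    t := fun x => m x (.inl 0) (.inl 1)
    u := fun x => m x (.inl 1) (.inr 1)
    v := fun x => m x (.inl 0) (.inr 1)
    w := fun x => m x (.inl 0) (.inr 0) + m x (.inl 0) (.inl 1) * m x (.inl 0) (.inr 1)
    t_mul := ?t_mul, u_mul := ?u_mul, v_mul := ?v_mul, w_mul := ?w_mul
    ext := ?ext_h, surj := ?surj_h }⟩
  case ext_h =>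
    intro x y hx hy h1 h2 h3 h4
    rw [h1, h3] at h4
    have h5 := uni_ext (X := (E ⟨x, hx⟩ : Sp4)) (Y := (E ⟨y, hy⟩ : Sp4)) (E ⟨x, hx⟩).2 (E ⟨y, hy⟩).2
      (by rw [← hval, ← hval]; exact h1) (by rw [← hval, ← hval]; exact h2)
      (by rw [← hval, ← hval]; exact h3) (by rw [← hval, ← hval]; exact add_right_cancel h4)
    exact congrArg Subtype.val (E.injective (Subtype.ext h5))
  case surj_h =>
    intro a b c d
    refine ⟨E.symm ⟨⟨_, uniMat_mem a b c d⟩, uniMat_uni a b c d⟩, (E.symm _).2, ?_⟩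
    simp only [hval (E.symm _).2, Subtype.coe_eta, MulEquiv.apply_symm_apply]
    simp [uniMat, Matrix.fromBlocks]
  all_goals
    intro x y hx hy
    have key : ∀ {z} (_ : z ∈ S),
        m z (.inl 0) (.inl 0) = 1 ∧ m z (.inl 1) (.inl 1) = 1 ∧ m z (.inl 1) (.inl 0) = 0 ∧
        m z (.inr 1) (.inr 1) = 1 ∧ m z (.inr 0) (.inr 0) = 1 ∧ m z (.inr 0) (.inl 1) = 0 ∧
        m z (.inr 1) (.inl 1) = 0 ∧ m z (.inr 0) (.inr 1) = 0 ∧
        m z (.inr 1) (.inr 0) = -m z (.inl 0) (.inl 1) ∧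
        m z (.inl 1) (.inr 0) =
          m z (.inl 0) (.inr 1) - m z (.inl 0) (.inl 1) * m z (.inl 1) (.inr 1) := by
      intro z hz
      have h' := uni_entries (X := (E ⟨z, hz⟩ : Sp4)) (E ⟨z, hz⟩).2
      rw [← hval hz] at h'
      have H := huni hz
      refine ⟨?_, ?_, ?_, ?_, ?_, ?_, ?_, ?_, h'⟩ <;>
        (rw [H _ _ (by simp [rk])]; simp)
    obtain ⟨a1, a2, a3, a4, a5, a6, a7, a8, a9, a10⟩ := key hx
    obtain ⟨b1, b2, b3, b4, b5, b6, b7, b8, b9, b10⟩ := key hy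
    simp only [hmul hx hy, Matrix.mul_apply, Fintype.sum_sum_type, Fin.sum_univ_two, a1, a2, a3, a4, a5,
      a6, a7, a8, a9, a10, b1, b2, b3, b4, b5, b6, b7, b8, b9, b10]
    ring

end Matrices

end CfsgLib.SylowLie.SpFour
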