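import Cfsg.Agent.Lib.SylowLie.SpFour.Tools

/-!
# The essential subgroups of a system with central core
-/

set_option autoImplicit false
set_option linter.style.haveILetI false
set_option maxHeartbeats 1600000

open Subgroup
open scoped Classical

namespace CfsgLib.SylowLie.SpFour

open CfsgLib.Fusion
open Cfsg (FusionSystem autInducedBy pElementClosure)
open Cfsg.FusionSystem (normalizerIn centralizerIn)

variable {Ω : Type*} [Group Ω] {S : Subgroup Ω} [Finite S] {F : FusionSystem S} {p : ℕ}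
  [Fact p.Prime] {K : Type*} [Field K] {P : Subgroup Ω}

theorem exists_ne_one_core (hQ : F.core ≠ ⊥) : ∃ q ∈ F.core, q ≠ 1 := by
  obtain ⟨q, hq⟩ := (F.core.ne_bot_iff_exists_ne_one).1 hQ
  exact ⟨q, q.2, fun h => hq (Subtype.ext h)⟩

theorem monotone_two {Z D : Subgroup Ω} (h : Z ≤ D) :
    Monotone (![⊥, Z, D] : Fin 3 → Subgroup Ω) := by
  refine Fin.monotone_iff_le_succ.2 fun i => ?_
  fin_cases i
  · exact bot_le
  · exact h

/-- An element stabilising a two step series lies in the essential subgroup. -/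
theorem mem_of_series_two (hS : IsPGroup p S) (hE : F.IsEssential p P) {Z : Subgroup Ω} (hZP : Z ≤ P)
    (hZ : ∀ α ∈ F.autGroup P, ∀ x ∈ Z, autFun α x ∈ Z) {s : Ω} (hs : s ∈ S)
    (h0 : ∀ x ∈ Z, s * x * s⁻¹ = x) (h1 : ∀ x ∈ P, x⁻¹ * (s * x * s⁻¹) ∈ Z)
    (h1' : ∀ x ∈ P, x⁻¹ * (s⁻¹ * x * s) ∈ Z) : s ∈ P := by
  have hsN : s ∈ Subgroup.normalizer (P : Set Ω) := by
    refine Subgroup.mem_normalizer_iff.2 fun x => ⟨fun hx => ?_, fun hx => ?_⟩
    · have h := mul_mem hx (hZP (h1 x hx))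
      rwa [mul_inv_cancel_left] at h
    · have h := mul_mem hx (hZP (h1' _ hx))
      rw [mul_inv_cancel_left] at h
      simpa [mul_assoc] using h
  refine mem_of_series hS hE (n := 2) (Ws := ![⊥, Z, P]) rfl rfl (monotone_two hZP) ?_ hs hsN ?_
  · intro j a ha
    fin_cases j
    · intro x hx
      have hx1 : x = 1 := Subgroup.mem_bot.1 hx
      subst hx1
      exact Subgroup.mem_bot.2 (autFun_map_one a)
    · exact hZ a ha
    · exact fun x hx => autFun_mem a hx
  · intro j
    fin_cases j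
    · intro x hx
      show x⁻¹ * (s * x * s⁻¹) ∈ (⊥ : Subgroup Ω)
      rw [Subgroup.mem_bot, h0 x hx, inv_mul_cancel]
    · exact h1

theorem not_le_essential (hS : IsPGroup p S) (hF : F.IsSaturated p) (hE : F.IsEssential p P) :
    ¬ S ≤ P := fun h =>
  ne_self_of_isEssential hS hF hE (le_antisymm hE.1.1 h)

theorem conj_center {s z : Ω} (hs : s ∈ S) (hz : z ∈ centralizerIn S S) : s * z * s⁻¹ = z := by
  rw [Subgroup.mem_centralizer_iff.1 hz.2 s hs, mul_inv_cancel_right]

variable (c : Coord S K)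

include c in
/-- Characteristic two: the essential subgroups are the two elementary abelian subgroups. -/
theorem essential_two (hS : IsPGroup p S) (hF : F.IsSaturated p) (h2 : (2 : K) = 0)
    (hE : F.IsEssential p P) : P = c.grpA ∨ P = c.line 0 := by
  have hPS := hE.1.1
  have hZP := center_le_essential hE
  by_cases hA : P ≤ c.grpA
  · exact Or.inl (le_antisymm hA fun x hx => centralizerIn_le_of_isCentric hE.1
      ⟨hx.1, Subgroup.mem_centralizer_iff.2 fun y hy => (c.commute_grpA (hA hy) hx).eq⟩)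
  by_cases hB : P ≤ c.line 0
  · exact Or.inr (le_antisymm hB fun x hx => centralizerIn_le_of_isCentric hE.1
      ⟨hx.1, Subgroup.mem_centralizer_iff.2 fun y hy => (c.commute_line_zero h2 (hB hy) hx).eq⟩)
  exfalso
  obtain ⟨x, hxP, hxt, hxu⟩ : ∃ x ∈ P, c.t x ≠ 0 ∧ c.u x ≠ 0 := by
    obtain ⟨x, hxP, hx⟩ := SetLike.not_le_iff_exists.1 hA
    obtain ⟨y, hyP, hy⟩ := SetLike.not_le_iff_exists.1 hB
    have hxt : c.t x ≠ 0 := fun h => hx ⟨hPS hxP, h⟩
    have hyu : c.u y ≠ 0 := fun h => hy ⟨hPS hyP, by rw [h, zero_mul]⟩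
    by_cases hxu : c.u x = 0
    · by_cases hyt : c.t y = 0
      · exact ⟨x * y, mul_mem hxP hyP, by rw [c.t_mul (hPS hxP) (hPS hyP), hyt, add_zero]; exact hxt,
          by rw [c.u_mul (hPS hxP) (hPS hyP), hxu, zero_add]; exact hyu⟩
      · exact ⟨y, hyP, hyt, hyu⟩
    · exact ⟨x, hxP, hxt, hxu⟩
  -- elements commuting with `x`
  have key : ∀ g ∈ P, Commute x g →
      g ∈ centralizerIn S S ∨ (c.t g = c.t x ∧ c.u g = c.u x) := fun g hg hxg => by
    obtain ⟨e1, e2⟩ := (c.commute_iff (hPS hxP) (hPS hg)).1 hxg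
    simp only [h2, zero_mul, zero_add] at e2
    have h1 : c.t g * (c.t x - c.t g) * c.u x = 0 := by linear_combination e2 - (c.t x) * e1
    rcases mul_eq_zero.1 ((mul_eq_zero.1 h1).resolve_right hxu) with h | h
    · exact Or.inl (c.mem_center.2 ⟨hPS hg, h, by simpa [h, hxt] using e1, by rw [h2, zero_mul]⟩)
    · have h' : c.t g = c.t x := (sub_eq_zero.1 h).symm
      exact Or.inr ⟨h', mul_left_cancel₀ hxt (by rw [e1, h'])⟩
  have hinv : ∀ α ∈ F.autGroup P, ∀ z ∈ centralizerIn S S, autFun α z ∈ centralizerIn S S := by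
    intro α _ z hz
    have hαz := autFun_mem α (hZP hz)
    by_cases hxc : ∀ y ∈ P, Commute x y
    · rcases key _ hαz (hxc _ hαz) with h | ⟨h1, h1'⟩
      · exact h
      exfalso
      obtain ⟨hzS, zt, zu, -⟩ := c.mem_center.1 hz
      have hz2 : z * z = 1 := (c.eq_one_iff (S.mul_mem hzS hzS)).2
        ⟨by rw [c.t_mul hzS hzS, zt, add_zero], by rw [c.u_mul hzS hzS, zu, add_zero],
          by rw [c.v_mul hzS hzS, zt]; linear_combination (c.v z) * h2,
          by rw [c.w_mul hzS hzS, zt]; linear_combination (c.w z) * h2⟩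
      have h := congrArg (autFun α) hz2
      rw [autFun_map_mul α (hZP hz) (hZP hz), autFun_map_one] at h
      have hv := congrArg c.v h
      rw [c.v_mul (hPS hαz) (hPS hαz), c.v_one, h1, h1'] at hv
      exact mul_ne_zero hxt hxu (by linear_combination hv - (c.v (autFun α z)) * h2)
    · have hzc : ∀ y ∈ P, Commute y z := fun y hy =>
        Subgroup.mem_centralizer_iff.1 hz.2 y (hPS hy)
      have hc := fun y (hy : y ∈ P) => autFun_central α (hZP hz) hzc hy
      rcases key _ hαz (hc x hxP) with h | ⟨h1, h1'⟩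
      · exact h
      refine absurd (fun y hy => ?_) hxc
      obtain ⟨e1, e2⟩ := (c.commute_iff (hPS hαz) (hPS hy)).1 (hc y hy).symm
      rw [h1, h1'] at e1 e2
      simp only [h2, zero_mul, zero_add] at e2
      exact (c.commute_iff (hPS hxP) (hPS hy)).2 ⟨e1, by simpa [h2] using e2⟩
  refine not_le_essential hS hF hE fun s hs => mem_of_series_two hS hE hZP hinv hs
    (fun z hz => conj_center hs hz) (fun y hy => c.comm_mem_center hs (hPS hy) (by rw [h2, zero_mul]))
    fun y hy => ?_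
  have h := c.comm_mem_center (S.inv_mem hs) (hPS hy) (by rw [h2, zero_mul])
  rwa [inv_inv] at h

include c in
/-- An element of `D` stabilises the series through the centre. -/
theorem mem_of_mem_grpD (hS : IsPGroup p S) (hE : F.IsEssential p P)
    (hinv : ∀ α ∈ F.autGroup P, ∀ z ∈ centralizerIn S S, autFun α z ∈ centralizerIn S S)
    {d : Ω} (hd : d ∈ c.grpD) : d ∈ P := by
  refine mem_of_series_two hS hE (center_le_essential hE) hinv hd.1
    (fun z hz => conj_center hd.1 hz)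
    (fun x hx => c.comm_mem_center hd.1 (hE.1.1 hx) (by rw [hd.2.1, hd.2.2]; ring)) fun x hx => ?_
  have hd' := c.grpD.inv_mem hd
  have h := c.comm_mem_center hd'.1 (hE.1.1 hx) (by rw [hd'.2.1, hd'.2.2]; ring)
  rwa [inv_inv] at h

variable [CharP K p]

include c in
/-- An abelian centraliser of an element outside `A` is not essential. -/
theorem no_abelian_essential (hS : IsPGroup p S) (hF : F.IsSaturated p) (hp : p ≠ 2)
    (hQZ : F.core ≤ centralizerIn S S) (hQ : F.core ≠ ⊥) (hE : F.IsEssential p P) {y : Ω}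
    (hyP : y ∈ P) (hyt : c.t y ≠ 0) (hyc : ∀ x ∈ P, Commute x y) : False := by
  haveI := finite_field c
  have hPS := hE.1.1
  have hn := hE.2.1
  have hZP := center_le_essential hE
  have h2 : (2 : K) ≠ 0 := two_ne_zero_of_ne hp
  have hyS := hPS hyP
  set l := c.u y / c.t y with hl
  have hu0 : c.u y = l * c.t y := by rw [hl, div_mul_cancel₀ _ hyt]
  set μ := (c.v y - l * c.t y ^ 2 / 2) / c.t y with hμ
  have hv0 : c.v y = μ * c.t y + l * c.t y ^ 2 / 2 := by rw [hμ, div_mul_cancel₀ _ hyt]; ring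
  have hco : ∀ x ∈ S, Commute x y →
      c.u x = l * c.t x ∧ c.v x = μ * c.t x + l * c.t x ^ 2 / 2 := by
    intro x hx hxy
    obtain ⟨e1, e2⟩ := (c.commute_iff hx hyS).1 hxy
    have hux : c.u x = l * c.t x := mul_left_cancel₀ hyt (by rw [← e1, hu0]; ring)
    refine ⟨hux, mul_left_cancel₀ (mul_ne_zero h2 hyt) ?_⟩
    rw [hu0, hv0, hux] at e2
    field_simp at e2 ⊢
    linear_combination -e2
  have habel : ∀ a ∈ S, ∀ b ∈ S, c.u a = l * c.t a → c.v a = μ * c.t a + l * c.t a ^ 2 / 2 →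
      c.u b = l * c.t b → c.v b = μ * c.t b + l * c.t b ^ 2 / 2 → Commute a b := by
    intro a ha b hb a1 a2 b1 b2
    refine (c.commute_iff ha hb).2 ⟨by rw [a1, b1]; ring, ?_⟩
    rw [a1, a2, b1, b2]; field_simp; ring
  have hmem : ∀ x, x ∈ P ↔ x ∈ S ∧ c.u x = l * c.t x ∧ c.v x = μ * c.t x + l * c.t x ^ 2 / 2 := by
    intro x
    refine ⟨fun hx => ⟨hPS hx, hco x (hPS hx) (hyc x hx)⟩, fun ⟨hx, e1, e2⟩ => ?_⟩
    refine centralizerIn_le_of_isCentric hE.1 ⟨hx, Subgroup.mem_centralizer_iff.2 fun z hz => ?_⟩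
    obtain ⟨z1, z2⟩ := hco z (hPS hz) (hyc z hz)
    exact (habel z (hPS hz) x hx z1 z2 e1 e2).eq
  obtain ⟨d, hdS, hdt, hdu, hdv, -⟩ := c.surj 0 0 1 0
  have hdP : d ∉ P := fun h => by
    have := ((hmem d).1 h).2.2
    rw [hdt, hdv] at this
    simp at this
  by_cases h3 : p = 3 → l = 0
  swap
  · -- the centre consists of the elements of order dividing three
    push Not at h3
    obtain ⟨rfl, hl0⟩ := h3
    refine hdP (mem_of_mem_grpD c hS hE (fun α _ z hz => ?_) ⟨hdS, hdt, hdu⟩)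
    obtain ⟨hzS, zt, zu, -⟩ := c.mem_center.1 hz
    have hz3 : z ^ 3 = 1 := c.pow_char_eq_one (p := 3) (by norm_num) hzS fun _ => by rw [zt, zero_mul]
    have hαz := autFun_mem α (hZP hz)
    obtain ⟨hαS, au, av⟩ := (hmem _).1 hαz
    have h := congrArg (fun r => c.w (autFun α r)) hz3
    simp only [autFun_pow_map α (hZP hz), c.w_pow_three hαS, autFun_map_one, c.w_one, au] at h
    have ht : c.t (autFun α z) = 0 := by
      simpa [h2, hl0] using h
    exact c.mem_center.2 ⟨hαS, ht, by rw [au, ht, mul_zero],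
      by rw [av, ht]; simp⟩
  -- coordinates on `P`
  set γ : K := if p = 3 then 0 else l / 3 with hγ
  have hγ3 : 3 * γ = l := by
    rw [hγ]
    split_ifs with h
    · rw [h3 h, mul_zero]
    · have : (3 : K) ≠ 0 := fun h0 => h (by
        have h0' : ((3 : ℕ) : K) = 0 := by exact_mod_cast h0
        exact (Nat.prime_dvd_prime_iff_eq Fact.out Nat.prime_three).1 ((CharP.cast_eq_zero_iff K p 3).1 h0'))
      field_simp
  let L : Layer F P (K × K) :=
    { f := fun x => (c.t x, c.w x - (μ * c.t x ^ 2 + γ * c.t x ^ 3))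
      f_mul := fun {x z} hx hz => by
        obtain ⟨hxS, xu, xv⟩ := (hmem x).1 hx
        obtain ⟨hzS, zu, zv⟩ := (hmem z).1 hz
        refine Prod.ext (c.t_mul hxS hzS) ?_
        simp only [Prod.mk_add_mk]
        rw [c.w_mul hxS hzS, c.t_mul hxS hzS, zu, zv]
        field_simp
        linear_combination (-(c.t x ^ 2 * c.t z + c.t x * c.t z ^ 2)) * hγ3
      surj := fun ⟨a, b⟩ => by
        obtain ⟨x, hx, e1, e2, e3, e4⟩ :=
          c.surj a (l * a) (μ * a + l * a ^ 2 / 2) (b + (μ * a ^ 2 + γ * a ^ 3))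
        refine ⟨x, (hmem x).2 ⟨hx, by rw [e1, e2], by rw [e1, e3]⟩, ?_⟩
        rw [e1, e4]
        simp
      inv := fun α hα x hx h => by
        obtain ⟨hxS, xu, xv⟩ := (hmem x).1 hx
        simp only [Prod.mk_eq_zero] at h ⊢
        obtain ⟨ht, hw⟩ := h
        have : x = 1 := (c.eq_one_iff hxS).2 ⟨ht, by rw [xu, ht, mul_zero], by rw [xv, ht]; simp,
          by simpa [ht] using hw⟩
        subst this
        rw [autFun_map_one, c.t_one, c.w_one]
        simp }
  have hfinj : ∀ x ∈ P, ∀ z ∈ P, L.f x = L.f z → x = z := fun x hx z hz h => by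
    obtain ⟨hxS, xu, xv⟩ := (hmem x).1 hx
    obtain ⟨hzS, zu, zv⟩ := (hmem z).1 hz
    obtain ⟨ht, hw⟩ := Prod.ext_iff.1 h
    have ht' : c.t x = c.t z := ht
    exact c.ext hxS hzS ht' (by rw [xu, zu, ht']) (by rw [xv, zv, ht'])
      (by simpa [L, ht'] using hw)
  have hN : normalizerIn S P = c.line l := by
    refine le_antisymm ?_ ?_ <;> intro s hs
    · refine ⟨hs.1, ?_⟩
      have h := ((hmem _).1 ((Subgroup.mem_normalizer_iff.1 hs.2 y).1 hyP)).2.2
      rw [c.v_conj hs.1 hyS, c.t_conj hs.1 hyS, hu0, hv0] at h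
      exact mul_left_cancel₀ hyt (by linear_combination -h)
    · have hfix : ∀ s ∈ c.line l, ∀ x ∈ P, s * x * s⁻¹ ∈ P := fun s hs x hx => by
        obtain ⟨hxS, xu, xv⟩ := (hmem x).1 hx
        refine (hmem _).2 ⟨c.conj_mem hs.1 hxS, ?_, ?_⟩
        · rw [c.u_conj hs.1 hxS, c.t_conj hs.1 hxS, xu]
        · rw [c.v_conj hs.1 hxS, c.t_conj hs.1 hxS, xu, xv, hs.2]; ring
      refine ⟨hs.1, Subgroup.mem_normalizer_iff.2 fun x => ⟨hfix s hs x, fun hx => ?_⟩⟩
      have := hfix _ (inv_mem hs) _ hx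
      simpa [mul_assoc] using this
  have hrel : P.relIndex (normalizerIn S P) = Nat.card K := by
    rw [hN]
    refine relIndex_eq_card (fun x => c.v x - (μ * c.t x + l * c.t x ^ 2 / 2)) ?_ ?_ ?_
    · intro a ha b hb
      show c.v (a * b) - _ = c.v a - _ + (c.v b - _)
      rw [c.v_mul ha.1 hb.1, c.t_mul ha.1 hb.1, hb.2]
      field_simp
      ring
    · intro m
      obtain ⟨x, hx, e1, e2, e3, -⟩ := c.surj 0 0 m 0
      exact ⟨x, ⟨hx, by rw [e1, e2, mul_zero]⟩, by rw [e1, e3]; simp⟩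
    · intro x hx
      rw [sub_eq_zero, hmem]
      exact ⟨fun h => ⟨hx.1, hx.2, h⟩, fun h => h.2.2⟩
  obtain ⟨Fk, iFk, iFkf, hcard, ψ, hψs, hψ0, -, -⟩ := exists_natural_layer hS hF hE L (fun v => by
      rw [nsmul_eq_mul]; ext <;> simp [CharP.cast_eq_zero])
    (fun n hn x hx => by
      obtain ⟨hnS, nu, nv⟩ := (hmem n).1 hn
      obtain ⟨hxS, xu, xv⟩ := (hmem x).1 hx
      rw [(habel n hnS x hxS nu nv xu xv).eq, mul_inv_cancel_right])
    (fun α _ h => by
      have : α = 1 := autFun_ext fun x hx => by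
        rw [autFun_one hx]; exact hfinj _ (autFun_mem α hx) _ hx (h x hx)
      subst this
      exact one_mem _)
    (fun s hs r hr x hx => by
      obtain ⟨hxS, xu, xv⟩ := (hmem x).1 hx
      have hsr := c.conj_mem hs.1 hxS
      have hrx := c.conj_mem hr.1 hxS
      rw [hN] at hs hr
      simp only [L]
      rw [c.t_conj hs.1 hrx, c.w_conj hs.1 hrx, c.t_conj hr.1 hsr, c.w_conj hr.1 hsr,
        c.t_conj hr.1 hxS, c.v_conj hr.1 hxS, c.w_conj hr.1 hxS, c.u_conj hr.1 hxS,
        c.t_conj hs.1 hxS, c.v_conj hs.1 hxS, c.w_conj hs.1 hxS, c.u_conj hs.1 hxS, xu, hs.2, hr.2]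
      refine Prod.ext rfl ?_
      simp only
      ring)
    (by
      rw [hrel, Nat.card_prod]
      refine Nat.mul_le_mul_left _ (Nat.card_le_card_of_injective (fun b => ⟨(0, b), ?_⟩) ?_)
      · intro s hs x hx hxv
        obtain ⟨hxS, xu, xv⟩ := (hmem x).1 hx
        have ht : c.t x = 0 := congrArg Prod.fst hxv
        have hz : x ∈ centralizerIn S S :=
          c.mem_center.2 ⟨hxS, ht, by rw [xu, ht, mul_zero], by rw [xv, ht]; simp⟩
        rw [conj_center hs.1 hz]
        exact hxv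
      · intro a b h
        simpa using h)
  obtain ⟨q, hq, hq1⟩ := exists_ne_one_core hQ
  have hqP := hZP (hQZ hq)
  have h0 : ψ (L.f q) = 0 := (hψ0 _).2 fun α hα x hx hxq => by
    rw [hfinj x hx q hqP hxq, fix_core hS hF hQZ hn hα hqP hq]
  have h1 : L.f q = 0 := eq_zero_of_card_eq hψs (by
    rw [Nat.card_fun, Nat.card_fin, Nat.card_eq_fintype_card (α := Fk), hcard, hrel,
      Nat.card_prod, pow_two]) h0
  exact hq1 (hfinj q hqP 1 P.one_mem (by rw [h1, L.f_one]))

include c in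
/-- Odd characteristic: the essential subgroups are `A` and preimages of lines outside `A`. -/
theorem essential_odd (hS : IsPGroup p S) (hF : F.IsSaturated p) (hp : p ≠ 2)
    (hQZ : F.core ≤ centralizerIn S S) (hQ : F.core ≠ ⊥) (hE : F.IsEssential p P) :
    P = c.grpA ∨ ∃ l, P = c.line l ∧ (p = 3 → l = 0) ∧
      ∀ α ∈ F.autGroup P, ∀ z ∈ centralizerIn S S, autFun α z ∈ centralizerIn S S := by
  haveI := finite_field c
  have hPS := hE.1.1
  have hZP := center_le_essential hE
  have h2 : (2 : K) ≠ 0 := two_ne_zero_of_ne hp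
  by_cases hA : P ≤ c.grpA
  · exact Or.inl (le_antisymm hA fun x hx => centralizerIn_le_of_isCentric hE.1
      ⟨hx.1, Subgroup.mem_centralizer_iff.2 fun y hy => (c.commute_grpA (hA hy) hx).eq⟩)
  refine Or.inr ?_
  obtain ⟨x₀, hx₀, hx₀'⟩ := SetLike.not_le_iff_exists.1 hA
  have hx₀t : c.t x₀ ≠ 0 := fun h => hx₀' ⟨hPS hx₀, h⟩
  have hinv : ∀ α ∈ F.autGroup P, ∀ z ∈ centralizerIn S S, autFun α z ∈ centralizerIn S S := by
    intro α _ z hz
    have hαz := autFun_mem α (hZP hz)
    have hc : ∀ y ∈ P, Commute y (autFun α z) := fun y hy =>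
      autFun_central α (hZP hz) (fun w hw => Subgroup.mem_centralizer_iff.1 hz.2 w (hPS hw)) hy
    by_cases ht : c.t (autFun α z) = 0
    · obtain ⟨e1, e2⟩ := (c.commute_iff (hPS hx₀) (hPS hαz)).1 (hc x₀ hx₀)
      rw [ht, zero_mul] at e1
      have hu := (mul_eq_zero.1 e1).resolve_left hx₀t
      rw [ht, hu] at e2
      exact c.mem_center.2 ⟨hPS hαz, ht, hu,
        (mul_eq_zero.1 (show c.t x₀ * (2 * c.v (autFun α z)) = 0 by linear_combination e2)).resolve_left hx₀t⟩
    · exact absurd hαz fun h => no_abelian_essential c hS hF hp hQZ hQ hE h ht hc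
  have hDP : c.grpD ≤ P := fun d hd => mem_of_mem_grpD c hS hE hinv hd
  have hnotD : (∀ α ∈ F.autGroup P, ∀ d ∈ c.grpD, autFun α d ∈ c.grpD) → False := fun hD => by
    refine not_le_essential hS hF hE fun s hs => mem_of_series hS hE (n := 3)
      (Ws := ![⊥, centralizerIn S S, c.grpD, P]) rfl rfl ?_ ?_ hs
      (c.le_normalizerIn_of_grpD_le hPS hDP hs).2 ?_
    · refine Fin.monotone_iff_le_succ.2 fun i => ?_
      fin_cases i
      · exact bot_le
      · exact c.center_le_grpD
      · exact hDP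
    · intro j a ha
      fin_cases j
      · intro x hx
        have hx1 : x = 1 := Subgroup.mem_bot.1 hx
        subst hx1
        exact Subgroup.mem_bot.2 (autFun_map_one a)
      · exact hinv a ha
      · exact hD a ha
      · exact fun x hx => autFun_mem a hx
    · intro j
      fin_cases j
      · intro x hx
        show x⁻¹ * (s * x * s⁻¹) ∈ (⊥ : Subgroup Ω)
        rw [Subgroup.mem_bot, conj_center hs hx, inv_mul_cancel]
      · intro x hx
        exact c.comm_mem_center hs hx.1 (by rw [hx.2.1, hx.2.2]; ring)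
      · intro x hx
        exact c.comm_mem_grpD hs (hPS hx)
  have hcoll : ∀ x ∈ P, ∀ y ∈ P, c.t x * c.u y = c.t y * c.u x := by
    by_contra! hne
    obtain ⟨x, hx, y, hy, hxy⟩ := hne
    refine hnotD fun α hα d hd => ?_
    have hdP := hDP hd
    have key : ∀ z ∈ P, c.t (autFun α d) * c.u z = c.t z * c.u (autFun α d) := by
      intro z hz
      have hw := autFun_mem α⁻¹ hz
      have h1 := c.comm_mem_center hd.1 (hPS hw) (by rw [hd.2.1, hd.2.2]; ring)
      have h3 := hinv α hα _ h1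
      rw [autFun_map_mul α (inv_mem hw)
          (mul_mem (mul_mem hdP hw) (inv_mem hdP)), autFun_map_conj α hdP hw,
        autFun_inv_apply α hz, show autFun α (autFun α⁻¹ z)⁻¹ = z⁻¹ from
          eq_inv_of_mul_eq_one_left (by
            conv_lhs => arg 2; rw [← autFun_inv_apply α hz]
            rw [← autFun_map_mul α (inv_mem hw) hw, inv_mul_cancel, autFun_map_one])] at h3
      have h4 := (c.mem_center.1 h3).2.2.2
      rw [(c.comm_coords (hPS (autFun_mem α hdP)) (hPS hz)).2.2] at h4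
      exact sub_eq_zero.1 ((mul_eq_zero.1 h4).resolve_left h2)
    have e1 := key x hx
    have e2 := key y hy
    refine ⟨hPS (autFun_mem α hdP), ?_, ?_⟩
    · exact (mul_eq_zero.1 (show c.t (autFun α d) * (c.t x * c.u y - c.t y * c.u x) = 0 by
        linear_combination (c.t x) * e2 - (c.t y) * e1)).resolve_right (sub_ne_zero.2 hxy)
    · exact (mul_eq_zero.1 (show c.u (autFun α d) * (c.t x * c.u y - c.t y * c.u x) = 0 by
        linear_combination (c.u x) * e2 - (c.u y) * e1)).resolve_right (sub_ne_zero.2 hxy)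
  set l := c.u x₀ / c.t x₀ with hl
  have hu0 : c.u x₀ = l * c.t x₀ := by rw [hl, div_mul_cancel₀ _ hx₀t]
  have hsub : P ≤ c.line l := fun x hx =>
    ⟨hPS hx, mul_left_cancel₀ hx₀t (by rw [hcoll x₀ hx₀ x hx, hu0]; ring)⟩
  have hline : P = c.line l := by
    refine le_antisymm hsub fun a ha => ?_
    by_contra haP
    refine hnotD fun α hα d hd => ?_
    by_cases hdZ : d ∈ centralizerIn S S
    · exact c.center_le_grpD (hinv α hα d hdZ)
    have hdP := hDP hd
    set g := autFun α d with hg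
    have hgP : g ∈ P := autFun_mem α hdP
    by_contra hgD
    have hgt : c.t g ≠ 0 := fun h =>
      hgD ⟨hPS hgP, h, by rw [(hsub hgP).2, h, mul_zero]⟩
    have hcard : Nat.card (K × K) ≤ Nat.card {y : Ω // y ∈ P ∧ Commute g y} := by
      rw [card_commute_autFun α hdP]
      choose φ hφ using fun ab : K × K => c.surj 0 0 ab.1 ab.2
      haveI : Finite P := finite_of_le hPS
      haveI : Finite {y : Ω // y ∈ P ∧ Commute d y} :=
        Finite.of_injective (fun y => (⟨y.1, y.2.1⟩ : P)) fun a b h => Subtype.ext (congrArg Subtype.val h :)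
      refine Nat.card_le_card_of_injective (fun ab => ⟨φ ab, ?_, ?_⟩) fun a b h => ?_
      · exact hDP ⟨(hφ ab).1, (hφ ab).2.1, (hφ ab).2.2.1⟩
      · exact (c.commute_grpA (c.grpD_le_grpA hd) ⟨(hφ ab).1, (hφ ab).2.1⟩)
      · have h' : φ a = φ b := congrArg Subtype.val h
        exact Prod.ext (by rw [← (hφ a).2.2.2.1, h', (hφ b).2.2.2.1])
          (by rw [← (hφ a).2.2.2.2, h', (hφ b).2.2.2.2])
    have hinj : Function.Injective fun y : {y : Ω // y ∈ P ∧ Commute g y} => (c.t y.1, c.w y.1) := by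
      rintro ⟨y, hy, hgy⟩ ⟨z, hz, hgz⟩ h
      obtain ⟨ht, hw⟩ := Prod.ext_iff.1 h
      simp only at ht hw
      have hu : c.u y = c.u z := by rw [(hsub hy).2, (hsub hz).2, ht]
      refine Subtype.ext (c.ext (hPS hy) (hPS hz) ht hu ?_ hw)
      obtain ⟨-, e1⟩ := (c.commute_iff (hPS hgP) (hPS hy)).1 hgy
      obtain ⟨-, e2⟩ := (c.commute_iff (hPS hgP) (hPS hz)).1 hgz
      rw [hu, ht] at e1
      exact mul_left_cancel₀ (mul_ne_zero h2 hgt) (by linear_combination e1 - e2)
    haveI : Finite {y : Ω // y ∈ P ∧ Commute g y} := Finite.of_injective _ hinj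
    obtain ⟨⟨y, hy, hgy⟩, hye⟩ :=
      ((Nat.bijective_iff_injective_and_card _).2
        ⟨hinj, le_antisymm (Nat.card_le_card_of_injective _ hinj) hcard⟩).2 (c.t a, 0)
    have hyt : c.t y = c.t a := congrArg Prod.fst hye
    have hyS := hPS hy
    have hd' : y⁻¹ * a ∈ c.grpD := by
      refine ⟨S.mul_mem (S.inv_mem hyS) ha.1, ?_, ?_⟩
      · rw [c.t_mul (S.inv_mem hyS) ha.1, c.t_inv hyS, hyt, neg_add_cancel]
      · rw [c.u_mul (S.inv_mem hyS) ha.1, c.u_inv hyS, (hsub hy).2, ha.2, hyt, neg_add_cancel]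
    exact haP (by simpa using mul_mem hy (hDP hd'))
  refine ⟨l, hline, fun h3 => ?_, hinv⟩
  subst h3
  by_contra hl0
  refine hnotD fun α _ d hd => ?_
  have hd3 : d ^ 3 = 1 := c.pow_char_eq_one (p := 3) (by norm_num) hd.1 fun _ => by rw [hd.2.1, zero_mul]
  have hg := autFun_mem α (hDP hd)
  have h := congrArg (fun r => c.w (autFun α r)) hd3
  simp only [autFun_pow_map α (hDP hd), c.w_pow_three (hPS hg), autFun_map_one, c.w_one,
    (hsub hg).2] at h
  have ht : c.t (autFun α d) = 0 := by simpa [h2, hl0] using h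
  exact ⟨hPS hg, ht, by rw [(hsub hg).2, ht, mul_zero]⟩

end CfsgLib.SylowLie.SpFour
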