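import Cfsg.Agent.Lib.SylowLie.SpFour.Coords
import Cfsg.Agent.Lib.SylowLie.Criteria
import Cfsg.Agent.Lib.Fusion.System.Generation
import Cfsg.Agent.Lib.LocalStructure.AmalgamBasic

/-!
# Subgroups of the coordinatised group and the reduction to a central core
-/

set_option autoImplicit false
set_option linter.style.haveILetI false

open Subgroup
open scoped Classical Pointwise

namespace CfsgLib.SylowLie.SpFour

open CfsgLib.Fusion
open Cfsg (FusionSystem autInducedBy pElementClosure)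
open Cfsg.FusionSystem (normalizerIn centralizerIn)

variable {Ω : Type*} [Group Ω] {S : Subgroup Ω} {K : Type*} [Field K]

namespace Coord

variable (c : Coord S K)

/-- The elements with vanishing short simple coordinate. -/
def grpA : Subgroup Ω where
  carrier := {x | x ∈ S ∧ c.t x = 0}
  one_mem' := ⟨S.one_mem, c.t_one⟩
  mul_mem' := fun {x y} hx hy =>
    ⟨S.mul_mem hx.1 hy.1, by rw [c.t_mul hx.1 hy.1, hx.2, hy.2, add_zero]⟩
  inv_mem' := fun {x} hx => ⟨S.inv_mem hx.1, by rw [c.t_inv hx.1, hx.2, neg_zero]⟩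

/-- The elements with vanishing simple coordinates. -/
def grpD : Subgroup Ω where
  carrier := {x | x ∈ S ∧ c.t x = 0 ∧ c.u x = 0}
  one_mem' := ⟨S.one_mem, c.t_one, c.u_one⟩
  mul_mem' := fun {x y} hx hy =>
    ⟨S.mul_mem hx.1 hy.1, by rw [c.t_mul hx.1 hy.1, hx.2.1, hy.2.1, add_zero],
      by rw [c.u_mul hx.1 hy.1, hx.2.2, hy.2.2, add_zero]⟩
  inv_mem' := fun {x} hx => ⟨S.inv_mem hx.1, by rw [c.t_inv hx.1, hx.2.1, neg_zero],
    by rw [c.u_inv hx.1, hx.2.2, neg_zero]⟩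

/-- The preimage of a line through the short simple root. -/
def line (l : K) : Subgroup Ω where
  carrier := {x | x ∈ S ∧ c.u x = l * c.t x}
  one_mem' := ⟨S.one_mem, by rw [c.u_one, c.t_one, mul_zero]⟩
  mul_mem' := fun {x y} hx hy =>
    ⟨S.mul_mem hx.1 hy.1, by rw [c.t_mul hx.1 hy.1, c.u_mul hx.1 hy.1, hx.2, hy.2, mul_add]⟩
  inv_mem' := fun {x} hx => ⟨S.inv_mem hx.1, by rw [c.t_inv hx.1, c.u_inv hx.1, hx.2, mul_neg]⟩

theorem mem_grpA {x : Ω} : x ∈ c.grpA ↔ x ∈ S ∧ c.t x = 0 := Iff.rfl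

theorem mem_grpD {x : Ω} : x ∈ c.grpD ↔ x ∈ S ∧ c.t x = 0 ∧ c.u x = 0 := Iff.rfl

theorem mem_line {l : K} {x : Ω} : x ∈ c.line l ↔ x ∈ S ∧ c.u x = l * c.t x := Iff.rfl

theorem grpA_le : c.grpA ≤ S := fun _ h => h.1

theorem grpD_le : c.grpD ≤ S := fun _ h => h.1

theorem line_le (l : K) : c.line l ≤ S := fun _ h => h.1

theorem mem_center {x : Ω} :
    x ∈ centralizerIn S S ↔ x ∈ S ∧ c.t x = 0 ∧ c.u x = 0 ∧ 2 * c.v x = 0 := by
  constructor
  · rintro ⟨hxS, hx⟩
    obtain ⟨y, hy, yt, yu, yv, -⟩ := c.surj 0 1 0 0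
    obtain ⟨z, hz, zt, zu, zv, -⟩ := c.surj 1 0 0 0
    obtain ⟨a1, a2⟩ := (c.commute_iff hxS hy).1 (Subgroup.mem_centralizer_iff.1 hx y hy).symm
    obtain ⟨b1, b2⟩ := (c.commute_iff hxS hz).1 (Subgroup.mem_centralizer_iff.1 hx z hz).symm
    rw [yt, yu] at a1
    rw [zt, zu] at b1
    have ht : c.t x = 0 := by linear_combination a1
    have hu : c.u x = 0 := by linear_combination -b1
    rw [zt, zu, zv, hu, ht] at b2
    exact ⟨hxS, ht, hu, by linear_combination -b2⟩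
  · rintro ⟨hxS, ht, hu, hv⟩
    refine ⟨hxS, Subgroup.mem_centralizer_iff.2 fun y hy => ((c.commute_iff hxS hy).2 ?_).eq.symm⟩
    rw [ht, hu]
    exact ⟨by ring, by linear_combination (-c.t y) * hv⟩

theorem center_le_grpD : centralizerIn S S ≤ c.grpD := fun _ h =>
  ⟨(c.mem_center.1 h).1, (c.mem_center.1 h).2.1, (c.mem_center.1 h).2.2.1⟩

theorem center_le_grpA : centralizerIn S S ≤ c.grpA := fun _ h =>
  ⟨(c.mem_center.1 h).1, (c.mem_center.1 h).2.1⟩

theorem grpD_le_grpA : c.grpD ≤ c.grpA := fun _ h => ⟨h.1, h.2.1⟩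

theorem grpD_le_line (l : K) : c.grpD ≤ c.line l := fun _ h =>
  ⟨h.1, by rw [h.2.1, h.2.2, mul_zero]⟩

theorem commute_grpA {x y : Ω} (hx : x ∈ c.grpA) (hy : y ∈ c.grpA) : Commute x y :=
  (c.commute_iff hx.1 hy.1).2 ⟨by rw [hx.2, hy.2, zero_mul, zero_mul], by rw [hx.2, hy.2]; ring⟩

theorem commute_line_zero (h2 : (2 : K) = 0) {x y : Ω} (hx : x ∈ c.line 0) (hy : y ∈ c.line 0) :
    Commute x y :=
  (c.commute_iff hx.1 hy.1).2 ⟨by rw [hx.2, hy.2]; ring, by rw [hx.2, hy.2, h2]; ring⟩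

/-- The commutator with a conjugate. -/
theorem comm_coords {s x : Ω} (hs : s ∈ S) (hx : x ∈ S) :
    c.t (x⁻¹ * (s * x * s⁻¹)) = 0 ∧ c.u (x⁻¹ * (s * x * s⁻¹)) = 0 ∧
      c.v (x⁻¹ * (s * x * s⁻¹)) = c.t s * c.u x - c.t x * c.u s := by
  have h := c.conj_mem hs hx
  refine ⟨?_, ?_, ?_⟩
  · rw [c.t_mul (S.inv_mem hx) h, c.t_inv hx, c.t_conj hs hx, neg_add_cancel]
  · rw [c.u_mul (S.inv_mem hx) h, c.u_inv hx, c.u_conj hs hx, neg_add_cancel]
  · rw [c.v_mul (S.inv_mem hx) h, c.v_inv hx, c.t_inv hx, c.u_conj hs hx, c.v_conj hs hx]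
    ring

theorem comm_mem_grpD {s x : Ω} (hs : s ∈ S) (hx : x ∈ S) : x⁻¹ * (s * x * s⁻¹) ∈ c.grpD :=
  ⟨S.mul_mem (S.inv_mem hx) (c.conj_mem hs hx), (c.comm_coords hs hx).1, (c.comm_coords hs hx).2.1⟩

theorem comm_mem_center {s x : Ω} (hs : s ∈ S) (hx : x ∈ S)
    (h : 2 * (c.t s * c.u x - c.t x * c.u s) = 0) :
    x⁻¹ * (s * x * s⁻¹) ∈ centralizerIn S S :=
  c.mem_center.2 ⟨S.mul_mem (S.inv_mem hx) (c.conj_mem hs hx), (c.comm_coords hs hx).1,
    (c.comm_coords hs hx).2.1, by rw [(c.comm_coords hs hx).2.2]; exact h⟩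

/-- A subgroup containing `D` is normalised by `S`. -/
theorem le_normalizerIn_of_grpD_le {P : Subgroup Ω} (hP : P ≤ S) (hD : c.grpD ≤ P) :
    S ≤ normalizerIn S P := by
  refine fun s hs => ⟨hs, Subgroup.mem_normalizer_iff.2 fun x => ⟨fun hx => ?_, fun hx => ?_⟩⟩
  · have h := mul_mem hx (hD (c.comm_mem_grpD hs (hP hx)))
    rwa [mul_inv_cancel_left] at h
  · have h := mul_mem hx (hD (c.comm_mem_grpD (S.inv_mem hs) (hP hx)))
    rw [mul_inv_cancel_left] at h
    simpa [mul_assoc] using h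

end Coord

section Reduction

theorem two_ne_zero_of_ne {p : ℕ} [Fact p.Prime] [CharP K p] (hp : p ≠ 2) : (2 : K) ≠ 0 :=
  Ring.two_ne_zero (by rwa [ringChar.eq K p])

variable [Finite S] {F : FusionSystem S} {p : ℕ} [Fact p.Prime] (c : Coord S K)

include c in
/-- Either the system is realizable, or its core is central. -/
theorem realizable_or_core_le (hS : IsPGroup p S) (hF : F.IsSaturated p) :
    F.IsRealizable p ∨ F.core ≤ centralizerIn S S := by
  by_cases hQ : F.core ≤ centralizerIn S S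
  · exact Or.inr hQ
  refine Or.inl ?_
  have hN : F.IsNormal F.core := isNormal_core
  obtain ⟨x, hxQ, hxZ⟩ := SetLike.not_le_iff_exists.1 hQ
  have hxS := hN.1 hxQ
  suffices h : ∃ x ∈ F.core, ∀ y ∈ S, ∀ z ∈ S, Commute x y → Commute x z → Commute y z by
    obtain ⟨x, hx, hab⟩ := h
    exact isRealizable_of_normal_abelian_centralizer hS hF hN fun y hy z hz =>
      hab y hy.1 z hz.1 (Subgroup.mem_centralizer_iff.1 hy.2 x hx)
        (Subgroup.mem_centralizer_iff.1 hz.2 x hx)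
  by_cases h2 : (2 : K) = 0
  · refine ⟨x, hxQ, fun y hy z hz hxy hxz => (c.commute_iff hy hz).2 ?_⟩
    obtain ⟨a1, a2⟩ := (c.commute_iff hxS hy).1 hxy
    obtain ⟨b1, b2⟩ := (c.commute_iff hxS hz).1 hxz
    have hne : c.t x ≠ 0 ∨ c.u x ≠ 0 := by
      by_contra! h
      exact hxZ (c.mem_center.2 ⟨hxS, h.1, h.2, by rw [h2, zero_mul]⟩)
    simp only [h2, zero_mul, zero_add] at a2 b2 ⊢
    by_cases hu : c.u x = 0
    · have ht := hne.resolve_right (not_not.2 hu)
      simp only [hu, mul_zero] at a1 b1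
      have ey : c.u y = 0 := (mul_eq_zero.1 a1).resolve_left ht
      have ez : c.u z = 0 := (mul_eq_zero.1 b1).resolve_left ht
      simp [ey, ez]
    · by_cases ht : c.t x = 0
      · simp only [ht, zero_mul] at a1 b1
        have ey : c.t y = 0 := (mul_eq_zero.1 a1.symm).resolve_right hu
        have ez : c.t z = 0 := (mul_eq_zero.1 b1.symm).resolve_right hu
        simp [ey, ez]
      · -- each of `y`, `z` has simple coordinates `0` or those of `x`
        have key : ∀ {s : Ω}, c.t x * c.u s = c.t s * c.u x →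
            c.t x ^ 2 * c.u s = c.t s ^ 2 * c.u x →
            (c.t s = 0 ∧ c.u s = 0) ∨ (c.t s = c.t x ∧ c.u s = c.u x) := fun {s} e1 e2 => by
          have h1 : c.t s * (c.t x - c.t s) * c.u x = 0 := by
            linear_combination e2 - (c.t x) * e1
          rcases mul_eq_zero.1 ((mul_eq_zero.1 h1).resolve_right hu) with h | h
          · exact Or.inl ⟨h, by simpa [h, ht] using e1⟩
          · have h' : c.t s = c.t x := (sub_eq_zero.1 h).symm
            exact Or.inr ⟨h', mul_left_cancel₀ ht (by rw [e1, h'])⟩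
        rcases key a1 a2 with ⟨e1, e2⟩ | ⟨e1, e2⟩ <;> rcases key b1 b2 with ⟨f1, f2⟩ | ⟨f1, f2⟩ <;>
          simp [e1, e2, f1, f2]
  · -- an element of `D` outside the centre
    obtain ⟨y, hyQ, hyS, hyt, hyu, hyv⟩ : ∃ y ∈ F.core, y ∈ S ∧ c.t y = 0 ∧ c.u y = 0 ∧ c.v y ≠ 0 := by
      by_cases h : c.t x = 0 ∧ c.u x = 0
      · exact ⟨x, hxQ, hxS, h.1, h.2, fun hv =>
          hxZ (c.mem_center.2 ⟨hxS, h.1, h.2, by rw [hv, mul_zero]⟩)⟩
      obtain ⟨a, b, hab⟩ : ∃ a b : K, a * c.u x - c.t x * b ≠ 0 := by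
        rcases not_and_or.1 h with h | h
        · exact ⟨0, 1, by simpa using h⟩
        · exact ⟨1, 0, by simpa using h⟩
      obtain ⟨s, hs, st, su, -, -⟩ := c.surj a b 0 0
      have hn := (le_normalizerIn_of_stronglyClosed (stronglyClosed_of_isNormal hN) hs).2
      refine ⟨x⁻¹ * (s * x * s⁻¹), mul_mem (inv_mem hxQ) ((Subgroup.mem_normalizer_iff.1 hn x).1 hxQ),
        S.mul_mem (S.inv_mem hxS) (c.conj_mem hs hxS), (c.comm_coords hs hxS).1,
        (c.comm_coords hs hxS).2.1, ?_⟩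
      rw [(c.comm_coords hs hxS).2.2, st, su]
      exact hab
    refine ⟨y, hyQ, fun a ha b hb hya hyb => c.commute_grpA ⟨ha, ?_⟩ ⟨hb, ?_⟩⟩
    · have e := ((c.commute_iff hyS ha).1 hya).2
      rw [hyt, hyu] at e
      exact (mul_eq_zero.1 (show c.t a * (2 * c.v y) = 0 by linear_combination -e)).resolve_right
        (mul_ne_zero h2 hyv)
    · have e := ((c.commute_iff hyS hb).1 hyb).2
      rw [hyt, hyu] at e
      exact (mul_eq_zero.1 (show c.t b * (2 * c.v y) = 0 by linear_combination -e)).resolve_right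
        (mul_ne_zero h2 hyv)

/-- A central core is fixed by the elements of `p`-power order of every fully normalized automizer. -/
theorem fix_core (hS : IsPGroup p S) (hF : F.IsSaturated p)
    (hQZ : F.core ≤ centralizerIn S S) {P : Subgroup Ω} (hn : F.IsFullyNormalized P) {α : MulAut P}
    (hα : α ∈ pElementClosure p (F.autGroup P)) {q : Ω} (hqP : q ∈ P) (hq : q ∈ F.core) :
    autFun α q = q := by
  have hPS := hn.1
  haveI := finite_of_le hPS
  haveI := finite_mulAut (P := P)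
  have hN : F.IsNormal F.core := isNormal_core
  revert hqP hq
  revert q
  suffices h : ∀ q, q ∈ P → q ∈ F.core → autFun α q = q from fun {q} a b => h q a b
  induction hα using Subgroup.closure_induction with
  | mem α hα =>
    intro q hqP hq
    obtain ⟨hαA, k, hk⟩ := hα
    obtain ⟨R, hR⟩ := (IsSaturated.automized_receptive hS hF hn).1.2
    obtain ⟨U, hU⟩ := (IsPGroup.of_card (n := k)
      (by rw [Nat.card_zpowers, Subgroup.orderOf_mk, hk]) :
        IsPGroup p (Subgroup.zpowers (⟨α, hαA⟩ : F.autGroup P))).exists_le_sylow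
    obtain ⟨g, hg⟩ := MulAction.exists_smul_eq (F.autGroup P) R U
    have hαU : (⟨α, hαA⟩ : F.autGroup P) ∈ ((g • R : Sylow p _) : Subgroup (F.autGroup P)) :=
      hg ▸ hU (Subgroup.mem_zpowers _)
    rw [Sylow.coe_subgroup_smul, Subgroup.mem_pointwise_smul_iff_inv_smul_mem, hR,
      Subgroup.mem_subgroupOf] at hαU
    obtain ⟨s, hsS, hs⟩ := mem_autInducedBy_iff.1 hαU
    have hq' := autInvariant_of_stronglyClosed (stronglyClosed_of_isNormal hN) hPS
      (inv_mem g.2) ⟨hqP, hq⟩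
    have h1 := hs _ hq'.1
    rw [← (Subgroup.mem_centralizer_iff.1 (hQZ hq'.2).2 s hsS).symm, mul_inv_cancel_right] at h1
    have h2 : autFun ((g : MulAut P)⁻¹ * α * (g : MulAut P)) (autFun (g : MulAut P)⁻¹ q) =
        autFun (g : MulAut P)⁻¹ q := by
      simpa [MulAut.smul_def, MulDistribMulAction.toMulAut, mul_assoc] using h1
    rw [← autFun_mul _ _ hqP, mul_inv_cancel_right, autFun_mul _ _ hqP] at h2
    have h3 := congrArg (autFun (g : MulAut P)) h2
    rwa [← autFun_mul _ _ (autFun_mem _ hqP), mul_inv_cancel, autFun_one (autFun_mem _ hqP),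
      ← autFun_mul _ _ hqP, mul_inv_cancel, autFun_one hqP] at h3
  | one => exact fun q hqP _ => autFun_one hqP
  | mul α β _ _ hα hβ =>
    intro q hqP hq
    rw [autFun_mul _ _ hqP, hβ q hqP hq, hα q hqP hq]
  | inv α _ hα =>
    intro q hqP hq
    conv_lhs => rw [← hα q hqP hq]
    rw [← autFun_mul _ _ hqP, inv_mul_cancel, autFun_one hqP]

/-- An essential subgroup has no invariant series stabilised by an element of `S` outside it. -/
theorem mem_of_series (hS : IsPGroup p S) {P : Subgroup Ω} (hE : F.IsEssential p P) {n : ℕ}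
    {Ws : Fin (n + 1) → Subgroup Ω} (h0 : Ws 0 = ⊥) (hlast : Ws (Fin.last n) = P)
    (hmono : Monotone Ws)
    (hinv : ∀ j, ∀ a ∈ F.autGroup P, ∀ x ∈ Ws j, autFun a x ∈ Ws j)
    {s : Ω} (hsS : s ∈ S) (hsN : s ∈ Subgroup.normalizer (P : Set Ω))
    (hs : ∀ j : Fin n, ∀ x ∈ Ws j.succ, x⁻¹ * (s * x * s⁻¹) ∈ Ws j.castSucc) : s ∈ P :=
  mem_of_stab_chain hS hE.1 (isEssential_centric_radical hS hE).2 h0 hlast hmono hinv hsS hsN hs

theorem center_le_essential {P : Subgroup Ω} (hE : F.IsEssential p P) : centralizerIn S S ≤ P :=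
  fun _ hz => centralizerIn_le_of_isCentric hE.1 ⟨hz.1, Subgroup.centralizer_le hE.1.1 hz.2⟩

end Reduction

end CfsgLib.SylowLie.SpFour
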