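import Cfsg.Agent.Lib.SylowLie.SpFour.Essentials

/-!
# At most one line is essential, and it is invariant
-/

set_option autoImplicit false
set_option linter.style.haveILetI false
set_option maxHeartbeats 1600000

open Subgroup
open scoped Classical

namespace CfsgLib.SylowLie.SpFour

open CfsgLib.Fusion
open Cfsg (FusionSystem autInducedBy pElementClosure)
open Cfsg.FusionSystem (normalizerIn centralizerIn)

variable {Ω : Type*} [Group Ω] {S : Subgroup Ω} [Finite S] {F : FusionSystem S} {p : ℕ}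
  [Fact p.Prime] {K : Type*} [Field K]

theorem inn_subgroupOf_normal (H : Subgroup Ω) (X : Subgroup (MulAut H)) :
    ((Cfsg.Inn H).subgroupOf X).Normal := by
  refine ⟨fun n hn g => ?_⟩
  obtain ⟨b, hb⟩ : (n : MulAut H) ∈ Cfsg.Inn H := hn
  refine ⟨(g : MulAut H) b, MulEquiv.ext fun x => ?_⟩
  show (g : MulAut H) b * x * ((g : MulAut H) b)⁻¹ =
    (g : MulAut H) ((n : MulAut H) ((g : MulAut H)⁻¹ x))
  rw [← hb]
  show _ = (g : MulAut H) (b * ((g : MulAut H)⁻¹ x) * b⁻¹)
  rw [map_mul, map_mul, map_inv, ← MulAut.mul_apply, mul_inv_cancel, MulAut.one_apply]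

variable (c : Coord S K)

include c in
theorem autFun_grpD (h2 : (2 : K) ≠ 0) (φ : MulAut S) {d : Ω} (hd : d ∈ c.grpD) :
    autFun φ d ∈ c.grpD := by
  have hdS := hd.1
  have hg := autFun_mem φ hdS
  have key : ∀ z ∈ S, c.t (autFun φ d) * c.u z = c.t z * c.u (autFun φ d) := fun z hz => by
    have hw := autFun_mem φ⁻¹ hz
    have h1 := c.comm_mem_center hdS hw (by rw [hd.2.1, hd.2.2]; ring)
    have h3 : autFun φ ((autFun φ⁻¹ z)⁻¹ * (d * autFun φ⁻¹ z * d⁻¹)) ∈ centralizerIn S S :=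
      ⟨autFun_mem φ h1.1, Subgroup.mem_centralizer_iff.2 fun y hy => (autFun_central φ h1.1
        (fun w hw => Subgroup.mem_centralizer_iff.1 h1.2 w hw) hy).eq⟩
    have e : autFun φ (autFun φ⁻¹ z)⁻¹ = z⁻¹ := eq_inv_of_mul_eq_one_left (by
      conv_lhs => arg 2; rw [← autFun_inv_apply φ hz]
      rw [← autFun_map_mul φ (inv_mem hw) hw, inv_mul_cancel, autFun_map_one])
    rw [autFun_map_mul φ (inv_mem hw) (mul_mem (mul_mem hdS hw) (inv_mem hdS)),
      autFun_map_conj φ hdS hw, autFun_inv_apply φ hz, e] at h3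
    have h4 := (c.mem_center.1 h3).2.2.2
    rw [(c.comm_coords hg hz).2.2] at h4
    exact sub_eq_zero.1 ((mul_eq_zero.1 h4).resolve_left h2)
  obtain ⟨a, ha, at', au, -⟩ := c.surj 0 1 0 0
  obtain ⟨b, hb, bt, bu, -⟩ := c.surj 1 0 0 0
  have e1 := key a ha
  have e2 := key b hb
  rw [at', au] at e1
  rw [bt, bu] at e2
  exact ⟨hg, by linear_combination e1, by linear_combination -e2⟩

include c in
theorem autFun_grpA (h2 : (2 : K) ≠ 0) (φ : MulAut S) {x : Ω} (hx : x ∈ c.grpA) :
    autFun φ x ∈ c.grpA := by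
  obtain ⟨d, hd, dt, du, dv, -⟩ := c.surj 0 0 1 0
  have hdD : d ∈ c.grpD := ⟨hd, dt, du⟩
  have h1 := autFun_grpD c h2 φ hdD
  have hdx : Commute d x := c.commute_grpA (c.grpD_le_grpA hdD) hx
  have h2' : Commute (autFun φ d) (autFun φ x) := by
    show autFun φ d * autFun φ x = autFun φ x * autFun φ d
    rw [← autFun_map_mul φ hd hx.1, ← autFun_map_mul φ hx.1 hd, hdx.eq]
  have hv : c.v (autFun φ d) ≠ 0 := fun hv => by
    have hz : autFun φ d ∈ centralizerIn S S :=
      c.mem_center.2 ⟨h1.1, h1.2.1, h1.2.2, by rw [hv, mul_zero]⟩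
    have hc : ∀ y ∈ S, Commute y d := fun y hy => by
      have h := autFun_central φ⁻¹ h1.1
        (fun w hw => Subgroup.mem_centralizer_iff.1 hz.2 w hw) hy
      rwa [autFun_apply_inv φ hd] at h
    have h3 := (c.mem_center.1 ⟨hd, Subgroup.mem_centralizer_iff.2 fun y hy => (hc y hy).eq⟩).2.2.2
    rw [dv, mul_one] at h3
    exact h2 h3
  obtain ⟨-, e⟩ := (c.commute_iff h1.1 (autFun_mem φ hx.1)).1 h2'
  rw [h1.2.1, h1.2.2] at e
  exact ⟨autFun_mem φ hx.1, (mul_eq_zero.1 (show c.t (autFun φ x) * (2 * c.v (autFun φ d)) = 0 by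
    linear_combination -e)).resolve_right (mul_ne_zero h2 hv)⟩

/-- An automorphism of `S` inverting `S / A` and centralizing `A / D`. -/
def IsInv (c : Coord S K) (M : MulAut S) : Prop :=
  ∀ x ∈ S, c.t (autFun M x) = -c.t x ∧ (c.t x = 0 → c.u (autFun M x) = c.u x)

include c in
theorem inv_unique [CharP K p] (hS : IsPGroup p S) (hF : F.IsSaturated p) {M N : MulAut S}
    (hM : M ∈ F.autGroup S) (hN : N ∈ F.autGroup S) (iM : IsInv c M) (iN : IsInv c N) {x : Ω}
    (hx : x ∈ S) : c.u (autFun M x) = c.u (autFun N x) := by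
  haveI := finite_mulAut (P := S)
  haveI := inn_subgroupOf_normal (Ω := Ω) S (F.autGroup S)
  have hidx := ((isFullyAutomized_iff hS).1
    (IsSaturated.automized_receptive hS hF isFullyNormalized_self).1).2
  rw [← inn_eq_autInducedBy] at hidx
  have key : ∀ {M N : MulAut S}, M ∈ F.autGroup S → N ∈ F.autGroup S → IsInv c M → IsInv c N →
      ∀ {x : Ω}, x ∈ S → c.u (autFun M (autFun N x)) = c.u x := by
    intro M N hM hN iM iN x hx
    have hstep : ∀ y ∈ S, c.t (autFun (M * N) y) = c.t y ∧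
        (c.t y = 0 → c.u (autFun (M * N) y) = c.u y) := fun y hy => by
      obtain ⟨a1, a2⟩ := iN y hy
      obtain ⟨b1, b2⟩ := iM _ (autFun_mem N hy)
      rw [autFun_mul _ _ hy]
      refine ⟨by rw [b1, a1, neg_neg], fun h => ?_⟩
      rw [b2 (by rw [a1, h, neg_zero]), a2 h]
    set δ := c.u (autFun (M * N) x) - c.u x with hδ
    have hn : ∀ n : ℕ, c.t (autFun ((M * N) ^ n) x) = c.t x ∧
        c.u (autFun ((M * N) ^ n) x) = c.u x + n * δ := by
      intro n
      induction n with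
      | zero => rw [pow_zero, autFun_one hx]; simp
      | succ n ih =>
        rw [pow_succ', autFun_mul _ _ hx]
        set y := autFun ((M * N) ^ n) x with hy
        have hyS : y ∈ S := autFun_mem _ hx
        set a := x⁻¹ * y with ha
        have haS : a ∈ S := S.mul_mem (S.inv_mem hx) hyS
        have hat : c.t a = 0 := by
          rw [ha, c.t_mul (S.inv_mem hx) hyS, c.t_inv hx, ih.1, neg_add_cancel]
        have hau : c.u a = n * δ := by
          rw [ha, c.u_mul (S.inv_mem hx) hyS, c.u_inv hx, ih.2, neg_add_cancel_left]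
        have hye : y = x * a := by rw [ha, mul_inv_cancel_left]
        refine ⟨((hstep y hyS).1).trans ih.1, ?_⟩
        rw [hye, autFun_map_mul _ hx haS, c.u_mul (autFun_mem _ hx) (autFun_mem _ haS),
          (hstep a haS).2 hat, hau, hδ]
        push_cast
        ring
    have hpow := ((Cfsg.Inn S).subgroupOf (F.autGroup S)).pow_index_mem
      (⟨M * N, mul_mem hM hN⟩ : F.autGroup S)
    obtain ⟨b, hb⟩ : (M * N) ^ _ ∈ Cfsg.Inn S := Subgroup.mem_subgroupOf.1 hpow
    have h1 := (hn ((Cfsg.Inn S).subgroupOf (F.autGroup S)).index).2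
    rw [← hb, autFun_apply _ hx,
      show ((MulAut.conj b ⟨x, hx⟩ : S) : Ω) = (b : Ω) * x * (b : Ω)⁻¹ from rfl,
      c.u_conj b.2 hx] at h1
    have h0 : δ = 0 := by
      refine (mul_eq_zero.1 (left_eq_add.1 h1)).resolve_left fun h => hidx ?_
      exact (CharP.cast_eq_zero_iff K p _).1 h
    rw [← autFun_mul _ _ hx]
    exact sub_eq_zero.1 h0
  have h1 := key hM hN iM iN hx
  have h2 := key hM hM iM iM hx
  set y := autFun M x with hy
  set z := autFun N x with hz
  have hyS : y ∈ S := autFun_mem _ hx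
  have hzS : z ∈ S := autFun_mem _ hx
  have hat : c.t (y⁻¹ * z) = 0 := by
    rw [c.t_mul (S.inv_mem hyS) hzS, c.t_inv hyS, hy, hz, (iM x hx).1, (iN x hx).1, neg_add_cancel]
  have haS : y⁻¹ * z ∈ S := S.mul_mem (S.inv_mem hyS) hzS
  rw [show z = y * (y⁻¹ * z) by rw [mul_inv_cancel_left], autFun_map_mul _ hyS haS,
    c.u_mul (autFun_mem _ hyS) (autFun_mem _ haS), h2, (iM _ haS).2 hat,
    c.u_mul (S.inv_mem hyS) hzS, c.u_inv hyS] at h1
  linear_combination -h1

include c in
/-- The natural module in the automizer of an essential line. -/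
theorem exists_line_natural [CharP K p] (hS : IsPGroup p S) (hF : F.IsSaturated p) (hp : p ≠ 2)
    {l : K} (hE : F.IsEssential p (c.line l))
    (hinv : ∀ α ∈ F.autGroup (c.line l), ∀ z ∈ centralizerIn S S,
      autFun α z ∈ centralizerIn S S) :
    ∃ L : Layer F (c.line l) (K × K),
      (∀ x, L.f x = (c.t x, c.v x - l * c.t x ^ 2 / 2)) ∧
      (∀ s ∈ S, ∀ x ∈ c.line l,
        L.f (s * x * s⁻¹) = L.f x + (0, c.t x * (l * c.t s - c.u s))) ∧
      (∀ α ∈ F.autGroup (c.line l), (∀ x ∈ c.line l, L.f (autFun α x) = L.f x) →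
        α ∈ Cfsg.Inn (c.line l)) ∧
      ∃ (Fk : Type) (_ : Field Fk) (_ : Fintype Fk), Fintype.card Fk = Nat.card K ∧
        ∃ ψ : K × K →+ (Fin 2 → Fk), Function.Bijective ψ ∧
        (∀ α ∈ pElementClosure p (F.autGroup (c.line l)),
          ∃ g : Matrix.SpecialLinearGroup (Fin 2) Fk, ∀ x ∈ c.line l,
            ψ (L.f (autFun α x)) = g.1.mulVec (ψ (L.f x))) ∧
        ∀ g : Matrix.SpecialLinearGroup (Fin 2) Fk,
          ∃ α ∈ pElementClosure p (F.autGroup (c.line l)), ∀ x ∈ c.line l,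
            ψ (L.f (autFun α x)) = g.1.mulVec (ψ (L.f x)) := by
  haveI := finite_field c
  set P := c.line l with hP
  have hPS : P ≤ S := c.line_le l
  have h2 : (2 : K) ≠ 0 := two_ne_zero_of_ne hp
  have hn := hE.2.1
  haveI := finite_of_le hPS
  haveI := finite_mulAut (P := P)
  have hN : normalizerIn S P = S :=
    le_antisymm inf_le_left (c.le_normalizerIn_of_grpD_le hPS (c.grpD_le_line l))
  let L : Layer F P (K × K) :=
    { f := fun x => (c.t x, c.v x - l * c.t x ^ 2 / 2)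
      f_mul := fun {x z} hx hz => by
        refine Prod.ext (c.t_mul hx.1 hz.1) ?_
        simp only [Prod.mk_add_mk]
        rw [c.v_mul hx.1 hz.1, c.t_mul hx.1 hz.1, hz.2]
        field_simp
        ring
      surj := fun ⟨a, b⟩ => by
        obtain ⟨x, hx, e1, e2, e3, -⟩ := c.surj a (l * a) (b + l * a ^ 2 / 2) 0
        refine ⟨x, ⟨hx, by rw [e1, e2]⟩, ?_⟩
        rw [e1, e3]
        simp
      inv := fun α hα x hx h => by
        simp only [Prod.mk_eq_zero] at h ⊢
        obtain ⟨ht, hv⟩ := h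
        have hz := hinv α hα x (c.mem_center.2 ⟨hx.1, ht, by rw [hx.2, ht, mul_zero],
          by rw [ht] at hv; simp at hv; rw [hv, mul_zero]⟩)
        obtain ⟨-, t', -, v'⟩ := c.mem_center.1 hz
        rw [t', (mul_eq_zero.1 v').resolve_left h2]
        simp }
  have hfZ : ∀ x ∈ P, L.f x = 0 → x ∈ centralizerIn S S := fun x hx h => by
    simp only [L, Prod.mk_eq_zero] at h
    obtain ⟨ht, hv⟩ := h
    rw [ht] at hv
    exact c.mem_center.2 ⟨hx.1, ht, by rw [hx.2, ht, mul_zero], by simp at hv; rw [hv, mul_zero]⟩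
  have hfconj : ∀ s ∈ S, ∀ x ∈ P,
      L.f (s * x * s⁻¹) = L.f x + (0, c.t x * (l * c.t s - c.u s)) := fun s hs x hx => by
    simp only [L]
    rw [c.t_conj hs hx.1, c.v_conj hs hx.1, hx.2]
    refine Prod.ext (by simp) ?_
    simp only [Prod.mk_add_mk]
    ring
  have hsP : ∀ s ∈ S, ∀ x ∈ P, s * x * s⁻¹ ∈ P := fun s hs x hx =>
    ⟨c.conj_mem hs hx.1, by rw [c.u_conj hs hx.1, c.t_conj hs hx.1, hx.2]⟩
  -- triviality on `P / Z` forces inner
  have hker : ∀ α ∈ F.autGroup P, (∀ x ∈ P, L.f (autFun α x) = L.f x) → α ∈ Cfsg.Inn P := by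
    have hfix : ∀ α ∈ F.autGroup P, (∀ x ∈ P, L.f (autFun α x) = L.f x) →
        ∀ z ∈ centralizerIn S S, autFun α z = z := by
      intro α hα h z hz
      obtain ⟨x, hx, xt, xu, xv, -⟩ := c.surj 1 l 0 0
      obtain ⟨y, hy, yt, yu, yv, -⟩ := c.surj 0 0 (c.w z / 2) 0
      have hxP : x ∈ P := ⟨hx, by rw [xt, xu, mul_one]⟩
      have hyP : y ∈ P := ⟨hy, by rw [yt, yu, mul_zero]⟩
      have hxy := S.mul_mem (c.conj_mem hx hy) (S.inv_mem hy)
      obtain ⟨hzS, zt, zu, zv⟩ := c.mem_center.1 hz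
      have hze : x * y * x⁻¹ * y⁻¹ = z := by
        refine c.ext hxy hzS ?_ ?_ ?_ ?_
        · rw [c.t_mul (c.conj_mem hx hy) (S.inv_mem hy), c.t_conj hx hy, c.t_inv hy, zt, add_neg_cancel]
        · rw [c.u_mul (c.conj_mem hx hy) (S.inv_mem hy), c.u_conj hx hy, c.u_inv hy, zu, add_neg_cancel]
        · rw [c.v_mul (c.conj_mem hx hy) (S.inv_mem hy), c.t_conj hx hy, c.v_conj hx hy, c.v_inv hy,
            (mul_eq_zero.1 zv).resolve_left h2, yt, yu]
          ring
        · rw [c.w_mul (c.conj_mem hx hy) (S.inv_mem hy), c.t_conj hx hy, c.w_conj hx hy, c.w_inv hy,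
            yt, yu, yv, xt]
          field_simp
          ring
      have hsplit : ∀ w ∈ P, ∃ r ∈ centralizerIn S S, autFun α w = w * r := fun w hw => by
        have hα' := autFun_mem α hw
        refine ⟨w⁻¹ * autFun α w, hfZ _ (mul_mem (inv_mem hw) hα') ?_, (mul_inv_cancel_left _ _).symm⟩
        rw [L.f_mul (inv_mem hw) hα', L.f_inv hw, h w hw, neg_add_cancel]
      obtain ⟨r, hr, hre⟩ := hsplit x hxP
      obtain ⟨r', hr', hre'⟩ := hsplit y hyP
      have hinvy : autFun α y⁻¹ = (autFun α y)⁻¹ := eq_inv_of_mul_eq_one_left (by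
        rw [← autFun_map_mul α (inv_mem hyP) hyP, inv_mul_cancel, autFun_map_one])
      rw [← hze, autFun_map_mul α (mul_mem (mul_mem hxP hyP) (inv_mem hxP)) (inv_mem hyP),
        autFun_map_conj α hxP hyP, hinvy, hre, hre']
      have a1 : r * (y * r') = (y * r') * r :=
        (Subgroup.mem_centralizer_iff.1 hr.2 _ (S.mul_mem hy hr'.1)).symm
      have a2 : r' * x⁻¹ = x⁻¹ * r' :=
        (Subgroup.mem_centralizer_iff.1 hr'.2 _ (S.inv_mem hx)).symm
      calc x * r * (y * r') * (x * r)⁻¹ * (y * r')⁻¹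
          = x * (r * (y * r')) * r⁻¹ * x⁻¹ * r'⁻¹ * y⁻¹ := by group
        _ = x * y * (r' * x⁻¹) * r'⁻¹ * y⁻¹ := by rw [a1]; group
        _ = x * y * x⁻¹ * y⁻¹ := by rw [a2]; group
    intro α hα h
    have hrad := (isEssential_centric_radical hS hE).2.2
    have hbot : ∀ a ∈ F.autGroup P, ∀ x ∈ (⊥ : Subgroup Ω), autFun a x ∈ (⊥ : Subgroup Ω) :=
      fun a _ x hx => by
        rw [Subgroup.mem_bot] at hx ⊢
        subst hx
        exact autFun_map_one a
    let N : Subgroup (F.autGroup P) :=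
      relStab (F.autGroup P) P (centralizerIn S S) hinv le_rfl (center_le_essential hE)
          (fun a _ x hx => autFun_mem a hx) ⊓
        relStab (F.autGroup P) (centralizerIn S S) ⊥ hbot (center_le_essential hE) bot_le hinv
    have hNn : N.Normal := by
      haveI h1 := relStab_normal (X := F.autGroup P) (L := P) (M := centralizerIn S S)
        (hM := hinv) (hLP := le_rfl) (hMP := center_le_essential hE)
        (hL := fun a _ x hx => autFun_mem a hx)
      haveI h2 := relStab_normal (X := F.autGroup P) (L := centralizerIn S S) (M := ⊥)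
        (hM := hbot) (hLP := center_le_essential hE) (hMP := bot_le) (hL := hinv)
      exact Subgroup.normal_inf_normal _ _
    have hNp : IsPGroup p N := by
      intro β
      refine ⟨1, Subtype.ext (Subtype.ext (autFun_ext fun x hx => ?_))⟩
      obtain ⟨b1, b2⟩ := Subgroup.mem_inf.1 β.2
      have hr := mem_relStab.1 b1 x hx
      set r := x⁻¹ * autFun ((β : F.autGroup P) : MulAut P) x with hr'
      have hrfix : autFun ((β : F.autGroup P) : MulAut P) r = r := by
        have := mem_relStab.1 b2 r hr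
        rw [Subgroup.mem_bot, inv_mul_eq_one] at this
        exact this.symm
      have hpow : ∀ n : ℕ, autFun (((β : F.autGroup P) : MulAut P) ^ n) x = x * r ^ n := by
        intro n
        induction n with
        | zero => rw [pow_zero, autFun_one hx, pow_zero, mul_one]
        | succ n ih =>
          have hrP := center_le_essential hE hr
          rw [pow_succ', autFun_mul _ _ hx, ih, autFun_map_mul _ hx (pow_mem hrP n),
            autFun_pow_map _ hrP, hrfix, pow_succ' r n, ← mul_assoc, hr', mul_inv_cancel_left]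
      simp only [pow_one, Subgroup.coe_pow, Subgroup.coe_one]
      rw [hpow p, autFun_one hx, c.pow_char_eq_one hp hr.1
        (fun _ => by rw [(c.mem_center.1 hr).2.1, zero_mul]), mul_one]
    have h1 : (⟨α, hα⟩ : F.autGroup P) ∈ Cfsg.pCore p (F.autGroup P) := by
      refine CfsgLib.Coprime.le_pCore (hN := hNn) hNp (Subgroup.mem_inf.2 ⟨?_, ?_⟩)
      · rw [mem_relStab]
        intro x hx
        refine hfZ _ (mul_mem (inv_mem hx) (autFun_mem α hx)) ?_
        rw [L.f_mul (inv_mem hx) (autFun_mem α hx), L.f_inv hx]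
        show -L.f x + L.f (autFun α x) = 0
        rw [h x hx, neg_add_cancel]
      · rw [mem_relStab]
        intro z hz
        rw [Subgroup.mem_bot, inv_mul_eq_one]
        exact (hfix α hα h z hz).symm
    rw [← hrad]
    exact ⟨_, h1, rfl⟩
  have hinn : ∀ n ∈ P, ∀ x ∈ P, L.f (n * x * n⁻¹) = L.f x := fun n hn x hx => by
    rw [hfconj n hn.1 x hx, hn.2]; simp
  have hrel : P.relIndex S = Nat.card K := by
    refine relIndex_eq_card (fun x => c.u x - l * c.t x) (fun a ha b hb => ?_) (fun m => ?_)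
      fun x hx => ?_
    · rw [c.t_mul ha hb, c.u_mul ha hb]; ring
    · obtain ⟨x, hx, e1, e2, -⟩ := c.surj 0 m 0 0
      exact ⟨x, hx, by rw [e1, e2]; ring⟩
    · rw [sub_eq_zero]
      exact ⟨fun h => ⟨hx, h⟩, fun h => h.2⟩
  obtain ⟨Fk, iFk, iFkf, hcard, ψ, hψs, -, hcl, hlift⟩ := exists_natural_layer hS hF hE L (fun v => by
      rw [nsmul_eq_mul]; ext <;> simp [CharP.cast_eq_zero]) hinn hker
    (fun s hs r hr x hx => by
      rw [hfconj s hs.1 _ (hsP r hr.1 x hx), hfconj r hr.1 x hx, hfconj r hr.1 _ (hsP s hs.1 x hx),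
        hfconj s hs.1 x hx, c.t_conj hr.1 hx.1, c.t_conj hs.1 hx.1, add_right_comm])
    (by
      rw [hN, hrel, Nat.card_prod]
      refine Nat.mul_le_mul_left _ (Nat.card_le_card_of_injective (fun b => ⟨(0, b), ?_⟩) ?_)
      · intro s hs x hx hxv
        rw [hfconj s hs x hx, hxv, show c.t x = 0 from congrArg Prod.fst hxv]
        simp
      · intro a b h
        simpa using h)
  have hc' : Fintype.card Fk = Nat.card K := by rw [hcard, hN, hrel]
  refine ⟨L, fun _ => rfl, hfconj, hker, Fk, iFk, iFkf, hc', ψ,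
    ⟨(injective_iff_map_eq_zero ψ).2 fun v hv => eq_zero_of_card_eq hψs ?_ hv, hψs⟩, hcl, hlift⟩
  rw [Nat.card_fun, Nat.card_fin, Nat.card_eq_fintype_card (α := Fk), hc', Nat.card_prod, pow_two]

include c in
theorem exists_inv [CharP K p] (hS : IsPGroup p S) (hF : F.IsSaturated p) (hp : p ≠ 2) {l : K}
    (hE : F.IsEssential p (c.line l)) (h3 : p = 3 → l = 0)
    (hinv : ∀ α ∈ F.autGroup (c.line l), ∀ z ∈ centralizerIn S S,
      autFun α z ∈ centralizerIn S S) :
    ∃ M ∈ F.autGroup S, IsInv c M ∧ ∀ x ∈ S, c.u (autFun M x) = c.u x - 2 * l * c.t x := by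
  haveI := finite_field c
  set P := c.line l with hP
  have hPS : P ≤ S := c.line_le l
  have h2 : (2 : K) ≠ 0 := two_ne_zero_of_ne hp
  have hn := hE.2.1
  haveI := finite_of_le hPS
  haveI := finite_mulAut (P := P)
  obtain ⟨L, hLf, hfconj, hker, Fk, iFk, iFkf, -, ψ, hψ, -, hlift⟩ :=
    exists_line_natural c hS hF hp hE hinv
  have hsP : ∀ s ∈ S, ∀ x ∈ P, s * x * s⁻¹ ∈ P := fun s hs x hx =>
    ⟨c.conj_mem hs hx.1, by rw [c.u_conj hs hx.1, c.t_conj hs hx.1, hx.2]⟩
  obtain ⟨α, hαK, hα⟩ := hlift (-1)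
  have hαA : α ∈ F.autGroup P := CfsgLib.LS.Amal.pElementClosure_le _ hαK
  have hneg : ∀ x ∈ P, L.f (autFun α x) = -L.f x := fun x hx => by
    have h := hα x hx
    rw [Matrix.SpecialLinearGroup.coe_neg, Matrix.SpecialLinearGroup.coe_one, Matrix.neg_mulVec,
      Matrix.one_mulVec, ← map_neg, ← sub_eq_zero, ← map_sub] at h
    exact sub_eq_zero.1 (hψ.1 (h.trans ψ.map_zero.symm))
  have hT : ∀ {x y : Ω}, L.f x = -L.f y → c.t x = -c.t y := fun {x y} h => by
    simpa [hLf] using congrArg Prod.fst h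
  -- extend to `S`
  have hnS : ∀ s ∈ S, s ∈ Subgroup.normalizer (P : Set Ω) := fun s hs =>
    (c.le_normalizerIn_of_grpD_le hPS (c.grpD_le_line l) hs).2
  have hcs : ∀ s (hs : s ∈ S), conjAut s (hnS s hs) ∈ F.autGroup P := fun s hs =>
    autInducedBy_le_autGroup hPS (conjAut_mem hs _)
  have hext : S ≤ extSub S P (autFun α) := by
    intro s hs
    set κ := conjAut s (hnS s hs) with hκ
    have hmem : α * κ * α⁻¹ * κ⁻¹ ∈ F.autGroup P :=
      mul_mem (mul_mem (mul_mem hαA (hcs s hs)) (inv_mem hαA)) (inv_mem (hcs s hs))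
    have htriv : α * κ * α⁻¹ * κ⁻¹ ∈ Cfsg.Inn P := by
      refine hker _ hmem fun x hx => ?_
      set y := autFun κ⁻¹ x with hy
      have hyP : y ∈ P := autFun_mem _ hx
      have hxy : s * y * s⁻¹ = x := by rw [← autFun_conjAut (hnS s hs) hyP]; exact autFun_inv_apply κ hx
      set z := autFun α⁻¹ y with hz
      have hzP : z ∈ P := autFun_mem _ hyP
      have hyz : L.f y = -L.f z := by rw [← hneg z hzP, hz, autFun_inv_apply α hyP]
      have e : autFun (α * κ * α⁻¹ * κ⁻¹) x = autFun α (s * z * s⁻¹) := by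
        rw [autFun_mul _ _ hx, autFun_mul _ _ hyP, autFun_mul _ _ hzP, hκ, autFun_conjAut (hnS s hs) hzP]
      rw [e, hneg _ (hsP s hs z hzP), hfconj s hs z hzP, ← hxy, hfconj s hs y hyP, hyz,
        hT hyz]
      refine Prod.ext ?_ ?_ <;> simp <;> ring
    obtain ⟨b, hb⟩ := htriv
    refine ⟨⟨hs, hnS s hs⟩, (b : Ω) * s, S.mul_mem (hPS b.2) hs, fun x hx => ?_⟩
    have hαx := autFun_mem α hx
    have h1 : autFun (α * κ) x = autFun (MulAut.conj b * κ * α) x := by
      rw [hb, inv_mul_cancel_right, inv_mul_cancel_right]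
    rw [autFun_mul _ _ hx, hκ, autFun_conjAut _ hx] at h1
    rw [h1, autFun_mul _ _ hx, autFun_mul _ _ hαx, autFun_conjAut _ hαx, autFun_apply _
      ((Subgroup.mem_normalizer_iff.1 (hnS s hs) _).1 hαx)]
    show (b : Ω) * (s * autFun α x * s⁻¹) * (b : Ω)⁻¹ = _
    group
  obtain ⟨g, hg, hge⟩ := (isReceptive_iff.1 (IsSaturated.automized_receptive hS hF hn).2).2 P
    (autFun α) ((mem_autGroup_iff hPS).1 hαA) (img_autFun α)
  have hgS := hg.mono hext
  have himg : img S g = S := eq_of_le_of_card_le le_rfl hgS.img_le hgS.card_img.ge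
  have hM : autOf hgS himg ∈ F.autGroup S := autOf_mem hgS himg
  set M := autOf hgS himg with hMdef
  have hMe : ∀ x ∈ S, autFun M x = g x := fun x hx => autFun_autOf hgS himg hx
  have hMP : ∀ x ∈ P, autFun M x = autFun α x := fun x hx => (hMe x (hPS hx)).trans (hge x hx)
  -- it fixes `S / P`
  have hdiff : ∀ s ∈ S, c.u (autFun M s) - l * c.t (autFun M s) = c.u s - l * c.t s := by
    intro s hs
    set κ := conjAut s (hnS s hs)
    have hMs := autFun_mem M hs
    obtain ⟨h, hhS, hh⟩ := (mem_extSub.1 (hext hs)).2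
    have hconj : ∀ x ∈ P, autFun M s * autFun α x * (autFun M s)⁻¹ = h * autFun α x * h⁻¹ := by
      intro x hx
      rw [← hh x hx, ← hMP _ (hsP s hs x hx), autFun_map_conj M hs (hPS hx), hMP x hx]
    have key : ∀ y ∈ P, L.f (autFun M s * y * (autFun M s)⁻¹) = L.f (s * y * s⁻¹) := by
      intro y hy
      set x := autFun α⁻¹ y with hx
      have hxP : x ∈ P := autFun_mem _ hy
      have hyx : autFun α x = y := autFun_inv_apply α hy
      rw [← hyx, hconj x hxP, ← hh x hxP, hneg _ (hsP s hs x hxP), hfconj s hs x hxP,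
        hfconj s hs _ (autFun_mem α hxP), hneg x hxP,
        hT (hneg x hxP)]
      refine Prod.ext ?_ ?_ <;> simp <;> ring
    obtain ⟨y, hy, yt, yu, -⟩ := c.surj 1 l 0 0
    have hyP : y ∈ P := ⟨hy, by rw [yt, yu, mul_one]⟩
    have e := congrArg Prod.snd (key y hyP)
    rw [hfconj _ hMs y hyP, hfconj s hs y hyP, yt] at e
    simp at e
    linear_combination -e
  refine ⟨M, hM, ?_, ?_⟩
  · have hA : ∀ a ∈ c.grpA, c.t (autFun M a) = 0 := fun a ha => (autFun_grpA c h2 M ha).2
    have ht : ∀ x ∈ S, c.t (autFun M x) = -c.t x := fun x hx => by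
      obtain ⟨y, hy, yt, yu, -⟩ := c.surj (c.t x) (l * c.t x) 0 0
      have hyP : y ∈ P := ⟨hy, by rw [yt, yu]⟩
      have haA : y⁻¹ * x ∈ c.grpA := ⟨S.mul_mem (S.inv_mem hy) hx,
        by rw [c.t_mul (S.inv_mem hy) hx, c.t_inv hy, yt, neg_add_cancel]⟩
      have h := hA _ haA
      have hyt' : c.t (autFun M y) = -c.t y := by
        rw [hMP y hyP]; exact hT (hneg y hyP)
      conv_lhs => rw [show x = y * (y⁻¹ * x) by rw [mul_inv_cancel_left]]
      rw [autFun_map_mul M hy haA.1, c.t_mul (autFun_mem M hy) (autFun_mem M haA.1), h, add_zero,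
        hyt', yt]
    refine fun x hx => ⟨ht x hx, fun h0 => ?_⟩
    have := hdiff x hx
    rw [ht x hx, h0] at this
    simpa using this
  · intro x hx
    have := hdiff x hx
    have htx : c.t (autFun M x) = -c.t x := by
      obtain ⟨y, hy, yt, yu, -⟩ := c.surj (c.t x) (l * c.t x) 0 0
      have hyP : y ∈ P := ⟨hy, by rw [yt, yu]⟩
      have haA : y⁻¹ * x ∈ c.grpA := ⟨S.mul_mem (S.inv_mem hy) hx,
        by rw [c.t_mul (S.inv_mem hy) hx, c.t_inv hy, yt, neg_add_cancel]⟩
      conv_lhs => rw [show x = y * (y⁻¹ * x) by rw [mul_inv_cancel_left]]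
      rw [autFun_map_mul M hy haA.1, c.t_mul (autFun_mem M hy) (autFun_mem M haA.1),
        (autFun_grpA c h2 M haA).2, add_zero, hMP y hyP,
        hT (hneg y hyP), yt]
    rw [htx] at this
    linear_combination this

/-- Two essential lines coincide, and the line is invariant under the automizer of `S`. -/
theorem line_unique [CharP K p] (hS : IsPGroup p S) (hF : F.IsSaturated p) (hp : p ≠ 2) {l m : K}
    {M N : MulAut S} (hM : M ∈ F.autGroup S) (hN : N ∈ F.autGroup S) (iM : IsInv c M)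
    (iN : IsInv c N) (uM : ∀ x ∈ S, c.u (autFun M x) = c.u x - 2 * l * c.t x)
    (uN : ∀ x ∈ S, c.u (autFun N x) = c.u x - 2 * m * c.t x) : l = m := by
  have h2 : (2 : K) ≠ 0 := two_ne_zero_of_ne hp
  obtain ⟨x, hx, xt, -⟩ := c.surj 1 0 0 0
  have h := inv_unique c hS hF hM hN iM iN hx
  rw [uM x hx, uN x hx, xt] at h
  exact mul_left_cancel₀ h2 (by linear_combination -h)

theorem line_invariant [CharP K p] (hS : IsPGroup p S) (hF : F.IsSaturated p) (hp : p ≠ 2) {l : K}
    {M φ : MulAut S} (hM : M ∈ F.autGroup S) (hφ : φ ∈ F.autGroup S) (iM : IsInv c M)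
    (uM : ∀ x ∈ S, c.u (autFun M x) = c.u x - 2 * l * c.t x) {x : Ω} (hx : x ∈ c.line l) :
    autFun φ x ∈ c.line l := by
  have h2 : (2 : K) ≠ 0 := two_ne_zero_of_ne hp
  have hinvf : ∀ {y}, y ∈ S → autFun φ y⁻¹ = (autFun φ y)⁻¹ := fun {y} hy =>
    eq_inv_of_mul_eq_one_left (by rw [← autFun_map_mul φ (S.inv_mem hy) hy, inv_mul_cancel, autFun_map_one])
  have htφ : ∀ {y z}, y ∈ S → z ∈ S → c.t y = c.t z → c.t (autFun φ y) = c.t (autFun φ z) := by
    intro y z hy hz h
    have hA := autFun_grpA c h2 φ (x := y⁻¹ * z) ⟨S.mul_mem (S.inv_mem hy) hz,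
      by rw [c.t_mul (S.inv_mem hy) hz, c.t_inv hy, h, neg_add_cancel]⟩
    have h' := hA.2
    rw [autFun_map_mul φ (S.inv_mem hy) hz, hinvf hy, c.t_mul (S.inv_mem (autFun_mem φ hy))
      (autFun_mem φ hz), c.t_inv (autFun_mem φ hy)] at h'
    linear_combination -h'
  have huφ : ∀ {y z}, y ∈ S → z ∈ S → c.t y = c.t z → c.u y = c.u z →
      c.u (autFun φ y) = c.u (autFun φ z) := by
    intro y z hy hz h h'
    have hD := autFun_grpD c h2 φ (d := y⁻¹ * z) ⟨S.mul_mem (S.inv_mem hy) hz,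
      by rw [c.t_mul (S.inv_mem hy) hz, c.t_inv hy, h, neg_add_cancel],
      by rw [c.u_mul (S.inv_mem hy) hz, c.u_inv hy, h', neg_add_cancel]⟩
    have h'' := hD.2.2
    rw [autFun_map_mul φ (S.inv_mem hy) hz, hinvf hy, c.u_mul (S.inv_mem (autFun_mem φ hy))
      (autFun_mem φ hz), c.u_inv (autFun_mem φ hy)] at h''
    linear_combination -h''
  set M' := φ * M * φ⁻¹
  have hM' : M' ∈ F.autGroup S := mul_mem (mul_mem hφ hM) (inv_mem hφ)
  have e : ∀ y ∈ S, autFun M' y = autFun φ (autFun M (autFun φ⁻¹ y)) := fun y hy => by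
    rw [autFun_mul _ _ hy, autFun_mul _ _ (autFun_mem _ hy)]
  have iM' : IsInv c M' := fun y hy => by
    set w := autFun φ⁻¹ y with hw
    have hwS : w ∈ S := autFun_mem _ hy
    have hyw : autFun φ w = y := autFun_inv_apply φ hy
    rw [e y hy]
    constructor
    · rw [htφ (autFun_mem M hwS) (S.inv_mem hwS) (by rw [(iM w hwS).1, c.t_inv hwS]), hinvf hwS,
        c.t_inv (autFun_mem φ hwS), hyw]
    · intro h0
      have hwt : c.t w = 0 := (autFun_grpA c h2 φ⁻¹ (x := y) ⟨hy, h0⟩).2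
      rw [huφ (autFun_mem M hwS) hwS (by rw [(iM w hwS).1, hwt, neg_zero]) ((iM w hwS).2 hwt), hyw]
  have hy := autFun_mem φ hx.1
  have h := inv_unique c hS hF hM hM' iM iM' hy
  rw [uM _ hy, e _ hy, autFun_apply_inv φ hx.1,
    huφ (autFun_mem M hx.1) (S.inv_mem hx.1) (by rw [(iM x hx.1).1, c.t_inv hx.1])
      (by rw [uM x hx.1, c.u_inv hx.1, hx.2]; ring), hinvf hx.1, c.u_inv hy] at h
  exact ⟨hy, mul_left_cancel₀ h2 (by linear_combination h)⟩

end CfsgLib.SylowLie.SpFour
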