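import Cfsg.Agent.Lib.SylowLie.SpFour.TwoRealize

/-!
# Systems over a Sylow subgroup of `Sp₄` in the defining characteristic
-/

set_option autoImplicit false
set_option linter.style.haveILetI false

open Subgroup
open scoped Classical

namespace CfsgLib.SylowLie.SpFour

open CfsgLib.Fusion
open Cfsg (FusionSystem)

variable {Ω : Type*} [Group Ω] {S : Subgroup Ω} [Finite S] {F : FusionSystem S} {p : ℕ}
  [Fact p.Prime] {K : Type*} [Field K] [CharP K p]

/-- A system that is not realizable has trivial core. -/
theorem core_eq_bot (c : Coord S K) (hS : IsPGroup p S) (hF : F.IsSaturated p)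
    (hR : ¬ F.IsRealizable p) : F.core = ⊥ := by
  by_cases hp : p = 2
  · subst hp
    exact (realizable_two c hS hF).resolve_left hR
  · exact core_eq_bot_odd c hS hF hp hR

end CfsgLib.SylowLie.SpFour
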