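import Cfsg.Agent.S2776
import Cfsg.Agent.Lib.CFun.OffenderPair.Embedded
import Cfsg.Agent.Lib.LocalStructure.AmalgamBasic
import Cfsg.Agent.Lib.SylowLie.Criteria
import Cfsg.Agent.Lib.Fusion.System.EssentialPlane

/-!
# Natural modules in the automizer of an essential subgroup

If the outer automizer of an essential subgroup acts faithfully on an elementary abelian layer on
which the induced Sylow subgroup offends, then the layer has a natural quotient for `SL₂(q)`.
-/

set_option autoImplicit false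
set_option linter.style.haveILetI false

open Subgroup
open scoped Classical

namespace CfsgLib.SylowLie.SpFour

open CfsgLib.Fusion
open CfsgLib.Char.NatSL (fixS)
open Cfsg (FusionSystem autInducedBy pElementClosure)
open Cfsg.FusionSystem (normalizerIn centralizerIn)

local notation "SL2(" F ")" => Matrix.SpecialLinearGroup (Fin 2) F

theorem card_le_of_pGroup_slTwo {p : ℕ} [Fact p.Prime] {F : Type*} [Field F] [Fintype F] [CharP F p]
    {R : Subgroup (SL2(F))} (hR : IsPGroup p R) : Nat.card R ≤ Fintype.card F := by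
  letI : MulAction R (Fin 2 → F) :=
    { smul := fun r v => (r.1.1).mulVec v
      one_smul := fun v => Matrix.one_mulVec v
      mul_smul := fun r s v => by
        show ((r * s : R).1.1).mulVec v = r.1.1.mulVec (s.1.1.mulVec v)
        rw [Matrix.mulVec_mulVec]; rfl }
  have hdvd : p ∣ Nat.card (Fin 2 → F) := by
    obtain ⟨n, hn⟩ := FiniteField.card F p
    rw [Nat.card_eq_fintype_card, Fintype.card_fun, hn.2, Fintype.card_fin, ← pow_mul]
    exact dvd_pow_self p (by positivity)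
  have h0 : (0 : Fin 2 → F) ∈ MulAction.fixedPoints R (Fin 2 → F) :=
    fun r => Matrix.mulVec_zero _
  obtain ⟨v, hv, hv0⟩ := hR.exists_fixed_point_of_prime_dvd_card_of_fixed_point _ hdvd h0
  have hv0' : v ≠ 0 := Ne.symm hv0
  -- a vector completing `v` to a basis of determinant one
  obtain ⟨w, hw⟩ : ∃ w : Fin 2 → F, v 0 * w 1 - v 1 * w 0 = 1 := by
    by_cases h : v 0 = 0
    · have h1 : v 1 ≠ 0 := fun h1 => hv0' (by ext i; fin_cases i <;> simp [h, h1])
      exact ⟨![-(v 1)⁻¹, 0], by simp [h1]⟩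
    · exact ⟨![0, (v 0)⁻¹], by simp [h]⟩
  let φ : R → F := fun r => (r.1.1.mulVec w) 0 * w 1 - (r.1.1.mulVec w) 1 * w 0
  refine Nat.card_eq_fintype_card (α := F) ▸ Nat.card_le_card_of_injective φ fun r s h => ?_
  have key : ∀ r : R, r.1.1.mulVec w = φ r • v + w := by
    intro r
    have e1 : r.1.1.mulVec v = v := hv r
    have hd : r.1.1 0 0 * r.1.1 1 1 - r.1.1 0 1 * r.1.1 1 0 = 1 := by
      rw [← Matrix.det_fin_two]; exact r.1.2
    have e10 := congrFun e1 0
    have e11 := congrFun e1 1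
    simp only [Matrix.mulVec, dotProduct, Fin.sum_univ_two] at e10 e11
    have hdet : v 0 * (r.1.1 1 0 * w 0 + r.1.1 1 1 * w 1) -
        v 1 * (r.1.1 0 0 * w 0 + r.1.1 0 1 * w 1) = 1 := by
      linear_combination (-(r.1.1 1 0 * w 0 + r.1.1 1 1 * w 1)) * e10 +
        (r.1.1 0 0 * w 0 + r.1.1 0 1 * w 1) * e11 + (v 0 * w 1 - v 1 * w 0) * hd + hw
    ext i
    fin_cases i <;> simp only [φ, Matrix.mulVec, dotProduct, Fin.sum_univ_two, Fin.zero_eta,
      Fin.mk_one, Pi.add_apply, Pi.smul_apply, smul_eq_mul]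
    · linear_combination (-(r.1.1 0 0 * w 0 + r.1.1 0 1 * w 1)) * hw + w 0 * hdet
    · linear_combination (-(r.1.1 1 0 * w 0 + r.1.1 1 1 * w 1)) * hw + w 1 * hdet
  have hw' : r.1.1.mulVec w = s.1.1.mulVec w := by rw [key r, key s, h]
  have hv' : r.1.1.mulVec v = s.1.1.mulVec v := (hv r).trans (hv s).symm
  refine Subtype.ext (Subtype.ext (Matrix.ext fun i j => ?_))
  have a1 := congrFun hw' i
  have a2 := congrFun hv' i
  simp only [Matrix.mulVec, dotProduct, Fin.sum_univ_two] at a1 a2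
  fin_cases j <;> simp only [Fin.zero_eta, Fin.mk_one]
  · linear_combination (w 1) * a2 - (v 1) * a1 - (r.1.1 i 0 - s.1.1 i 0) * hw
  · linear_combination (v 0) * a1 - (w 0) * a2 - (r.1.1 i 1 - s.1.1 i 1) * hw

/-- Natural modules from an abelian offending Sylow subgroup in a group with a strongly `p`-embedded
subgroup. -/
theorem natural_of_embedded {G : Type*} [Group G] [Finite G] {p : ℕ} [Fact p.Prime] {V : Type*}
    [AddCommGroup V] [Finite V] [DistribMulAction G V] (vp : ∀ v : V, p • v = 0)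
    (faith : ∀ g : G, (∀ v : V, g • v = v) → g = 1) {X : Subgroup G}
    (hX : Cfsg.IsStronglyPEmbedded p X) (R : Sylow p G)
    (hcomm : ∀ a ∈ (R : Subgroup G), ∀ b ∈ (R : Subgroup G), a * b = b * a)
    (hoff : Nat.card V ≤ Nat.card (R : Subgroup G) * Nat.card (fixS V (R : Subgroup G))) :
    ∃ (F : Type) (_ : Field F) (_ : Fintype F), Fintype.card F = Nat.card (R : Subgroup G) ∧
      ∃ (ρ : ↥(pElementClosure p (⊤ : Subgroup G)) ≃* SL2(F)) (ψ : V →+ (Fin 2 → F)),
        Function.Surjective ψ ∧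
        (∀ v, ψ v = 0 ↔ ∀ h ∈ pElementClosure p (⊤ : Subgroup G), h • v = v) ∧
        ∀ (h : ↥(pElementClosure p (⊤ : Subgroup G))) (v : V),
          ψ ((h : G) • v) = (ρ h).1.mulVec (ψ v) := by
  set K := pElementClosure p (⊤ : Subgroup G) with hK
  have hXK := (Cfsg.Agent.S2776.result X hX).2.1
  have hRK : (R : Subgroup G) ≤ K := CfsgLib.LS.Amal.isPGroup_le_pElementClosure R.2 le_top
  have hgen : ∀ L : Subgroup K, (∀ x : K, (∃ k, x ^ p ^ k = 1) → x ∈ L) → L = ⊤ := by
    intro L hL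
    refine top_unique fun x _ => ?_
    have h1 : pElementClosure p (⊤ : Subgroup G) ≤ L.map K.subtype := by
      refine (Subgroup.closure_le _).2 ?_
      rintro y ⟨-, k, hk⟩
      have hy : y ∈ K := Subgroup.subset_closure ⟨Subgroup.mem_top _, k, hk⟩
      exact ⟨⟨y, hy⟩, hL _ ⟨k, Subtype.ext (by
        rw [SubgroupClass.coe_pow, ← hk]; exact pow_orderOf_eq_one y)⟩, rfl⟩
    obtain ⟨y, hy, hye⟩ := h1 x.2
    exact (show y = x from Subtype.ext hye) ▸ hy
  set R' : Subgroup K := (R : Subgroup G).subgroupOf K with hR'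
  have hR'p : IsPGroup p R' := R.2.comap_of_injective K.subtype Subtype.val_injective
  have hR'card : Nat.card R' = Nat.card (R : Subgroup G) :=
    Nat.card_congr (Subgroup.subgroupOfEquivOfLe hRK).toEquiv
  have hR'ne : R' ≠ ⊥ := fun h => R.ne_bot_of_dvd_card hX.1 (by
    apply Subgroup.eq_bot_of_card_eq
    rw [← hR'card, h, Subgroup.card_bot])
  have hfixR : Nat.card (fixS V R') = Nat.card (fixS V (R : Subgroup G)) :=
    Nat.card_congr (Equiv.subtypeEquivRight fun v => ⟨fun h g hg => h ⟨g, hRK hg⟩ hg,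
      fun h g hg => h g hg⟩)
  obtain ⟨B, hBR, hB⟩ := CfsgLib.CFun.OffenderPair.exists_isMinOff_le (V := V) hR'p
    (fun a ha b hb => Subtype.ext (hcomm a ha b hb)) hR'ne (by rw [hR'card, hfixR]; exact hoff)
  obtain ⟨T, M, hd⟩ := CfsgLib.CFun.OffenderPair.offData_of_embedded vp
    (fun h hh => Subtype.ext (faith h hh)) hXK hgen hB
  obtain ⟨F, iF, iFf, hcard, -, ρ, ψ, hψs, hψ0, hψ⟩ := hd.natural
  have hp' : CharP F p := by
    obtain ⟨k, hk⟩ := IsPGroup.iff_card.1 hB.pgroup
    rw [← hcard] at hk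
    exact charP_of_card_eq_prime_pow (f := k) hk
  refine ⟨F, iF, iFf, le_antisymm ?_ ?_, ρ, ψ, hψs, fun v => ?_, hψ⟩
  · rw [hcard, ← hR'card]
    exact Subgroup.card_le_of_le hBR
  · rw [← hR'card, Nat.card_congr (R'.equivMapOfInjective ρ.toMonoidHom ρ.injective).toEquiv]
    exact card_le_of_pGroup_slTwo (hR'p.map _)
  · rw [hψ0]
    exact ⟨fun h g hg => h ⟨g, hg⟩ (Subgroup.mem_top _), fun h g _ => h g g.2⟩

variable {Ω : Type*} [Group Ω] {S : Subgroup Ω}

/-- A layer of `P`: an additive map whose kernel is invariant under the automizer. -/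
structure Layer (F : FusionSystem S) (P : Subgroup Ω) (V : Type*) [AddCommGroup V] where
  /-- the map -/
  f : Ω → V
  f_mul : ∀ {x y : Ω}, x ∈ P → y ∈ P → f (x * y) = f x + f y
  surj : ∀ v : V, ∃ x ∈ P, f x = v
  inv : ∀ α ∈ F.autGroup P, ∀ x ∈ P, f x = 0 → f (autFun α x) = 0

namespace Layer

variable {F : FusionSystem S} {P : Subgroup Ω} {V : Type*} [AddCommGroup V] (l : Layer F P V)

theorem f_one : l.f 1 = 0 := by simpa using l.f_mul P.one_mem P.one_mem

theorem f_inv {x : Ω} (hx : x ∈ P) : l.f x⁻¹ = -l.f x := by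
  have h := l.f_mul (inv_mem hx) hx
  rw [inv_mul_cancel, l.f_one] at h
  exact eq_neg_of_add_eq_zero_left h.symm

theorem f_congr {α : MulAut P} (hα : α ∈ F.autGroup P) {x y : Ω} (hx : x ∈ P) (hy : y ∈ P)
    (h : l.f x = l.f y) : l.f (autFun α x) = l.f (autFun α y) := by
  have h1 : l.f (x * y⁻¹) = 0 := by rw [l.f_mul hx (inv_mem hy), l.f_inv hy, h, add_neg_cancel]
  have h2 := l.inv α hα _ (mul_mem hx (inv_mem hy)) h1
  have e := autFun_map_mul α (mul_mem hx (inv_mem hy)) hy
  rw [inv_mul_cancel_right] at e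
  rw [e, l.f_mul (autFun_mem α (mul_mem hx (inv_mem hy))) (autFun_mem α hy), h2, zero_add]

/-- A preimage. -/
noncomputable def pre (v : V) : Ω := (l.surj v).choose

theorem pre_mem (v : V) : l.pre v ∈ P := (l.surj v).choose_spec.1

theorem f_pre (v : V) : l.f (l.pre v) = v := (l.surj v).choose_spec.2

/-- The action on the layer. -/
noncomputable def toEnd (α : F.autGroup P) (v : V) : V := l.f (autFun (α : MulAut P) (l.pre v))

theorem toEnd_f (α : F.autGroup P) {x : Ω} (hx : x ∈ P) :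
    l.toEnd α (l.f x) = l.f (autFun (α : MulAut P) x) :=
  l.f_congr α.2 (l.pre_mem _) hx (l.f_pre _)

theorem toEnd_one (v : V) : l.toEnd 1 v = v := by
  rw [toEnd, Subgroup.coe_one, autFun_one (l.pre_mem v), l.f_pre]

theorem toEnd_mul (α β : F.autGroup P) (v : V) : l.toEnd (α * β) v = l.toEnd α (l.toEnd β v) := by
  conv_rhs => rw [toEnd.eq_def l β v, l.toEnd_f α (autFun_mem _ (l.pre_mem v))]
  rw [toEnd, Subgroup.coe_mul, autFun_mul _ _ (l.pre_mem v)]

theorem toEnd_add (α : F.autGroup P) (v w : V) : l.toEnd α (v + w) = l.toEnd α v + l.toEnd α w := by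
  have h : l.f (l.pre v * l.pre w) = v + w := by rw [l.f_mul (l.pre_mem v) (l.pre_mem w), l.f_pre, l.f_pre]
  rw [← h, l.toEnd_f α (mul_mem (l.pre_mem v) (l.pre_mem w)),
    autFun_map_mul _ (l.pre_mem v) (l.pre_mem w), l.f_mul (autFun_mem _ (l.pre_mem v))
    (autFun_mem _ (l.pre_mem w))]
  rfl

/-- The action as automorphisms. -/
noncomputable def toAut : F.autGroup P →* MulAut (Multiplicative V) where
  toFun α :=
    { toFun := fun v => Multiplicative.ofAdd (l.toEnd α v.toAdd)
      invFun := fun v => Multiplicative.ofAdd (l.toEnd α⁻¹ v.toAdd)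
      left_inv := fun v => by simp [← toEnd_mul, toEnd_one]
      right_inv := fun v => by simp [← toEnd_mul, toEnd_one]
      map_mul' := fun v w => by simp [toEnd_add, ofAdd_add] }
  map_one' := by ext v; simp [toEnd_one]
  map_mul' α β := by ext v; simp [toEnd_mul]

theorem toAut_apply (α : F.autGroup P) (v : V) :
    l.toAut α (Multiplicative.ofAdd v) = Multiplicative.ofAdd (l.toEnd α v) := rfl

end Layer

/-- An offending induced Sylow subgroup on a faithful layer of an essential subgroup. -/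
theorem exists_natural_layer [Finite S] {p : ℕ} [Fact p.Prime] {F : FusionSystem S} {P : Subgroup Ω}
    {V : Type*} [AddCommGroup V] [Finite V] (hS : IsPGroup p S) (hF : F.IsSaturated p)
    (hE : F.IsEssential p P) (l : Layer F P V) (vp : ∀ v : V, p • v = 0)
    (hinn : ∀ n ∈ P, ∀ x ∈ P, l.f (n * x * n⁻¹) = l.f x)
    (hker : ∀ α ∈ F.autGroup P, (∀ x ∈ P, l.f (autFun α x) = l.f x) → α ∈ Cfsg.Inn P)
    (hcomm : ∀ s ∈ normalizerIn S P, ∀ r ∈ normalizerIn S P, ∀ x ∈ P,
      l.f (s * (r * x * r⁻¹) * s⁻¹) = l.f (r * (s * x * s⁻¹) * r⁻¹))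
    (hoff : Nat.card V ≤ P.relIndex (normalizerIn S P) *
      Nat.card {v : V // ∀ s ∈ normalizerIn S P, ∀ x ∈ P, l.f x = v → l.f (s * x * s⁻¹) = v}) :
    ∃ (Fk : Type) (_ : Field Fk) (_ : Fintype Fk),
      Fintype.card Fk = P.relIndex (normalizerIn S P) ∧
      ∃ ψ : V →+ (Fin 2 → Fk), Function.Surjective ψ ∧
        (∀ v, ψ v = 0 ↔ ∀ α ∈ pElementClosure p (F.autGroup P), ∀ x ∈ P, l.f x = v →
          l.f (autFun α x) = v) ∧
        (∀ α ∈ pElementClosure p (F.autGroup P), ∃ g : SL2(Fk), ∀ x ∈ P,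
          ψ (l.f (autFun α x)) = g.1.mulVec (ψ (l.f x))) ∧
        ∀ g : SL2(Fk), ∃ α ∈ pElementClosure p (F.autGroup P), ∀ x ∈ P,
          ψ (l.f (autFun α x)) = g.1.mulVec (ψ (l.f x)) := by
  obtain ⟨hc, hn, hnI, E, hX⟩ := id hE
  have hPS := hc.1
  haveI := finite_of_le hPS
  haveI := finite_mulAut (P := P)
  haveI := hnI
  set π := l.toAut with hπ
  set G := π.range with hG
  letI act : DistribMulAction G V :=
    { smul := fun g v => ((g : MulAut (Multiplicative V)) (Multiplicative.ofAdd v)).toAdd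
      one_smul := fun v => rfl
      mul_smul := fun g h v => rfl
      smul_zero := fun g => by
        show ((g : MulAut (Multiplicative V)) 1).toAdd = 0
        rw [map_one]; rfl
      smul_add := fun g v w => by
        show ((g : MulAut (Multiplicative V)) (Multiplicative.ofAdd v * Multiplicative.ofAdd w)).toAdd = _
        rw [map_mul]; rfl }
  haveI : Finite G := Finite.of_surjective π.rangeRestrict π.rangeRestrict_surjective
  have hsmul : ∀ (α : F.autGroup P) (v : V), π.rangeRestrict α • v = l.toEnd α v := fun _ _ => rfl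
  have hsmulf : ∀ (α : F.autGroup P) {x : Ω}, x ∈ P →
      π.rangeRestrict α • l.f x = l.f (autFun (α : MulAut P) x) := fun α x hx => l.toEnd_f α hx
  have faith : ∀ g : G, (∀ v : V, g • v = v) → g = 1 := fun g hg =>
    Subtype.ext (MulEquiv.ext fun v => congrArg Multiplicative.ofAdd (hg v.toAdd))
  -- the kernel
  set I := (Cfsg.Inn P).subgroupOf (F.autGroup P) with hI
  have hkerI : π.ker = I := by
    ext α
    constructor
    · intro h
      refine hker _ α.2 fun x hx => ?_
      show l.f (autFun (α : MulAut P) x) = l.f x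
      have h1 : π.rangeRestrict α = 1 := Subtype.ext h
      rw [← hsmulf α hx, h1, one_smul]
    · intro h
      obtain ⟨b, hb⟩ : (α : MulAut P) ∈ Cfsg.Inn P := h
      refine MonoidHom.mem_ker.2 (MulEquiv.ext fun v => congrArg Multiplicative.ofAdd ?_)
      show l.toEnd α v.toAdd = v.toAdd
      conv_rhs => rw [← l.f_pre v.toAdd, ← hinn b b.2 _ (l.pre_mem _)]
      rw [Layer.toEnd, autFun_apply _ (l.pre_mem v.toAdd), ← hb]
      rfl
  let e : (F.autGroup P ⧸ I) ≃* G :=
    (QuotientGroup.quotientMulEquivOfEq hkerI.symm).trans (QuotientGroup.quotientKerEquivRange π)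
  obtain ⟨X, hX'⟩ : ∃ X : Subgroup G, Cfsg.IsStronglyPEmbedded p X := by
    obtain ⟨hNF, hpE, hEtop, -⟩ := CfsgLib.LS.stronglyPEmbedded_data hX
    refine ⟨E.map e.toMonoidHom, (CfsgLib.PEmb.isStronglyPEmbedded_iff ?_ ?_).2 ?_⟩
    · intro h
      exact hEtop (Subgroup.map_injective (f := e.toMonoidHom) e.injective
        (h.trans (Subgroup.map_top_of_surjective _ e.surjective).symm))
    · rwa [← Nat.card_congr (E.equivMapOfInjective e.toMonoidHom e.injective).toEquiv]
    · intro A hAE hA hA1 g hg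
      obtain ⟨g, rfl⟩ := e.surjective g
      refine ⟨g, hNF (A.comap e.toMonoidHom) (fun a ha => ?_) (hA.comap_of_injective _ e.injective)
        (fun h => hA1 ?_) ?_, rfl⟩
      · obtain ⟨b, hb, hbe⟩ := hAE ha
        exact e.injective hbe ▸ hb
      · rw [← Subgroup.map_comap_eq_self_of_surjective (f := e.toMonoidHom) e.surjective A, h,
          Subgroup.map_bot]
      · refine Subgroup.mem_normalizer_iff.2 fun a => ?_
        simpa [Subgroup.mem_comap] using Subgroup.mem_normalizer_iff.1 hg (e a)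
  -- the Sylow subgroup
  obtain ⟨R₀, hR₀⟩ := (IsSaturated.automized_receptive hS hF hn).1.2
  let R : Sylow p G := R₀.mapSurjective π.rangeRestrict_surjective
  have hRc : (R : Subgroup G) = ((autInducedBy S P).subgroupOf (F.autGroup P)).map π.rangeRestrict := by
    rw [Sylow.coe_mapSurjective, hR₀]
  have hN : ∀ s (hs : s ∈ normalizerIn S P), conjAut s hs.2 ∈ F.autGroup P := fun s hs =>
    autInducedBy_le_autGroup hPS (conjAut_mem hs.1 hs.2)
  let ν : ↥(normalizerIn S P) →* G :=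
    { toFun := fun s => π.rangeRestrict ⟨_, hN s s.2⟩
      map_one' := by
        rw [← map_one π.rangeRestrict]
        exact congrArg _ (Subtype.ext (MonoidHom.map_one P.normalizerMonoidHom))
      map_mul' := fun s r => by
        rw [← map_mul]
        exact congrArg _ (Subtype.ext (MonoidHom.map_mul P.normalizerMonoidHom
          ⟨s, s.2.2⟩ ⟨r, r.2.2⟩)) }
  have hν : ∀ (s : ↥(normalizerIn S P)) {x : Ω}, x ∈ P →
      ν s • l.f x = l.f ((s : Ω) * x * (s : Ω)⁻¹) := fun s x hx => by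
    show π.rangeRestrict ⟨_, hN s s.2⟩ • l.f x = _
    rw [hsmulf _ hx, autFun_conjAut _ hx]
  have hνr : ν.range = (R : Subgroup G) := by
    rw [hRc]
    refine le_antisymm ?_ ?_
    · rintro _ ⟨s, rfl⟩
      exact ⟨_, conjAut_mem s.2.1 s.2.2, rfl⟩
    · rintro _ ⟨α, hα, rfl⟩
      obtain ⟨s, hsS, hs⟩ := mem_autInducedBy_iff.1 (show (α : MulAut P) ∈ autInducedBy S P from hα)
      have hsN : s ∈ normalizerIn S P := ⟨hsS, mem_normalizer_of_autFun hs⟩
      refine ⟨⟨s, hsN⟩, congrArg π.rangeRestrict (Subtype.ext (autFun_ext fun x hx => ?_))⟩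
      rw [hs x hx]
      exact autFun_conjAut _ hx
  have hRcomm : ∀ a ∈ (R : Subgroup G), ∀ b ∈ (R : Subgroup G), a * b = b * a := by
    rw [← hνr]
    rintro _ ⟨s, rfl⟩ _ ⟨r, rfl⟩
    refine inv_mul_eq_one.1 (faith _ fun v => ?_)
    rw [mul_smul, inv_smul_eq_iff, mul_smul, mul_smul, ← l.f_pre v]
    have h := l.pre_mem v
    rw [hν s h, hν r ((Subgroup.mem_normalizer_iff.1 s.2.2 _).1 h), hν r h,
      hν s ((Subgroup.mem_normalizer_iff.1 r.2.2 _).1 h)]
    exact (hcomm r r.2 s s.2 _ h)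
  have hcardR : Nat.card (R : Subgroup G) = P.relIndex (normalizerIn S P) := by
    rw [← hνr, ← Subgroup.index_ker, Subgroup.relIndex]
    congr 1
    ext s
    constructor
    · intro hs
      refine Subgroup.mem_subgroupOf.2 (mem_of_conjAut_mem_inn s.2.1 s.2.2 hPS (centralizerIn_le_of_isCentric hc) ?_)
      have h1 : (⟨_, hN s s.2⟩ : F.autGroup P) ∈ π.ker :=
        MonoidHom.mem_ker.2 (congrArg Subtype.val hs)
      rwa [hkerI] at h1
    · intro hs
      refine MonoidHom.mem_ker.2 (faith _ fun v => ?_)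
      rw [← l.f_pre v, hν s (l.pre_mem v)]
      exact hinn _ hs _ (l.pre_mem v)
  have hfix : Nat.card {v : V // ∀ s ∈ normalizerIn S P, ∀ x ∈ P, l.f x = v → l.f (s * x * s⁻¹) = v} =
      Nat.card (fixS V (R : Subgroup G)) := by
    refine Nat.card_congr (Equiv.subtypeEquivRight fun v => ?_)
    constructor
    · intro h g hg
      rw [← hνr] at hg
      obtain ⟨s, rfl⟩ := hg
      conv_lhs => rw [← l.f_pre v]
      rw [hν s (l.pre_mem v)]
      exact h s s.2 _ (l.pre_mem v) (l.f_pre v)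
    · intro h s hs x hx hxv
      rw [← hν ⟨s, hs⟩ hx, hxv]
      exact h _ (hνr ▸ ⟨_, rfl⟩)
  obtain ⟨Fk, iF, iFf, hcard, ρ, ψ, hψs, hψ0, hψ⟩ :=
    natural_of_embedded vp faith hX' R hRcomm (by rwa [hcardR, ← hfix])
  have hmapK : ((pElementClosure p (F.autGroup P)).subgroupOf (F.autGroup P)).map π.rangeRestrict =
      pElementClosure p (⊤ : Subgroup G) := by
    refine le_antisymm ?_ ((Subgroup.closure_le _).2 ?_)
    · rintro _ ⟨α, hα, rfl⟩
      have h1 : pElementClosure p (F.autGroup P) ≤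
          (((pElementClosure p (⊤ : Subgroup G)).comap π.rangeRestrict)).map (F.autGroup P).subtype := by
        refine (Subgroup.closure_le _).2 ?_
        rintro y ⟨hy, k, hk⟩
        refine ⟨⟨y, hy⟩, Subgroup.subset_closure ⟨Subgroup.mem_top _, ?_⟩, rfl⟩
        have h2 : orderOf (π.rangeRestrict ⟨y, hy⟩) ∣ p ^ k := by
          rw [← hk, ← Subgroup.orderOf_mk y hy]; exact orderOf_map_dvd _ _
        obtain ⟨j, -, hj⟩ := (Nat.dvd_prime_pow Fact.out).1 h2
        exact ⟨j, hj⟩
      obtain ⟨β, hβ, hβe⟩ := h1 hα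
      exact (show β = α from Subtype.ext hβe) ▸ hβ
    · rintro g ⟨-, k, hk⟩
      obtain ⟨U, hU⟩ := (IsPGroup.of_card (n := k) (by rw [Nat.card_zpowers, hk]) :
        IsPGroup p (Subgroup.zpowers g)).exists_le_sylow
      obtain ⟨c, hc'⟩ := MulAction.exists_smul_eq G R U
      have hgU : g ∈ ((c • R : Sylow p G) : Subgroup G) := hc' ▸ hU (Subgroup.mem_zpowers g)
      rw [Sylow.coe_subgroup_smul, Subgroup.mem_pointwise_smul_iff_inv_smul_mem, ← hνr] at hgU
      obtain ⟨s, hs⟩ := hgU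
      obtain ⟨γ, rfl⟩ := π.rangeRestrict_surjective c
      refine ⟨γ * ⟨_, hN s s.2⟩ * γ⁻¹, ?_, ?_⟩
      · refine Subgroup.mem_subgroupOf.2 ((Subgroup.mem_normalizer_iff.1
          (CfsgLib.LS.Amal.le_normalizer_pElementClosure (p := p) (F.autGroup P) γ.2) _).1 ?_)
        exact CfsgLib.LS.Amal.isPGroup_le_pElementClosure (isPGroup_autInducedBy hS)
          (autInducedBy_le_autGroup hPS) (conjAut_mem s.2.1 s.2.2)
      · rw [map_mul, map_mul, map_inv, show π.rangeRestrict ⟨_, hN s s.2⟩ = ν s from rfl, hs]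
        simp [MulAut.smul_def, MulDistribMulAction.toMulAut, mul_assoc]
  have hmem : ∀ {α} (hα : α ∈ pElementClosure p (F.autGroup P)) (hα' : α ∈ F.autGroup P),
      π.rangeRestrict ⟨α, hα'⟩ ∈ pElementClosure p (⊤ : Subgroup G) := fun hα hα' =>
    hmapK ▸ ⟨⟨_, hα'⟩, hα, rfl⟩
  refine ⟨Fk, iF, iFf, hcard.trans hcardR, ψ, hψs, fun v => (hψ0 v).trans ?_, fun α hα => ?_,
    fun g => ?_⟩
  · constructor
    · intro h α hα x hx hxv
      have hα' := CfsgLib.LS.Amal.pElementClosure_le _ hα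
      rw [← hsmulf ⟨α, hα'⟩ hx, hxv]
      exact h _ (hmem hα hα')
    · intro h g hg
      rw [← hmapK] at hg
      obtain ⟨α, hα, rfl⟩ := hg
      conv_lhs => rw [← l.f_pre v]
      rw [hsmulf α (l.pre_mem v)]
      exact h _ hα _ (l.pre_mem v) (l.f_pre v)
  · have hα' := CfsgLib.LS.Amal.pElementClosure_le _ hα
    refine ⟨ρ ⟨_, hmem hα hα'⟩, fun x hx => ?_⟩
    rw [← hsmulf ⟨α, hα'⟩ hx]
    exact hψ ⟨_, hmem hα hα'⟩ _
  · obtain ⟨α, hα, hαe⟩ := hmapK.ge (ρ.symm g).2
    refine ⟨α, hα, fun x hx => ?_⟩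
    rw [← hsmulf α hx, hαe, hψ, MulEquiv.apply_symm_apply]

end CfsgLib.SylowLie.SpFour
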