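import Cfsg.Agent.Lib.SylowLie.SpFour.AMod

/-!
# No configuration of type `A` in odd characteristic, apart from nine elements

Orbit sums of products of two additive forms detect the fixed vectors.
-/

set_option autoImplicit false
set_option linter.style.haveILetI false
set_option linter.unusedSectionVars false

open Subgroup
open scoped Classical Pointwise

namespace CfsgLib.SylowLie.SpFour

open Cfsg (pElementClosure)
open CfsgLib.Char.NatSL (fixS)

variable {p : ℕ} [Fact p.Prime] {K : Type*} [Field K] [Fintype K] [CharP K p] {H : Type*} [Group H]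
  [Finite H] [DistribMulAction H (K × K × K)]

namespace AMod

variable {R : Sylow p H} {X : Subgroup H} (hd : AMod (K := K) R X)

include hd

/-- The last coordinate is not fixed throughout. -/
theorem exists_not_fixed (h2 : (2 : K) ≠ 0) :
    ∃ w : K, ¬ ∀ h : H, h • ((0, 0, w) : K × K × K) = (0, 0, w) := by
  by_contra hall
  push Not at hall
  let q : K × K → K × K × K := fun x => (x.1, x.2, 0)
  let π : K × K × K → K × K := fun y => (y.1, y.2.1)
  have hπq : ∀ x, π (q x) = x := fun x => rfl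
  have hdec : ∀ y, y = q (π y) + (0, 0, y.2.2) := fun y => by simp [q, π]
  have hπadd : ∀ y z, π (y + z) = π y + π z := fun y z => rfl
  have hπh : ∀ (h : H) (y : K × K × K), π (h • y) = π (h • q (π y)) := fun h y => by
    conv_lhs => rw [hdec y, smul_add, hall y.2.2 h, hπadd]
    exact add_zero _
  letI act : DistribMulAction H (K × K) :=
    { smul := fun h x => π (h • q x)
      one_smul := fun x => by show π ((1 : H) • q x) = x; rw [one_smul]
      mul_smul := fun g h x => by
        show π ((g * h) • q x) = π (g • q (π (h • q x)))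
        rw [mul_smul, hπh]
      smul_zero := fun h => by
        show π (h • q (0, 0)) = 0
        rw [show q (0, 0) = 0 from rfl, smul_zero]; rfl
      smul_add := fun h x y => by
        show π (h • q (x + y)) = π (h • q x) + π (h • q y)
        rw [← hπadd, ← smul_add]
        congr 2
        simp [q] }
  have hsmul : ∀ (h : H) y, h • π y = π (h • y) := fun h y => (hπh h y).symm
  -- faithful
  set Nk : Subgroup H :=
    { carrier := {h | ∀ x : K × K, h • x = x}
      one_mem' := fun x => one_smul H x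
      mul_mem' := fun {a b} ha hb x => by rw [mul_smul, hb, ha]
      inv_mem' := fun {a} ha x => by rw [inv_smul_eq_iff, ha] } with hNk
  have hNn : Nk.Normal := ⟨fun a ha g x => by rw [mul_smul, mul_smul, ha, smul_inv_smul]⟩
  have hNp : IsPGroup p Nk := by
    intro a
    refine ⟨1, Subtype.ext (hd.faith _ fun y => ?_)⟩
    obtain ⟨c, hc⟩ : ∃ c : K, (a : H) • y = y + (0, 0, c) := by
      refine ⟨((a : H) • y).2.2 - y.2.2, ?_⟩
      have h := (hsmul a y).symm.trans (a.2 (π y))
      simp only [π, Prod.mk.injEq] at h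
      exact Prod.ext (by simp [h.1]) (Prod.ext (by simp [h.2]) (by simp))
    have hit : ∀ k : ℕ, (a : H) ^ k • y = y + (0, 0, k * c) := by
      intro k
      induction k with
      | zero => simp
      | succ k ih =>
        rw [pow_succ', mul_smul, ih, smul_add, hall, hc, add_assoc]
        congr 1
        simp [add_mul, add_comm]
    rw [pow_one, Subgroup.coe_pow, hit, CharP.cast_eq_zero, zero_mul]
    simp
  have faith : ∀ h : H, (∀ x : K × K, h • x = x) → h = 1 := fun h hh => by
    obtain ⟨t, rfl⟩ := hd.exists_par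
      (CfsgLib.Coprime.pCore_le_sylow R (CfsgLib.Coprime.le_pCore (hN := hNn) hNp hh))
    have h1 := hh (π (1, 0, 0))
    rw [hsmul, hd.par_smul] at h1
    simp [π] at h1
    refine hd.faith _ ?_
    rintro ⟨u, v, w⟩
    rw [hd.par_smul, h1]
    simp
  have hRcard : Nat.card (R : Subgroup H) = Nat.card K := by
    refine (Nat.card_congr (Equiv.ofBijective (fun t => (⟨hd.par t, hd.par_mem t⟩ : (R : Subgroup H)))
      ⟨fun s t h => ?_, fun r => ?_⟩)).symm
    · have e := congrArg (fun r : (R : Subgroup H) => ((r : H) • ((1, 0, 0) : K × K × K)).2.1) h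
      simpa [hd.par_smul] using e
    · obtain ⟨t, ht⟩ := hd.exists_par r.2
      exact ⟨t, Subtype.ext ht.symm⟩
  obtain ⟨Fk, iF, iFf, hcard, ρ, ψ, hψs, -, hψ⟩ := natural_of_embedded (V := K × K)
    (fun v => by rw [nsmul_eq_mul]; ext <;> simp [CharP.cast_eq_zero]) faith hd.emb R
    (fun a ha b hb => hd.R_comm ha hb) (by
      rw [Nat.card_prod, hRcard]
      refine Nat.mul_le_mul_left _ (Nat.card_le_card_of_injective (fun v => ⟨(0, v), ?_⟩) fun a b h => ?_)
      · intro h hh
        obtain ⟨t, rfl⟩ := hd.exists_par hh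
        show π (hd.par t • q (0, v)) = (0, v)
        rw [show q (0, v) = ((0, v, 0) : K × K × K) from rfl, hd.par_smul]
        simp [π]
      · exact congrArg (fun q : {v : K × K // v ∈ fixS (K × K) (R : Subgroup H)} => q.1.2) h)
  obtain ⟨⟨j, hj⟩, hjρ⟩ : ∃ j, ρ j = -1 := ρ.surjective _
  have hneg : ∀ x : K × K, j • x = -x := fun x => by
    have h := hψ ⟨j, hj⟩ x
    rw [hjρ, Matrix.SpecialLinearGroup.coe_neg, Matrix.SpecialLinearGroup.coe_one, Matrix.neg_mulVec,
      Matrix.one_mulVec, ← map_neg, ← sub_eq_zero, ← map_sub] at h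
    have hle : Nat.card (K × K) ≤ Nat.card (Fin 2 → Fk) := by
      rw [Nat.card_fun, Nat.card_fin, Nat.card_eq_fintype_card (α := Fk), hcard, hRcard, Nat.card_prod,
        pow_two]
    have hb := (Nat.bijective_iff_surjective_and_card ψ).2
      ⟨hψs, le_antisymm hle (Nat.card_le_card_of_surjective ψ hψs)⟩
    exact sub_eq_zero.1 (hb.1 (h.trans ψ.map_zero.symm))
  have hjr : ∀ t (y : K × K × K), j • (hd.par t • y) = hd.par t • (j • y) := fun t y => by
    have h : j * hd.par t = hd.par t * j := inv_mul_eq_one.1 (faith _ fun x => by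
      rw [mul_smul, inv_smul_eq_iff, mul_smul, mul_smul, hneg, hneg, smul_neg])
    rw [← mul_smul, h, mul_smul]
  -- a vector inverted by `j`
  set b := (j • ((1, 0, 0) : K × K × K)).2.2 with hb
  have hjb : j • ((1, 0, 0) : K × K × K) = (-1, 0, b) := by
    have h := (hsmul j (1, 0, 0)).symm.trans (hneg _)
    simp only [π, Prod.mk.injEq, Prod.neg_mk] at h
    exact Prod.ext h.1 (Prod.ext (h.2.trans neg_zero) rfl)
  have hx : j • ((1, 0, -b / 2) : K × K × K) = -((1, 0, -b / 2) : K × K × K) := by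
    rw [show ((1, 0, -b / 2) : K × K × K) = (1, 0, 0) + (0, 0, -b / 2) by simp, smul_add, hjb, hall]
    simp
    field_simp
    ring
  have hline : ∀ t : K, j • ((1, t, -b / 2 + t ^ 2) : K × K × K) = -((1, t, -b / 2 + t ^ 2) : K × K × K) := by
    intro t
    have h := hjr t (1, 0, -b / 2)
    rw [hx, smul_neg, hd.par_smul] at h
    simpa using h
  have e1 := hline 1
  have e2 := hline (-1)
  have e0 : j • ((1, 1, -b / 2 + 1 ^ 2) + ((1, -1, -b / 2 + (-1) ^ 2) : K × K × K) -
      ((1, 0, -b / 2) + (1, 0, -b / 2))) =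
      -((1, 1, -b / 2 + 1 ^ 2) + ((1, -1, -b / 2 + (-1) ^ 2) : K × K × K) -
      ((1, 0, -b / 2) + (1, 0, -b / 2))) := by
    simp only [smul_sub, smul_add, e1, e2, hx]
    abel
  rw [show (1, 1, -b / 2 + 1 ^ 2) + ((1, -1, -b / 2 + (-1) ^ 2) : K × K × K) -
      ((1, 0, -b / 2) + (1, 0, -b / 2)) = (0, 0, 2) by simp; ring, hall, eq_neg_iff_add_eq_zero] at e0
  simp at e0
  exact h2 ((mul_eq_zero.1 (show (2 : K) * 2 = 0 by linear_combination e0)).elim id id)

/-- A vector with orbit inside the fixed line is fixed. -/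
theorem fixed_of_orbit {x : K × K × K} (hx : ∀ h : H, ∃ w, h • x = (0, 0, w)) (h : H) : h • x = x := by
  have htop : (⊤ : Subgroup H) ≤ MulAction.stabilizer H x := by
    rw [← hd.gen, pElementClosure]
    refine (Subgroup.closure_le _).2 ?_
    rintro g ⟨-, k, hk⟩
    obtain ⟨U, hU⟩ := (IsPGroup.of_card (n := k) (by rw [Nat.card_zpowers, hk]) :
      IsPGroup p (Subgroup.zpowers g)).exists_le_sylow
    obtain ⟨c, hc⟩ := MulAction.exists_smul_eq H R U
    have hg : g ∈ ((c • R : Sylow p H) : Subgroup H) := hc ▸ hU (Subgroup.mem_zpowers g)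
    rw [Sylow.coe_subgroup_smul, Subgroup.mem_pointwise_smul_iff_inv_smul_mem] at hg
    obtain ⟨w, hw⟩ := hx c⁻¹
    have e := hd.fix_Z hg w
    simp only [MulAut.smul_def] at e
    change ((MulAut.conj c)⁻¹ g) • ((0, 0, w) : K × K × K) = (0, 0, w) at e
    rw [MulAut.conj_inv_apply, ← hw, mul_smul, mul_smul, smul_inv_smul] at e
    exact MulAction.mem_stabilizer_iff.2 (smul_left_cancel _ e)
  exact MulAction.mem_stabilizer_iff.1 (htop (Subgroup.mem_top h))

omit hd in
/-- The orbit as a finite set. -/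
noncomputable def orb (z : K) : Finset (K × K × K) :=
  (Set.toFinite (MulAction.orbit H ((0, 0, z) : K × K × K))).toFinset

omit hd in
theorem mem_orb {z : K} {x : K × K × K} :
    x ∈ orb (H := H) z ↔ ∃ h : H, h • ((0, 0, z) : K × K × K) = x := by
  simp [orb, MulAction.mem_orbit_iff]

omit hd in
/-- The orbit sum contracted with a form. -/
noncomputable def tens (z : K) (f : K × K × K →+ ZMod p) : K × K × K :=
  ∑ x ∈ orb (H := H) z, (f x).val • x

omit hd in
theorem apply_tens (z : K) (f f' : K × K × K →+ ZMod p) :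
    f' (tens (H := H) z f) = ∑ x ∈ orb (H := H) z, f x * f' x := by
  rw [tens, map_sum]
  refine Finset.sum_congr rfl fun x _ => ?_
  rw [map_nsmul, nsmul_eq_mul, ZMod.natCast_zmod_val]

omit hd in
theorem smul_tens (z : K) (f : K × K × K →+ ZMod p) (h : H) :
    h • tens (H := H) z f = tens (H := H) z (f.comp (DistribSMul.toAddMonoidHom _ h⁻¹)) := by
  rw [tens, tens, Finset.smul_sum]
  refine Finset.sum_bij' (fun x _ => h • x) (fun x _ => h⁻¹ • x) ?_ ?_ ?_ ?_ ?_
  · intro x hx
    obtain ⟨g, hg⟩ := mem_orb.1 hx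
    exact mem_orb.2 ⟨h * g, by rw [mul_smul, hg]⟩
  · intro x hx
    obtain ⟨g, hg⟩ := mem_orb.1 hx
    exact mem_orb.2 ⟨h⁻¹ * g, by rw [mul_smul, hg]⟩
  · intro x _; exact inv_smul_smul h x
  · intro x _; exact smul_inv_smul h x
  · intro x _
    rw [smul_comm]
    simp [inv_smul_smul]

/-- Sums over an orbit reduce to the fixed line. -/
theorem sum_orb (h2 : (2 : K) ≠ 0) {M : Type*} [AddCommMonoid M] (z : K) (φ : K × K × K → M)
    (hφ : ∀ u w : K, u ≠ 0 → ∑ t : K, φ (u, t * u, w + t ^ 2 * u) = 0) :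
    ∑ x ∈ orb (H := H) z, φ x = ∑ x ∈ (orb (H := H) z).filter (fun x => x.1 = 0), φ x := by
  set O := orb (H := H) z
  have hrest : ∑ x ∈ O.filter (fun x => ¬ x.1 = 0), φ x = 0 := by
    have hR : ∀ t, ∀ x ∈ O, hd.par t • x ∈ O := fun t x hx => by
      obtain ⟨g, hg⟩ := mem_orb.1 hx
      exact mem_orb.2 ⟨hd.par t * g, by rw [mul_smul, hg]⟩
    rw [show ∑ x ∈ O.filter (fun x => ¬ x.1 = 0), φ x =
      ∑ q ∈ (O.filter fun x => ¬ x.1 = 0 ∧ x.2.1 = 0) ×ˢ (Finset.univ : Finset K),
        φ (hd.par q.2 • q.1) from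
      Finset.sum_bij' (fun x _ => (hd.par (-(x.2.1 / x.1)) • x, x.2.1 / x.1))
        (fun q _ => hd.par q.2 • q.1) ?_ ?_ ?_ ?_ ?_]
    · rw [Finset.sum_product]
      refine Finset.sum_eq_zero ?_
      rintro ⟨u, v, w⟩ hy
      obtain ⟨-, hu, hv⟩ := Finset.mem_filter.1 hy
      simp only at hu hv
      subst hv
      refine Eq.trans (Finset.sum_congr rfl fun t _ => ?_) (hφ u w hu)
      rw [hd.par_smul]; simp
    · rintro ⟨u, v, w⟩ hx
      obtain ⟨hxO, hu⟩ := Finset.mem_filter.1 hx
      refine Finset.mem_product.2 ⟨Finset.mem_filter.2 ⟨hR _ _ hxO, ?_⟩, Finset.mem_univ _⟩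
      rw [hd.par_smul]
      simp only at hu ⊢
      refine ⟨hu, ?_⟩
      field_simp
      ring
    · rintro ⟨⟨u, v, w⟩, t⟩ hq
      obtain ⟨hy, -⟩ := Finset.mem_product.1 hq
      obtain ⟨hyO, hu, hv⟩ := Finset.mem_filter.1 hy
      refine Finset.mem_filter.2 ⟨hR _ _ hyO, ?_⟩
      rw [hd.par_smul]
      exact hu
    · rintro ⟨u, v, w⟩ hx
      show hd.par (v / u) • (hd.par (-(v / u)) • ((u, v, w) : K × K × K)) = _
      rw [← mul_smul, hd.par_mul, add_neg_cancel, hd.par_smul]
      simp
    · rintro ⟨⟨u, v, w⟩, t⟩ hq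
      obtain ⟨hy, -⟩ := Finset.mem_product.1 hq
      obtain ⟨-, hu, hv⟩ := Finset.mem_filter.1 hy
      simp only at hu hv
      subst hv
      refine Prod.ext ?_ ?_
      · show hd.par (-((hd.par t • ((u, 0, w) : K × K × K)).2.1 /
          (hd.par t • ((u, 0, w) : K × K × K)).1)) • (hd.par t • ((u, 0, w) : K × K × K)) = _
        rw [← mul_smul, hd.par_mul]
        simp [hd.par_smul, hu]
      · show (hd.par t • ((u, 0, w) : K × K × K)).2.1 / (hd.par t • ((u, 0, w) : K × K × K)).1 = t
        simp [hd.par_smul, hu]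
    · rintro ⟨u, v, w⟩ hx
      show _ = φ (hd.par (v / u) • (hd.par (-(v / u)) • ((u, v, w) : K × K × K)))
      rw [← mul_smul, hd.par_mul, add_neg_cancel, hd.par_smul]
      simp
  rw [← Finset.sum_filter_add_sum_filter_not O (fun x => x.1 = 0), hrest, add_zero]

/-- An orbit point in the layer lies in the fixed line. -/
theorem orb_line (h2 : (2 : K) ≠ 0) {z : K} {x : K × K × K} (hx : x ∈ orb (H := H) z) (hu : x.1 = 0) :
    x = (0, 0, x.2.2) := by
  obtain ⟨g, hg⟩ := mem_orb.1 hx
  obtain ⟨u, v, w⟩ := x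
  simp only at hu
  subst hu
  rw [hd.orbit_avoid h2 hg]

omit hd in
theorem forms_pt (f : K × K × K →+ ZMod p) (u w t : K) :
    f (u, t * u, w + t ^ 2 * u) =
      f (u, 0, 0) + f (0, t * u, 0) + f (0, 0, w) + f (0, 0, t ^ 2 * u) := by
  rw [← map_add, ← map_add, ← map_add]; simp

/-- The contraction is a fixed vector of the line. -/
theorem tens_fixed (h2 : (2 : K) ≠ 0) {n : ℕ} (hn : Fintype.card K = p ^ n)
    (hk : 3 < n * (p - 1)) (z : K) (f : K × K × K →+ ZMod p) (h : H) :
    h • tens (H := H) z f = tens (H := H) z f ∧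
      (tens (H := H) z f).1 = 0 ∧ (tens (H := H) z f).2.1 = 0 := by
  have key : ∀ f : K × K × K →+ ZMod p,
      (tens (H := H) z f).1 = 0 ∧ (tens (H := H) z f).2.1 = 0 := by
    intro f
    refine ⟨eq_zero_of_forms fun L => ?_, eq_zero_of_forms fun L => ?_⟩
    · have h1 := apply_tens (H := H) z f (L.comp (AddMonoidHom.fst K (K × K)))
      simp only [AddMonoidHom.comp_apply, AddMonoidHom.coe_fst] at h1
      rw [h1, hd.sum_orb h2 z _ fun u w _ => ?_]
      · exact Finset.sum_eq_zero fun x hx => by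
          rw [(Finset.mem_filter.1 hx).2, map_zero, mul_zero]
      · simp only [forms_pt,
          add_mul, Finset.sum_add_distrib, ← Finset.sum_mul]
        have eA : ∑ t : K, f (0, t * u, 0) = 0 := sum_one_eq_zero hn (by omega)
          ((f.comp ((AddMonoidHom.inr K (K × K)).comp (AddMonoidHom.inl K K))).comp
            (AddMonoidHom.mulRight u))
        have eB : ∑ t : K, f (0, 0, t ^ 2 * u) = 0 := by
          have h2' := sum_sq_eq_zero hn (by omega)
            ((f.comp ((AddMonoidHom.inr K (K × K)).comp (AddMonoidHom.inr K K))).comp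
              (AddMonoidHom.mulRight u))
          simpa [pow_two] using h2'
        rw [sum_const_eq_zero hn (by omega) (f (u, 0, 0)), eA, eB,
          sum_const_eq_zero hn (by omega) (f (0, 0, w))]
        simp
    · have h1 := apply_tens (H := H) z f
        ((L.comp (AddMonoidHom.fst K K)).comp (AddMonoidHom.snd K (K × K)))
      simp only [AddMonoidHom.comp_apply, AddMonoidHom.coe_fst, AddMonoidHom.coe_snd] at h1
      rw [h1, hd.sum_orb h2 z _ fun u w _ => ?_]
      · exact Finset.sum_eq_zero fun x hx => by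
          rw [hd.orb_line h2 (Finset.mem_filter.1 hx).1 (Finset.mem_filter.1 hx).2]
          simp
      · simp only [forms_pt,
          add_mul, Finset.sum_add_distrib]
        set A := (f.comp ((AddMonoidHom.inr K (K × K)).comp (AddMonoidHom.inl K K))).comp
          (AddMonoidHom.mulRight u)
        set B := (f.comp ((AddMonoidHom.inr K (K × K)).comp (AddMonoidHom.inr K K))).comp
          (AddMonoidHom.mulRight u)
        set M := L.comp (AddMonoidHom.mulRight u)
        have e1 : ∑ t : K, f (u, 0, 0) * L (t * u) = 0 := by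
          rw [← Finset.mul_sum]
          exact mul_eq_zero_of_right _ (sum_one_eq_zero hn (by omega) M)
        have e2 : ∑ t : K, f (0, t * u, 0) * L (t * u) = 0 := sum_two_eq_zero hn (by omega) A M
        have e3 : ∑ t : K, f (0, 0, w) * L (t * u) = 0 := by
          rw [← Finset.mul_sum]
          exact mul_eq_zero_of_right _ (sum_one_eq_zero hn (by omega) M)
        have e4 : ∑ t : K, f (0, 0, t ^ 2 * u) * L (t * u) = 0 := by
          have h3 := sum_sq_mul_eq_zero hn hk B M
          simpa [B, M, pow_two] using h3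
        rw [e1, e2, e3, e4]; simp
  refine ⟨hd.fixed_of_orbit (fun g => ?_) h, key f⟩
  refine ⟨(g • tens (H := H) z f).2.2, ?_⟩
  rw [smul_tens]
  exact Prod.ext (key _).1 (Prod.ext (key _).2 rfl)

/-- For more than nine elements the contraction only sees the fixed line. -/
theorem tens_line (h2 : (2 : K) ≠ 0) {n : ℕ} (hn : Fintype.card K = p ^ n)
    (hk : 4 < n * (p - 1)) (z : K) (f : K × K × K →+ ZMod p) :
    (tens (H := H) z f).2.2 =
      ∑ x ∈ (orb (H := H) z).filter (fun x => x.1 = 0), (f x).val • x.2.2 := by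
  refine sub_eq_zero.1 (eq_zero_of_forms (p := p) fun L => ?_)
  have h1 := apply_tens (H := H) z f
    ((L.comp (AddMonoidHom.snd K K)).comp (AddMonoidHom.snd K (K × K)))
  simp only [AddMonoidHom.comp_apply, AddMonoidHom.coe_snd] at h1
  rw [map_sub, h1, sub_eq_zero, hd.sum_orb h2 z _ fun u w _ => ?_, map_sum]
  · exact Finset.sum_congr rfl fun x _ => by rw [map_nsmul, nsmul_eq_mul, ZMod.natCast_zmod_val]
  · simp only [forms_pt, map_add,
      add_mul, mul_add, Finset.sum_add_distrib]
    set A := (f.comp ((AddMonoidHom.inr K (K × K)).comp (AddMonoidHom.inl K K))).comp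
      (AddMonoidHom.mulRight u)
    set B := (f.comp ((AddMonoidHom.inr K (K × K)).comp (AddMonoidHom.inr K K))).comp
      (AddMonoidHom.mulRight u)
    set M := L.comp (AddMonoidHom.mulRight u)
    have c1 : ∀ a : ZMod p, ∑ _t : K, a = 0 := sum_const_eq_zero hn (by omega)
    have eA : ∀ a : ZMod p, ∑ t : K, f (0, t * u, 0) * a = 0 := fun a => by
      rw [← Finset.sum_mul]
      exact mul_eq_zero_of_left (sum_one_eq_zero hn (by omega) A) _
    have eB : ∀ a : ZMod p, ∑ t : K, f (0, 0, t ^ 2 * u) * a = 0 := fun a => by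
      rw [← Finset.sum_mul]
      refine mul_eq_zero_of_left ?_ _
      have h3 := sum_sq_eq_zero hn (by omega) B
      simpa [B, pow_two] using h3
    have eM : ∀ a : ZMod p, ∑ t : K, a * L (t ^ 2 * u) = 0 := fun a => by
      rw [← Finset.mul_sum]
      refine mul_eq_zero_of_right _ ?_
      have h3 := sum_sq_eq_zero hn (by omega) M
      simpa [M, pow_two] using h3
    have eAM : ∑ t : K, f (0, t * u, 0) * L (t ^ 2 * u) = 0 := by
      have h3 := sum_sq_mul_eq_zero hn (by omega) M A
      simpa [A, M, pow_two, mul_comm (L _)] using h3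
    have eBM : ∑ t : K, f (0, 0, t ^ 2 * u) * L (t ^ 2 * u) = 0 := by
      have h3 := sum_sq_sq_eq_zero hn hk B M
      simpa [B, M, pow_two] using h3
    rw [c1, c1, eA, eB, eM, eM, eAM, eBM]
    simp

/-- The orbit points in the fixed line are field conjugates. -/
theorem orb_sigma (h2 : (2 : K) ≠ 0) {w0 : K} (hw0 : w0 ≠ 0)
    (hfix : ∀ h : H, h • ((0, 0, w0) : K × K × K) = (0, 0, w0)) {s : K} {x : K × K × K}
    (hx : x ∈ orb (H := H) (w0 * s)) (hu : x.1 = 0) : ∃ σ : K →+* K, x = (0, 0, w0 * σ s) := by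
  obtain ⟨g, hg⟩ := mem_orb.1 hx
  have e := hd.orb_line h2 hx hu
  rw [e] at hg
  obtain ⟨n, hn, hnz⟩ := hd.fusion_Z hg
  obtain ⟨σ, a, b, -, -, -, -, hδ, -⟩ := hd.normalizer_layers h2 hn
  refine ⟨σ, ?_⟩
  rw [e, ← hnz, hδ, map_mul]
  have h0 := hfix n
  rw [hδ] at h0
  simp only [Prod.mk.injEq, true_and] at h0
  rw [← mul_assoc, h0]

/-- No configuration with more than nine elements. -/
theorem false_of_large (h2 : (2 : K) ≠ 0) {n : ℕ} (hn : Fintype.card K = p ^ n)
    (hk : 4 < n * (p - 1)) : False := by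
  letI := ZMod.algebra K p
  obtain ⟨w0, hw0, hfix⟩ := hd.fix
  obtain ⟨w1, hw1⟩ := hd.exists_not_fixed h2
  suffices hs : ∃ (s : K) (L : K →+ ZMod p), L (w0 * s) = 1 ∧
      (¬ ∀ h : H, h • ((0, 0, w0 * s) : K × K × K) = (0, 0, w0 * s)) ∧
      ∀ x ∈ (orb (H := H) (w0 * s)).filter (fun x => x.1 = 0),
        x ≠ (0, 0, w0 * s) → L x.2.2 = 0 by
    obtain ⟨s, L, hL1, hnf, hL0⟩ := hs
    refine hnf fun h => ?_
    set f : K × K × K →+ ZMod p :=
      (L.comp (AddMonoidHom.snd K K)).comp (AddMonoidHom.snd K (K × K))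
    obtain ⟨hfx, hu, hv⟩ := hd.tens_fixed h2 hn (by omega) (w0 * s) f h
    have hw := hd.tens_line h2 hn hk (w0 * s) f
    rw [Finset.sum_eq_single ((0, 0, w0 * s) : K × K × K)] at hw
    · have hT : tens (H := H) (w0 * s) f = (0, 0, w0 * s) := by
        refine Prod.ext hu (Prod.ext hv (hw.trans ?_))
        simp [f, hL1, ZMod.val_one]
      rwa [hT] at hfx
    · intro x hx hne
      simp [f, hL0 x hx hne]
    · intro h'
      refine absurd (Finset.mem_filter.2 ⟨?_, ?_⟩) h'
      · exact mem_orb.2 ⟨1, one_smul H _⟩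
      · rfl
  by_cases htriv : ∀ s : K, ∀ x ∈ orb (H := H) (w0 * s), x.1 = 0 → x = (0, 0, w0 * s)
  · -- every orbit meets the line once
    have hw1' : w0 * (w1 / w0) = w1 := by field_simp
    have hne : w1 ≠ 0 := fun h => hw1 fun g => by
      rw [h, show ((0, 0, 0) : K × K × K) = 0 from rfl, smul_zero]
    obtain ⟨L, hL⟩ : ∃ L : K →+ ZMod p, L w1 ≠ 0 := by
      by_contra! h
      exact hne (eq_zero_of_forms h)
    refine ⟨w1 / w0, (AddMonoidHom.mulLeft (L w1)⁻¹).comp L, ?_, by rwa [hw1'], fun x hx hxne => ?_⟩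
    · simp [hw1', hL]
    · exact absurd (htriv _ x (Finset.mem_filter.1 hx).1 (Finset.mem_filter.1 hx).2) hxne
  · push Not at htriv
    obtain ⟨s₁, x₁, hx₁, hx₁u, hx₁ne⟩ := htriv
    obtain ⟨s, hs⟩ := exists_linearIndependent_algEquiv_apply (ZMod p) K
    have hli : LinearIndependent (ZMod p) fun τ : Gal(K/ZMod p) => w0 * τ s :=
      hs.map' (LinearMap.mulLeft (ZMod p) w0) (LinearMap.ker_eq_bot.2 (mul_right_injective₀ hw0))
    have hgal : ∀ σ : K →+* K, ∃ τ : Gal(K/ZMod p), ∀ a, τ a = σ a := fun σ =>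
      ⟨AlgEquiv.ofBijective (AlgHom.mk σ (fun r =>
        RingHom.congr_fun (RingHom.ext_zmod (σ.comp (algebraMap (ZMod p) K)) (algebraMap _ _)) r))
        (Finite.injective_iff_bijective.1 σ.injective), fun _ => rfl⟩
    obtain ⟨L, hL⟩ := LinearMap.exists_extend
      ((Finsupp.lapply (1 : Gal(K/ZMod p))).comp hli.repr)
    have hLv : ∀ τ : Gal(K/ZMod p), L (w0 * τ s) = Finsupp.single τ (1 : ZMod p) 1 := fun τ => by
      have h := LinearMap.congr_fun hL ⟨w0 * τ s, Submodule.subset_span ⟨τ, rfl⟩⟩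
      rw [LinearMap.comp_apply, LinearMap.comp_apply,
        hli.repr_eq_single τ ⟨w0 * τ s, Submodule.subset_span ⟨τ, rfl⟩⟩ rfl] at h
      exact h
    refine ⟨s, L.toAddMonoidHom, ?_, ?_, ?_⟩
    · have h := hLv 1
      simpa using h
    · intro hfs
      obtain ⟨g, hg⟩ := mem_orb.1 hx₁
      obtain ⟨n, hn', hnz⟩ := hd.fusion_Z (g := g) (z := w0 * s₁) (z' := x₁.2.2)
        (hg.trans (hd.orb_line h2 hx₁ hx₁u))
      obtain ⟨σ, a, b, -, -, -, -, hδ, -⟩ := hd.normalizer_layers h2 hn'
      have h0 := hfix n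
      rw [hδ] at h0
      simp only [Prod.mk.injEq, true_and] at h0
      obtain ⟨τ, hτ⟩ := hgal σ
      have hτ1 : τ ≠ 1 := fun h => hx₁ne (by
        rw [hd.orb_line h2 hx₁ hx₁u, ← hnz, hδ, map_mul, ← mul_assoc, h0, ← hτ, h]
        simp)
      have h3 := hfs n
      rw [hδ, map_mul, ← mul_assoc, h0, ← hτ] at h3
      simp only [Prod.mk.injEq, true_and] at h3
      refine hτ1 (hli.injective ?_)
      simpa using h3
    · intro x hx hne
      obtain ⟨σ, hσ⟩ := hd.orb_sigma h2 hw0 hfix (Finset.mem_filter.1 hx).1 (Finset.mem_filter.1 hx).2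
      obtain ⟨τ, hτ⟩ := hgal σ
      have hτ1 : τ ≠ 1 := fun h => hne (by rw [hσ, ← hτ, h]; simp)
      have h := hLv τ
      rw [Finsupp.single_apply, if_neg hτ1] at h
      rw [hσ, ← hτ]
      exact h

end AMod

end CfsgLib.SylowLie.SpFour
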