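import Cfsg.Agent.Lib.SylowLie.SpFour.ThreeBasic

/-!
# The module of type `A` over the field with nine elements

The orbit of a vector of the fixed line has 110 points, so that the group has a Sylow subgroup of
order eleven; this subgroup is central in its normalizer, against generation by `3`-elements.
-/

set_option autoImplicit false
set_option linter.style.haveILetI false
set_option linter.unusedSectionVars false

open Subgroup
open scoped Classical Pointwise

namespace CfsgLib.SylowLie.SpFour

open Cfsg (pElementClosure)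

theorem zmod_three_sq : ∀ a b : ZMod 3, a * a + b * b = 0 → a = 0 ∧ b = 0 := by decide

theorem zmod_three_val_sq : ∀ b : ZMod 3, b ≠ 0 → b.val * b.val % 3 = 1 := by decide

theorem zmod_three_neg : ∀ s : ZMod 3, s = -s → s = 0 := by decide

theorem zmod_eleven_cube : ∀ a : ZMod 11, a ^ 3 = 1 → a = 1 := by decide

theorem zmod_eleven_eight : ∀ a : ZMod 11, a ^ 8 = 1 → a = 1 ∨ a = -1 := by decide

theorem zmod_three_one : (1 : ZMod 3) * 1 ≠ 0 := by decide

variable [Fact (Nat.Prime 3)] {K : Type*} [Field K] [Fintype K] [CharP K 3]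

/-- Coordinates over the prime field with respect to a square root of `-1`. -/
theorem exists_pair (hq : Fintype.card K = 9) : ∃ (i : K) (L₀ L₁ : K →+ ZMod 3), i * i = -1 ∧
    (∀ y : K, (L₀ y).val • (1 : K) + (L₁ y).val • i = y) ∧
    (∀ y : K, L₀ (i * y) = -L₁ y) ∧ (∀ y : K, L₁ (i * y) = L₀ y) ∧
    L₀ 1 = 1 ∧ L₁ 1 = 0 ∧ L₀ i = 0 ∧ L₁ i = 1 := by
  obtain ⟨i, hi⟩ : IsSquare (-1 : K) := FiniteField.isSquare_neg_one_iff.2 (by rw [hq]; decide)
  let φ : ZMod 3 × ZMod 3 →+ K :=
    AddMonoidHom.coprod (ZMod.castHom dvd_rfl K).toAddMonoidHom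
      ((AddMonoidHom.mulRight i).comp (ZMod.castHom dvd_rfl K).toAddMonoidHom)
  have hφ : ∀ a b : ZMod 3, φ (a, b) = ZMod.castHom dvd_rfl K a + ZMod.castHom dvd_rfl K b * i :=
    fun a b => rfl
  have hinj : Function.Injective φ := by
    refine (injective_iff_map_eq_zero φ).2 ?_
    rintro ⟨a, b⟩ h
    rw [hφ] at h
    set ψ := ZMod.castHom (dvd_refl 3) K
    have h1 : ψ (a * a + b * b) = 0 := by
      rw [map_add, map_mul, map_mul]
      linear_combination (ψ a - ψ b * i) * h - ψ b * ψ b * hi
    have h2 : a * a + b * b = 0 := ψ.injective (h1.trans (map_zero ψ).symm)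
    obtain ⟨rfl, rfl⟩ := zmod_three_sq a b h2
    rfl
  have hbij : Function.Bijective φ := (Fintype.bijective_iff_injective_and_card φ).2
    ⟨hinj, by rw [Fintype.card_prod, ZMod.card, hq]⟩
  set e := AddEquiv.ofBijective φ hbij
  have hmul : ∀ y, i * y = φ (-(e.symm y).2, (e.symm y).1) := fun y => by
    conv_lhs => rw [show y = φ (e.symm y) from (e.apply_symm_apply y).symm]
    rw [show e.symm y = ((e.symm y).1, (e.symm y).2) from rfl, hφ, hφ, map_neg]
    simp only
    linear_combination (-(ZMod.castHom (dvd_refl 3) K (e.symm y).2)) * hi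
  have hsym : ∀ a b, e.symm (φ (a, b)) = (a, b) := fun a b => e.symm_apply_apply (a, b)
  have h1 : (1 : K) = φ (1, 0) := by rw [hφ, map_one, map_zero, zero_mul, add_zero]
  have hi' : i = φ (0, 1) := by rw [hφ, map_one, map_zero, one_mul, zero_add]
  refine ⟨i, (AddMonoidHom.fst _ _).comp e.symm.toAddMonoidHom,
    (AddMonoidHom.snd _ _).comp e.symm.toAddMonoidHom, hi.symm, fun y => ?_, fun y => ?_, fun y => ?_,
    ?_, ?_, ?_, ?_⟩
  · conv_rhs => rw [show y = φ (e.symm y) from (e.apply_symm_apply y).symm]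
    show ((e.symm y).1).val • (1 : K) + ((e.symm y).2).val • i = φ ((e.symm y).1, (e.symm y).2)
    rw [hφ, nsmul_eq_mul, nsmul_eq_mul, mul_one, ZMod.castHom_apply, ZMod.castHom_apply,
      ZMod.natCast_val, ZMod.natCast_val]
  · show (e.symm (i * y)).1 = _; rw [hmul, hsym]; rfl
  · show (e.symm (i * y)).2 = _; rw [hmul, hsym]; rfl
  · show (e.symm 1).1 = _; rw [h1, hsym]
  · show (e.symm 1).2 = _; rw [h1, hsym]
  · show (e.symm i).1 = _; rw [hi', hsym]
  · show (e.symm i).2 = _; rw [hi', hsym]

theorem ringHom_cases (hq : Fintype.card K = 9) (σ : K →+* K) :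
    (∀ y, σ y = y) ∨ ∀ y, σ y = y ^ 3 := by
  obtain ⟨i, L₀, L₁, hi, hdec, -⟩ := exists_pair hq
  have hσ : σ i = i ∨ σ i = -i := by
    have h : (σ i - i) * (σ i + i) = 0 := by
      have e := congrArg σ hi
      rw [map_mul, map_neg, map_one] at e
      linear_combination e - hi
    rcases mul_eq_zero.1 h with h | h
    · exact Or.inl (sub_eq_zero.1 h)
    · exact Or.inr (eq_neg_of_add_eq_zero_left h)
  rcases hσ with h | h
  · refine Or.inl fun y => ?_
    conv_lhs => rw [← hdec y]
    rw [map_add, map_nsmul, map_nsmul, map_one, h, hdec]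
  · refine Or.inr fun y => ?_
    have h3 : frobenius K 3 i = -i := by rw [frobenius_def, pow_three, hi, mul_neg_one]
    show σ y = frobenius K 3 y
    rw [← hdec y, map_add, map_add, map_nsmul, map_nsmul, map_nsmul, map_nsmul, map_one, map_one, h, h3]

/-- A cube of an additive map trivial on a three step series. -/
theorem cube_fun {V : Type*} [AddCommGroup V] (U : V →+ V) (h3 : ∀ a : V, a + a + a = 0) (x : V)
    (h : U (U (U x - x) - (U x - x)) = U (U x - x) - (U x - x)) : U (U (U x)) = x := by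
  set a := U x - x with ha
  set b := U a - a with hb
  have e1 : U x = x + a := by rw [ha, add_sub_cancel]
  have e2 : U a = a + b := by rw [hb, add_sub_cancel]
  rw [e1, map_add, e1, e2, map_add, map_add, map_add, e1, e2, h]
  calc x + a + (a + b) + (a + b + b) = x + (a + a + a) + (b + b + b) := by abel
    _ = x := by rw [h3, h3, add_zero, add_zero]

/-- The sign of a multiplication by a generator of the units. -/
theorem sign_mulLeft (hq : Fintype.card K = 9) {b : K} (hb : b ^ 4 = -1) :
    Equiv.Perm.sign (Equiv.mulLeft₀ b (by rintro rfl; simp at hb)) = -1 := by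
  have hb0 : b ≠ 0 := by rintro rfl; simp at hb
  set e := Equiv.mulLeft₀ b hb0
  have h8 : orderOf (Units.mk0 b hb0) = 8 := by
    have h2 : (2 : K) ≠ 0 := two_ne_zero_three
    refine orderOf_eq_prime_pow (p := 2) (n := 2) ?_ ?_
    · intro h
      have h' : b ^ 4 = 1 := by simpa [Units.ext_iff] using h
      rw [hb] at h'
      exact h2 (by linear_combination -h')
    · rw [Units.ext_iff]
      push_cast
      rw [show (8 : ℕ) = 4 * 2 from rfl, Units.val_mk0, pow_mul, hb]; ring
  have hgen : ∀ x : K, x ≠ 0 → ∃ k : ℕ, b ^ k = x := by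
    intro x hx
    have htop : Subgroup.zpowers (Units.mk0 b hb0) = ⊤ := Subgroup.eq_top_of_card_eq _ (by
      rw [Nat.card_zpowers, h8, Nat.card_units, Nat.card_eq_fintype_card, hq])
    obtain ⟨k, hk⟩ : Units.mk0 x hx ∈ Submonoid.powers (Units.mk0 b hb0) := by
      rw [mem_powers_iff_mem_zpowers, htop]; exact Subgroup.mem_top _
    exact ⟨k, by simpa [Units.ext_iff] using hk⟩
  have hb1 : b ≠ 1 := fun h => by
    rw [h, one_pow] at hb
    exact two_ne_zero_three (K := K) (by linear_combination hb)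
  have happ : ∀ x, e x = b * x := fun x => rfl
  have hpow : ∀ (k : ℕ) x, (e ^ k) x = b ^ k * x := by
    intro k
    induction k with
    | zero => intro x; simp
    | succ k ih => intro x; rw [pow_succ', Equiv.Perm.mul_apply, ih, happ, pow_succ]; ring
  have hc : e.IsCycle := by
    refine ⟨1, fun h => hb1 (by simpa [happ] using h), fun y hy => ?_⟩
    have hy0 : y ≠ 0 := fun h => hy (by rw [happ, h, mul_zero])
    obtain ⟨k, hk⟩ := hgen y hy0
    exact ⟨k, by rw [zpow_natCast, hpow, hk, mul_one]⟩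
  have hsupp : e.support = Finset.univ.erase 0 := by
    ext x
    rw [Equiv.Perm.mem_support, happ, Finset.mem_erase]
    refine ⟨fun h => ⟨fun h0 => h (by rw [h0, mul_zero]), Finset.mem_univ _⟩, fun h h' => ?_⟩
    exact hb1 (mul_right_cancel₀ h.1 (h'.trans (one_mul x).symm))
  rw [hc.sign, hsupp, Finset.card_erase_of_mem (Finset.mem_univ _), Finset.card_univ, hq]
  decide

/-- The triangular diagonal map. -/
noncomputable def diagPerm (g b : K) (hg : g ≠ 0) (hb : b ≠ 0) : Equiv.Perm (K × K × K) :=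
  Equiv.prodCongr (Equiv.mulLeft₀ g hg) (Equiv.prodCongr (Equiv.mulLeft₀ b hb) (Equiv.refl K))

theorem sign_diagPerm (hq : Fintype.card K = 9) {b : K} (hb : b ^ 4 = -1) (hb0 : b ≠ 0) :
    Equiv.Perm.sign (diagPerm (b * b) b (mul_ne_zero hb0 hb0) hb0) = -1 := by
  have e : diagPerm (b * b) b (mul_ne_zero hb0 hb0) hb0 =
      Equiv.prodCongrLeft (fun _ : K × K => Equiv.mulLeft₀ b hb0 * Equiv.mulLeft₀ b hb0) *
      Equiv.prodCongrRight (fun _ : K =>
        Equiv.prodCongrLeft (fun _ : K => Equiv.mulLeft₀ b hb0)) := by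
    ext ⟨u, v, w⟩ <;> simp [diagPerm, Equiv.prodCongrLeft, Equiv.prodCongrRight, mul_assoc]
  rw [e, map_mul, Equiv.Perm.sign_prodCongrLeft, Equiv.Perm.sign_prodCongrRight]
  simp only [Equiv.Perm.sign_prodCongrLeft, map_mul, sign_mulLeft hq hb, Finset.prod_const,
    Finset.card_univ, Fintype.card_prod, hq]
  decide

variable {H : Type*} [Group H] [Finite H] [DistribMulAction H (K × K × K)]

/-- An extra symmetry: it normalises the group and `R`, fixes the line, and has order four on the top. -/
def HasSym (R : Sylow 3 H) : Prop :=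
  ∃ (e : K × K × K →+ K × K × K) (c : K), c * c = -1 ∧ Function.Injective e ∧
    (∀ w, e (0, 0, w) = (0, 0, w)) ∧ (∀ x, (e x).1 = c * x.1) ∧
    (∀ (h : H) x, ∃ h' : H, e (h • x) = h' • e x) ∧
    ∀ r ∈ (R : Subgroup H), ∃ r' ∈ (R : Subgroup H), ∀ x, e (r' • x) = r • e x

namespace AMod

variable {R : Sylow 3 H} {X : Subgroup H} (hd : AMod (K := K) R X)

include hd

theorem par_inj {s t : K} (h : hd.par s = hd.par t) : s = t := by
  have e := congrArg (fun r : H => (r • ((1, 0, 0) : K × K × K)).2.1) h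
  simpa [hd.par_smul] using e

theorem card_R : Nat.card (R : Subgroup H) = Nat.card K :=
  (Nat.card_congr (Equiv.ofBijective (fun t => (⟨hd.par t, hd.par_mem t⟩ : (R : Subgroup H)))
    ⟨fun s t h => hd.par_inj (congrArg Subtype.val h), fun r => by
      obtain ⟨t, ht⟩ := hd.exists_par r.2
      exact ⟨t, Subtype.ext ht.symm⟩⟩)).symm

/-- The fixed vectors of the line form a prime field line. -/
theorem fixed_line (hq : Fintype.card K = 9) {w0 : K} (hw0 : w0 ≠ 0)
    (hfix : ∀ h : H, h • ((0, 0, w0) : K × K × K) = (0, 0, w0)) {i : K} {L₀ L₁ : K →+ ZMod 3}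
    (hdec : ∀ y : K, (L₀ y).val • (1 : K) + (L₁ y).val • i = y) (w : K) :
    (∀ h : H, h • ((0, 0, w) : K × K × K) = (0, 0, w)) ↔ L₁ (w / w0) = 0 := by
  have hsplit : ∀ y, ((0, 0, w0 * y) : K × K × K) =
      (L₀ y).val • ((0, 0, w0) : K × K × K) + (L₁ y).val • ((0, 0, w0 * i) : K × K × K) := fun y => by
    conv_lhs => rw [← hdec y]
    refine Prod.ext (by simp) (Prod.ext (by simp) ?_)
    simp; ring
  have hw : w0 * (w / w0) = w := by field_simp
  constructor
  · intro h
    by_contra hL
    obtain ⟨w1, hw1⟩ := hd.exists_not_fixed two_ne_zero_three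
    have hi : ∀ g : H, g • ((0, 0, w0 * i) : K × K × K) = (0, 0, w0 * i) := by
      intro g
      have e := h g
      rw [← hw, hsplit, smul_add, smul_comm g (L₀ _).val, hfix, add_right_inj,
        smul_comm g (L₁ _).val] at e
      have h3 : ∀ x : K × K × K, ((L₁ (w / w0)).val * (L₁ (w / w0)).val) • x = x := fun x => by
        rw [← Nat.div_add_mod ((L₁ (w / w0)).val * (L₁ (w / w0)).val) 3, zmod_three_val_sq _ hL, add_nsmul,
          one_nsmul, mul_comm 3, mul_nsmul', show (3 : ℕ) • x = 0 by
            rw [show (3 : ℕ) = 2 + 1 from rfl, add_nsmul, one_nsmul, two_nsmul, three_nsmul_eq_zero],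
          nsmul_zero, zero_add]
      have e' := congrArg (fun x => (L₁ (w / w0)).val • x) e
      simp only [← mul_nsmul', h3] at e'
      exact e'
    refine hw1 fun g => ?_
    rw [show w1 = w0 * (w1 / w0) by field_simp, hsplit, smul_add, smul_comm g (L₀ _).val, hfix,
      smul_comm g (L₁ _).val, hi]
  · intro h g
    rw [← hw, hsplit, h, ZMod.val_zero, zero_nsmul, add_zero, smul_comm g (L₀ _).val, hfix]

/-- Some orbit meets the line twice. -/
theorem exists_frob (hq : Fintype.card K = 9) {w0 : K} (hw0 : w0 ≠ 0)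
    (hfix : ∀ h : H, h • ((0, 0, w0) : K × K × K) = (0, 0, w0)) {i : K} {L₀ L₁ : K →+ ZMod 3}
    (hi : i * i = -1) (hdec : ∀ y : K, (L₀ y).val • (1 : K) + (L₁ y).val • i = y)
    (h0 : ∀ y : K, L₀ (i * y) = -L₁ y) (h1 : ∀ y : K, L₁ (i * y) = L₀ y)
    (e0 : L₀ 1 = 1) (e1 : L₁ 1 = 0) (e2 : L₀ i = 0) (e3 : L₁ i = 1) :
    ∃ x ∈ orb (H := H) (w0 * (1 + i)), x.1 = 0 ∧ x ≠ (0, 0, w0 * (1 + i)) := by
  by_contra! hnone
  set z := w0 * (1 + i) with hz
  have hn : Fintype.card K = 3 ^ 2 := by rw [hq]; rfl
  let A : K →+ ZMod 3 := L₀.comp (AddMonoidHom.mulRight w0⁻¹)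
  let B : K →+ ZMod 3 := L₁.comp (AddMonoidHom.mulRight w0⁻¹)
  set f : K × K × K →+ ZMod 3 := (A.comp (AddMonoidHom.snd K K)).comp (AddMonoidHom.snd K (K × K))
  set f' : K × K × K →+ ZMod 3 := (B.comp (AddMonoidHom.snd K K)).comp (AddMonoidHom.snd K (K × K))
  have hT := apply_tens (H := H) z f f'
  have hfT : f' (tens (H := H) z f) = 0 := by
    obtain ⟨-, hu, hv⟩ := hd.tens_fixed two_ne_zero_three hn (by norm_num) z f 1
    have hT' : tens (H := H) z f = (0, 0, (tens (H := H) z f).2.2) := Prod.ext hu (Prod.ext hv rfl)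
    have h := (hd.fixed_line hq hw0 hfix hdec (tens (H := H) z f).2.2).1 fun g => by
      rw [← hT']; exact (hd.tens_fixed two_ne_zero_three hn (by norm_num) z f g).1
    simpa [f', B, div_eq_mul_inv] using h
  rw [hfT] at hT
  obtain ⟨ε, hε⟩ : IsSquare i := by
    have hi0 : i ≠ 0 := by rintro rfl; simp at hi
    rw [FiniteField.isSquare_iff (by rw [ringChar.eq K 3]; decide) hi0, hq,
      show (9 : ℕ) / 2 = 2 * 2 by rfl, pow_mul, pow_two i, hi]
    ring
  have hε0 : ε ≠ 0 := by rintro rfl; simp at hε; subst hε; simp at hi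
  rw [hd.sum_orb two_ne_zero_three z (fun x => f x * f' x) (fun u w _ => ?_),
    Finset.sum_eq_single ((0, 0, z) : K × K × K)] at hT
  · have hfz : f (0, 0, z) = 1 ∧ f' (0, 0, z) = 1 := by
      simp [f, f', A, B, hz, mul_comm w0, hw0, map_add, e0, e1, e2, e3]
    rw [hfz.1, hfz.2] at hT
    exact zmod_three_one (hT.symm.trans (by simp))
  · exact fun x hx hne =>
      absurd (hnone x (Finset.mem_filter.1 hx).1 (Finset.mem_filter.1 hx).2) hne
  · intro h'
    refine absurd (Finset.mem_filter.2 ⟨?_, ?_⟩) h'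
    · exact mem_orb.2 ⟨1, one_smul H _⟩
    · rfl
  · simp only [f, f', AddMonoidHom.comp_apply, AddMonoidHom.coe_snd, map_add, add_mul, mul_add,
      Finset.sum_add_distrib]
    have c1 : ∀ a : ZMod 3, ∑ _t : K, a = 0 := sum_const_eq_zero hn (by norm_num)
    have eA : ∀ a : ZMod 3, ∑ t : K, A (t ^ 2 * u) * a = 0 := fun a => by
      rw [← Finset.sum_mul]
      refine mul_eq_zero_of_left ?_ _
      simpa [pow_two] using sum_sq_eq_zero hn (by norm_num) (A.comp (AddMonoidHom.mulRight u))
    have eB : ∀ a : ZMod 3, ∑ t : K, a * B (t ^ 2 * u) = 0 := fun a => by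
      rw [← Finset.mul_sum]
      refine mul_eq_zero_of_right _ ?_
      simpa [pow_two] using sum_sq_eq_zero hn (by norm_num) (B.comp (AddMonoidHom.mulRight u))
    have eAB : ∑ t : K, A (t ^ 2 * u) * B (t ^ 2 * u) = 0 := by
      have key : ∑ t : K, A (t ^ 2 * u) * B (t ^ 2 * u) =
          -∑ t : K, A (t ^ 2 * u) * B (t ^ 2 * u) := by
        conv_lhs => rw [← Equiv.sum_comp (Equiv.mulLeft₀ ε hε0)]
        rw [← Finset.sum_neg_distrib]
        refine Finset.sum_congr rfl fun t _ => ?_
        have e : ∀ y, (ε * t) ^ 2 * u * y = i * (t ^ 2 * u * y) := fun y => by rw [hε]; ring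
        simp only [A, B, Equiv.mulLeft₀_apply, AddMonoidHom.comp_apply, AddMonoidHom.mulRight_apply,
          e, h0, h1]
        ring
      exact zmod_three_neg _ key
    rw [c1, eA, eB, eAB]
    simp

/-- The action of the normaliser of `R` on the parameters. -/
noncomputable def normAct (hd : AMod (K := K) R X)
    (n : Subgroup.normalizer ((R : Subgroup H) : Set H)) (t : K) : K :=
  (hd.exists_par ((Subgroup.mem_normalizer_iff.1 n.2 _).1 (hd.par_mem t))).choose

theorem par_normAct (n : Subgroup.normalizer ((R : Subgroup H) : Set H)) (t : K) :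
    (n : H) * hd.par t * (n : H)⁻¹ = hd.par (hd.normAct n t) :=
  (hd.exists_par ((Subgroup.mem_normalizer_iff.1 n.2 _).1 (hd.par_mem t))).choose_spec

/-- The normaliser modulo `R` has order dividing eight. -/
theorem card_normalizer (hq : Fintype.card K = 9) :
    ∃ μ, μ ∣ 8 ∧ Nat.card (Subgroup.normalizer ((R : Subgroup H) : Set H)) = 9 * μ := by
  set N := Subgroup.normalizer ((R : Subgroup H) : Set H) with hN
  obtain ⟨w0, hw0, hfix⟩ := hd.fix
  have key : ∀ n : N, ∃ (a g : K) (σ : K →+* K), a ≠ 0 ∧ g ≠ 0 ∧ a ^ 2 * g = 1 / σ w0 * w0 ∧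
      (∀ t, hd.normAct n t = a * σ t) ∧
      (∀ u v w : K, ((n : H) • ((u, v, w) : K × K × K)).1 = g * σ u) ∧
      (∀ v w : K, ((n : H) • ((0, v, w) : K × K × K)).2.1 = a * g * σ v) ∧
      (∀ w : K, (n : H) • ((0, 0, w) : K × K × K) = (0, 0, a ^ 2 * g * σ w)) := by
    intro n
    obtain ⟨σ, a, g, ha, hg, h1, h2, h3, h4⟩ := hd.normalizer_layers two_ne_zero_three n.2
    refine ⟨a, g, σ, ha, hg, ?_, fun t => hd.par_inj (by rw [← hd.par_normAct, h4]), h1, h2, h3⟩
    have e := hfix n
    rw [h3] at e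
    simp only [Prod.mk.injEq, true_and] at e
    have hσ : σ w0 ≠ 0 := (map_ne_zero σ).2 hw0
    rw [← mul_right_inj' hσ, one_div, ← mul_assoc (σ w0) (σ w0)⁻¹, mul_inv_cancel₀ hσ, one_mul]
    linear_combination e
  letI act : MulAction N K :=
    { smul := hd.normAct
      one_smul := fun t => hd.par_inj (by
        show hd.par (hd.normAct 1 t) = _
        rw [← hd.par_normAct]; simp)
      mul_smul := fun n m t => hd.par_inj (by
        show hd.par (hd.normAct (n * m) t) = hd.par (hd.normAct n (hd.normAct m t))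
        rw [← hd.par_normAct n, ← hd.par_normAct m, ← hd.par_normAct (n * m)]
        simp [mul_assoc]) }
  set ν := MulAction.toPermHom N K with hν
  have hνa : ∀ n t, ν n t = hd.normAct n t := fun n t => rfl
  have hker : ν.ker = (R : Subgroup H).subgroupOf N := by
    ext n
    constructor
    · intro hn
      obtain ⟨a, g, σ, -, -, hag, hact, h1, h2, h3⟩ := key n
      have he : ∀ t, a * σ t = t := fun t => by rw [← hact, ← hνa, MonoidHom.mem_ker.1 hn]; rfl
      have ha : a = 1 := by simpa using he 1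
      have hσ : ∀ t, σ t = t := fun t => by simpa [ha] using he t
      have hg : g = 1 := by simpa [ha, hσ, hw0] using hag
      refine Subgroup.mem_subgroupOf.2 (hd.mem_R_of_trivial n.2 ?_ ?_ ?_)
      · rintro ⟨u, v, w⟩; rw [h1, hg, one_mul, hσ]
      · rintro ⟨u, v, w⟩ hu
        simp only at hu
        subst hu
        rw [h2, ha, hg, one_mul, one_mul, hσ]
      · intro w; rw [h3, ha, hg, hσ]; simp
    · intro hn
      refine MonoidHom.mem_ker.2 (Equiv.ext fun t => hd.par_inj ?_)
      show hd.par (hd.normAct n t) = hd.par t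
      rw [← hd.par_normAct, hd.R_comm (Subgroup.mem_subgroupOf.1 hn) (hd.par_mem t)]
      group
  -- the semilinear maps
  let Γ : Subgroup (Equiv.Perm K) :=
    { carrier := {e | ∃ a : K, a ≠ 0 ∧ ((∀ t, e t = a * t) ∨ ∀ t, e t = a * t ^ 3)}
      one_mem' := ⟨1, one_ne_zero, Or.inl fun t => (one_mul t).symm⟩
      mul_mem' := by
        rintro e f ⟨a, ha, hae⟩ ⟨b, hb, hbf⟩
        rcases hae with h | h <;> rcases hbf with h' | h'
        · exact ⟨a * b, mul_ne_zero ha hb, Or.inl fun t => by
            rw [Equiv.Perm.mul_apply, h, h']; ring⟩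
        · exact ⟨a * b, mul_ne_zero ha hb, Or.inr fun t => by
            rw [Equiv.Perm.mul_apply, h, h']; ring⟩
        · exact ⟨a * b ^ 3, mul_ne_zero ha (pow_ne_zero _ hb), Or.inr fun t => by
            rw [Equiv.Perm.mul_apply, h, h']; ring⟩
        · refine ⟨a * b ^ 3, mul_ne_zero ha (pow_ne_zero _ hb), Or.inl fun t => ?_⟩
          rw [Equiv.Perm.mul_apply, h, h', mul_pow, ← pow_mul,
            show t ^ (3 * 3) = t by rw [show 3 * 3 = Fintype.card K by rw [hq], FiniteField.pow_card]]
          ring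
      inv_mem' := by
        rintro e ⟨a, ha, hae⟩
        rcases hae with h | h
        · refine ⟨a⁻¹, inv_ne_zero ha, Or.inl fun t => e.injective ?_⟩
          show e (e.symm t) = _
          rw [e.apply_symm_apply, h]; field_simp
        · refine ⟨(a⁻¹) ^ 3, pow_ne_zero _ (inv_ne_zero ha), Or.inr fun t => e.injective ?_⟩
          show e (e.symm t) = _
          have h9 : ∀ y : K, (y ^ 3) ^ 3 = y := fun y => by
            rw [← pow_mul, show 3 * 3 = Fintype.card K by rw [hq], FiniteField.pow_card]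
          rw [e.apply_symm_apply, h, mul_pow, h9, h9]; field_simp }
  have hΓ : Nat.card Γ = 16 := by
    obtain ⟨i, L₀, L₁, hi, -⟩ := exists_pair hq
    let φ : Kˣ × Bool → Γ := fun x => if x.2
      then ⟨Equiv.mulLeft₀ (x.1 : K) x.1.ne_zero, x.1, x.1.ne_zero, Or.inl fun _ => rfl⟩
      else ⟨Equiv.mulLeft₀ (x.1 : K) x.1.ne_zero * (frobeniusEquiv K 3).toEquiv, x.1, x.1.ne_zero,
        Or.inr fun _ => rfl⟩
    have hbij : Function.Bijective φ := by
      constructor
      · rintro ⟨a, b⟩ ⟨a', b'⟩ h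
        have h1 := congrArg (fun f : Γ => (f : Equiv.Perm K) 1) h
        have hi' := congrArg (fun f : Γ => (f : Equiv.Perm K) i) h
        have haa : a = a' := by
          cases b <;> cases b' <;> simp [φ, frobeniusEquiv_def] at h1 <;> exact Units.ext h1
        subst haa
        have h3 : i ^ 3 = -i := by rw [pow_three, hi, mul_neg_one]
        have hF : frobenius K 3 i = -i := by rw [frobenius_def, h3]
        have hne : i ≠ -i := fun e => by
          have h2 : (2 : K) * i = 0 := by linear_combination e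
          rcases mul_eq_zero.1 h2 with h | h
          · exact two_ne_zero_three h
          · rw [h] at hi; simp at hi
        cases b <;> cases b' <;> simp [φ, frobeniusEquiv_def, h3, hF] at hi' ⊢ <;>
          first
          | exact hne (mul_left_cancel₀ a.ne_zero (hi'.trans (mul_neg _ _).symm))
          | exact hne (mul_left_cancel₀ a.ne_zero (hi'.symm.trans (mul_neg _ _).symm))
      · rintro ⟨e, a, ha, h⟩
        rcases h with h | h
        · exact ⟨(Units.mk0 a ha, true), Subtype.ext (Equiv.ext fun t => (h t).symm)⟩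
        · exact ⟨(Units.mk0 a ha, false), Subtype.ext (Equiv.ext fun t => (h t).symm)⟩
    rw [← Nat.card_congr (Equiv.ofBijective φ hbij), Nat.card_prod, Nat.card_units,
      Nat.card_eq_fintype_card, hq, Nat.card_eq_fintype_card, Fintype.card_bool]
  have hle : ν.range ≤ Γ := by
    rintro _ ⟨n, rfl⟩
    obtain ⟨a, g, σ, ha, -, -, hact, -⟩ := key n
    refine ⟨a, ha, ?_⟩
    rcases ringHom_cases hq σ with h | h
    · exact Or.inl fun t => by rw [hνa, hact, h]
    · exact Or.inr fun t => by rw [hνa, hact, h]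
  have hne : ν.range ≠ Γ := by
    intro heq
    obtain ⟨i, L₀, L₁, hi, -⟩ := exists_pair hq
    obtain ⟨ε, hε⟩ : IsSquare i := by
      have hi0 : i ≠ 0 := by rintro rfl; simp at hi
      rw [FiniteField.isSquare_iff (by rw [ringChar.eq K 3]; decide) hi0, hq,
        show (9 : ℕ) / 2 = 2 * 2 by rfl, pow_mul, pow_two i, hi]
      ring
    have hε4 : ε ^ 4 = -1 := by rw [← hi, hε]; ring
    have hε0 : ε ≠ 0 := by rintro rfl; simp at hε4
    obtain ⟨n, hn⟩ : Equiv.mulLeft₀ ε hε0 ∈ ν.range := heq ▸ ⟨ε, hε0, Or.inl fun _ => rfl⟩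
    obtain ⟨a, g, σ, -, -, hag, hact, h1, h2, h3⟩ := key n
    have he : ∀ t, a * σ t = ε * t := fun t => by rw [← hact, ← hνa, hn]; rfl
    have ha : a = ε := by simpa using he 1
    subst ha
    have hσ : ∀ t, σ t = t := fun t => mul_left_cancel₀ hε0 (he t)
    set b := a⁻¹ with hb
    have hb0 : b ≠ 0 := inv_ne_zero hε0
    have hg : g = b * b := by
      rw [hσ, one_div, inv_mul_cancel₀ hw0] at hag
      rw [hb]; field_simp; linear_combination hag
    have hb4 : b ^ 4 = -1 := by rw [hb, inv_pow, hε4]; norm_num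
    let D := diagPerm (b * b) b (mul_ne_zero hb0 hb0) hb0
    let πn : Equiv.Perm (K × K × K) := MulAction.toPermHom H (K × K × K) (n : H)
    have hπn : ∀ x, πn x = (n : H) • x := fun _ => rfl
    let U : K × K × K →+ K × K × K :=
      { toFun := fun x => D.symm ((n : H) • x)
        map_zero' := by
          rw [smul_zero]
          simp [D, diagPerm, Prod.map, Prod.ext_iff]
        map_add' := fun x y => by
          simp [D, diagPerm, smul_add, mul_add, Prod.map, Prod.ext_iff] }
    have hU3 : ∀ x, U (U (U x)) = x := fun x => by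
      refine cube_fun U three_nsmul_eq_zero x ?_
      have l1 : ∀ x : K × K × K, (U x).1 = x.1 := fun ⟨u, v, w⟩ => by
        show (D.symm _).1 = u
        simp [D, diagPerm, h1, hσ, hg]
        field_simp
      have l2 : ∀ v w : K, (U (0, v, w)).2.1 = v := fun v w => by
        show (D.symm _).2.1 = v
        simp [D, diagPerm, h2, hσ, hg, hb]
        field_simp
      have l3 : ∀ w : K, U (0, 0, w) = (0, 0, w) := fun w => by
        show D.symm _ = _
        rw [h3, hσ, hg, hb]
        simp [D, diagPerm]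
        field_simp
      obtain ⟨a', ha'⟩ : ∃ a', U x - x = a' := ⟨_, rfl⟩
      rw [ha']
      obtain ⟨u', v', w'⟩ := a'
      have hu' : u' = 0 := by
        have := congrArg Prod.fst ha'; simp [l1] at this; exact this.symm
      subst hu'
      have hb' : U (0, v', w') - (0, v', w') = (0, 0, (U (0, v', w') - (0, v', w')).2.2) :=
        Prod.ext (by simp [l1]) (Prod.ext (by simp [l2]) rfl)
      rw [hb', l3]
    have hcube : (D⁻¹ * πn) ^ 3 = 1 := Equiv.ext fun x => by
      rw [pow_three]; exact hU3 x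
    have hs1 : Equiv.Perm.sign (D⁻¹ * πn) = 1 := by
      have h := congrArg Equiv.Perm.sign hcube
      rw [map_pow, map_one] at h
      rcases Int.units_eq_one_or (Equiv.Perm.sign (D⁻¹ * πn)) with e | e
      · exact e
      · rw [e] at h; exact absurd h (by decide)
    have hs2 : Equiv.Perm.sign πn = 1 := by
      let s : H →* ℤˣ := Equiv.Perm.sign.comp (MulAction.toPermHom H (K × K × K))
      have htop : (⊤ : Subgroup H) ≤ s.ker := by
        rw [← hd.gen, pElementClosure]
        refine (Subgroup.closure_le _).2 ?_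
        rintro y ⟨-, k, hk⟩
        refine MonoidHom.mem_ker.2 ?_
        rcases Int.units_eq_one_or (s y) with e | e
        · exact e
        · have h := map_pow s y (3 ^ k)
          rw [show y ^ 3 ^ k = 1 by rw [← hk]; exact pow_orderOf_eq_one y, map_one, e,
            (Odd.pow (by decide : Odd 3)).neg_one_pow] at h
          exact absurd h (by decide)
      exact MonoidHom.mem_ker.1 (htop (Subgroup.mem_top (n : H)))
    rw [map_mul, map_inv, hs2, mul_one, inv_eq_one, sign_diagPerm hq hb4 hb0] at hs1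
    exact absurd hs1 (by decide)
  have hμ : Nat.card ν.range ∣ 8 := by
    have h1 : Nat.card ν.range ∣ 16 := hΓ ▸ Subgroup.card_dvd_of_le hle
    have h2 : Nat.card ν.range ≠ 16 := fun h =>
      hne (Subgroup.eq_of_le_of_card_ge hle (by rw [hΓ, h]))
    have h3 : Nat.card ν.range ≤ 16 := Nat.le_of_dvd (by norm_num) h1
    have k : ∀ m < 17, m ∣ 16 → m ≠ 16 → m ∣ 8 := by decide
    exact k _ (by omega) h1 h2
  refine ⟨_, hμ, ?_⟩
  have h := ν.ker.card_mul_index
  rw [Subgroup.index_ker, hker, Nat.card_congr (Subgroup.subgroupOfEquivOfLe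
    (Subgroup.le_normalizer : (R : Subgroup H) ≤ N)).toEquiv, hd.card_R, Nat.card_eq_fintype_card, hq] at h
  exact h.symm

/-- The number of points of an orbit lying outside the line is a small multiple of thirty-six. -/
theorem card_orb (hq : Fintype.card K = 9) (hsym : HasSym (K := K) R) {w0 : K} (hw0 : w0 ≠ 0)
    (hfix : ∀ h : H, h • ((0, 0, w0) : K × K × K) = (0, 0, w0)) {i : K} {L₀ L₁ : K →+ ZMod 3}
    (hdec : ∀ y : K, (L₀ y).val • (1 : K) + (L₁ y).val • i = y) (z : K) :
    ∃ k ≤ 6, (orb (H := H) z).card =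
      ((orb (H := H) z).filter fun x => x.1 = 0).card + 9 * (4 * k) := by
  set O := orb (H := H) z with hO
  have hR : ∀ t, ∀ x ∈ O, hd.par t • x ∈ O := fun t x hx => by
    obtain ⟨g, hg⟩ := mem_orb.1 hx
    exact mem_orb.2 ⟨hd.par t * g, by rw [mul_smul, hg]⟩
  let reps : K → Finset (K × K × K) := fun u => O.filter fun x => x.2.1 = 0 ∧ x.1 = u
  set M := O.filter fun x => ¬ x.1 = 0 ∧ x.2.1 = 0 with hM
  have hrest : (O.filter fun x => ¬ x.1 = 0).card = 9 * M.card := by
    rw [mul_comm, ← hq, ← Finset.card_univ (α := K), ← Finset.card_product]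
    refine Finset.card_bij' (fun x _ => (hd.par (-(x.2.1 / x.1)) • x, x.2.1 / x.1))
      (fun q _ => hd.par q.2 • q.1) ?_ ?_ ?_ ?_
    · rintro ⟨u, v, w⟩ hx
      obtain ⟨hxO, hu⟩ := Finset.mem_filter.1 hx
      refine Finset.mem_product.2 ⟨Finset.mem_filter.2 ⟨hR _ _ hxO, ?_⟩, Finset.mem_univ _⟩
      rw [hd.par_smul]
      simp only at hu ⊢
      refine ⟨hu, ?_⟩
      field_simp
      ring
    · rintro ⟨⟨u, v, w⟩, t⟩ hp
      obtain ⟨hy, -⟩ := Finset.mem_product.1 hp
      obtain ⟨hyO, hu, hv⟩ := Finset.mem_filter.1 hy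
      refine Finset.mem_filter.2 ⟨hR _ _ hyO, ?_⟩
      rw [hd.par_smul]
      exact hu
    · rintro ⟨u, v, w⟩ hx
      show hd.par (v / u) • (hd.par (-(v / u)) • ((u, v, w) : K × K × K)) = _
      rw [← mul_smul, hd.par_mul, add_neg_cancel, hd.par_smul]
      simp
    · rintro ⟨⟨u, v, w⟩, t⟩ hp
      obtain ⟨hy, -⟩ := Finset.mem_product.1 hp
      obtain ⟨-, hu, hv⟩ := Finset.mem_filter.1 hy
      simp only at hu hv
      subst hv
      refine Prod.ext ?_ ?_
      · show hd.par (-((hd.par t • ((u, 0, w) : K × K × K)).2.1 /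
          (hd.par t • ((u, 0, w) : K × K × K)).1)) • (hd.par t • ((u, 0, w) : K × K × K)) = _
        rw [← mul_smul, hd.par_mul]
        simp [hd.par_smul, hu]
      · show (hd.par t • ((u, 0, w) : K × K × K)).2.1 / (hd.par t • ((u, 0, w) : K × K × K)).1 = t
        simp [hd.par_smul, hu]
  -- translations
  have htrans : ∀ {x y : K × K × K}, x ∈ O → y ∈ O → x.1 = y.1 → x.2.1 = y.2.1 →
      L₁ (x.2.2 / w0) = L₁ (y.2.2 / w0) → x = y := by
    intro x y hx hy h1 h2 h3
    set d := y.2.2 - x.2.2 with hd'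
    have hdfix : ∀ h : H, h • ((0, 0, d) : K × K × K) = (0, 0, d) :=
      (hd.fixed_line hq hw0 hfix hdec d).2 (by rw [hd', sub_div, map_sub, h3, sub_self])
    have hyx : y = x + (0, 0, d) := Prod.ext (by simp [h1]) (Prod.ext (by simp [h2]) (by simp [hd']))
    obtain ⟨g, hg⟩ := mem_orb.1 hx
    obtain ⟨g', hg'⟩ := mem_orb.1 hy
    have hz : (g⁻¹ * g') • ((0, 0, z) : K × K × K) = (0, 0, z + d) := by
      rw [mul_smul, hg', hyx, smul_add, ← hg, inv_smul_smul, hdfix]; simp
    obtain ⟨n, hn, hnz⟩ := hd.fusion_Z hz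
    rw [hyx, hd.eq_zero_of_translate hn (hdfix n) hnz]
    simp
  have hle3 : ∀ u, (reps u).card ≤ 3 := fun u => by
    refine le_trans (Finset.card_le_card_of_injOn (fun x => L₁ (x.2.2 / w0))
      (t := (Finset.univ : Finset (ZMod 3))) (fun x _ => Finset.mem_univ _) fun x hx y hy h => ?_) ?_
    · obtain ⟨hxO, hx2, hx1⟩ := Finset.mem_filter.1 (Finset.mem_coe.1 hx)
      obtain ⟨hyO, hy2, hy1⟩ := Finset.mem_filter.1 (Finset.mem_coe.1 hy)
      exact htrans hxO hyO (hx1.trans hy1.symm) (hx2.trans hy2.symm) h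
    · rw [Finset.card_univ, ZMod.card]
  -- the symmetry
  obtain ⟨e, cc, hcc, hinj, heZ, he1, heH, heR⟩ := hsym
  have hstep : ∀ u, u ≠ 0 → (reps u).card ≤ (reps (cc * u)).card := by
    intro u hu
    have hc0 : cc ≠ 0 := by rintro rfl; simp at hcc
    refine Finset.card_le_card_of_injOn
      (fun x => hd.par (-((e x).2.1 / (e x).1)) • e x) (fun x hx => ?_) fun x hx y hy h => ?_
    · obtain ⟨hxO, hx2, hx1⟩ := Finset.mem_filter.1 hx
      obtain ⟨g, hg⟩ := mem_orb.1 hxO
      obtain ⟨g', hg'⟩ := heH g (0, 0, z)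
      rw [hg, heZ] at hg'
      have hne : (e x).1 ≠ 0 := by rw [he1, hx1]; exact mul_ne_zero hc0 hu
      refine Finset.mem_filter.2 ⟨hR _ _ (mem_orb.2 ⟨g', hg'.symm⟩), ?_⟩
      simp only
      generalize hy : e x = y at hne ⊢
      obtain ⟨a, b, w⟩ := y
      rw [hd.par_smul]
      simp only at hne ⊢
      refine ⟨by field_simp; ring, ?_⟩
      rw [← hx1, ← he1, hy]
    · obtain ⟨hxO, hx2, hx1⟩ := Finset.mem_filter.1 (Finset.mem_coe.1 hx)
      obtain ⟨hyO, hy2, hy1⟩ := Finset.mem_filter.1 (Finset.mem_coe.1 hy)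
      simp only at h
      set a := -((e x).2.1 / (e x).1)
      set b := -((e y).2.1 / (e y).1)
      have h' : e x = hd.par (-a + b) • e y := by
        rw [← hd.par_mul, mul_smul, ← h, ← mul_smul, hd.par_mul, neg_add_cancel, hd.par_smul]
        simp
      obtain ⟨r', hr', hre⟩ := heR _ (hd.par_mem (-a + b))
      rw [← hre] at h'
      obtain ⟨t, ht⟩ := hd.exists_par hr'
      have hxy := hinj h'
      rw [ht] at hxy
      obtain ⟨p1, p2, p3⟩ := y
      simp only at hy2 hy1
      subst hy2 hy1
      rw [hd.par_smul] at hxy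
      subst hxy
      simp only [zero_add, mul_eq_zero, hu, or_false] at hx2
      subst hx2
      simp
  have hcyc : ∀ u, u ≠ 0 → (reps (cc * u)).card = (reps u).card := by
    intro u hu
    have hc0 : cc ≠ 0 := by rintro rfl; simp at hcc
    have h1 := hstep u hu
    have h2 := hstep (cc * u) (mul_ne_zero hc0 hu)
    have h3 := hstep (cc * (cc * u)) (mul_ne_zero hc0 (mul_ne_zero hc0 hu))
    have h4 := hstep (cc * (cc * (cc * u))) (mul_ne_zero hc0 (mul_ne_zero hc0 (mul_ne_zero hc0 hu)))
    rw [show cc * (cc * (cc * (cc * u))) = (cc * cc) * (cc * cc) * u by ring, hcc,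
      show (-1 : K) * -1 * u = u by ring] at h4
    omega
  have hMsum : M.card = ∑ u ∈ (Finset.univ : Finset K).erase 0, (reps u).card := by
    rw [Finset.card_eq_sum_card_fiberwise (f := fun x : K × K × K => x.1)
      (t := (Finset.univ : Finset K).erase 0) fun x hx =>
        Finset.mem_coe.2 (Finset.mem_erase.2 ⟨(Finset.mem_filter.1 hx).2.1, Finset.mem_univ _⟩)]
    refine Finset.sum_congr rfl fun u hu => ?_
    rw [hM, Finset.filter_filter]
    refine congrArg Finset.card (Finset.filter_congr fun x _ => ?_)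
    exact ⟨fun h => ⟨h.1.2, h.2⟩, fun h => ⟨⟨by rw [h.2]; exact (Finset.mem_erase.1 hu).1, h.1⟩, h.2⟩⟩
  -- the units fall into two classes
  obtain ⟨ε, hε⟩ : IsSquare cc := by
    have hc0 : cc ≠ 0 := by rintro rfl; simp at hcc
    rw [FiniteField.isSquare_iff (by rw [ringChar.eq K 3]; decide) hc0, hq,
      show (9 : ℕ) / 2 = 2 * 2 by rfl, pow_mul, pow_two cc, hcc]
    ring
  have hε0 : ε ≠ 0 := by rintro rfl; simp at hε; subst hε; simp at hcc
  have h2 : (2 : K) ≠ 0 := two_ne_zero_three
  have hfour : ∀ v : K, v ≠ 0 →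
      ∑ u ∈ ({v, cc * v, cc * (cc * v), cc * (cc * (cc * v))} : Finset K), (reps u).card =
        4 * (reps v).card ∧
      ∀ u : K, (u / v) ^ 4 = 1 → u ∈ ({v, cc * v, cc * (cc * v), cc * (cc * (cc * v))} : Finset K) := by
    intro v hv
    have hc0 : cc ≠ 0 := by rintro rfl; simp at hcc
    have hc1 : cc ≠ 1 := by rintro rfl; exact h2 (by linear_combination hcc)
    have hcm : cc ≠ -1 := by rintro rfl; exact h2 (by linear_combination hcc)
    have hm1 : (-1 : K) ≠ 1 := fun h => h2 (by linear_combination -h)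
    have hcm' : cc ≠ -cc := fun h => hc0 ((mul_eq_zero.1
      (show (2 : K) * cc = 0 by linear_combination h)).resolve_left h2)
    have e2 : cc * (cc * v) = -1 * v := by rw [← mul_assoc, hcc]
    have e3 : cc * (cc * (cc * v)) = -cc * v := by rw [e2]; ring
    constructor
    · have key : ∀ a b : K, a ≠ b → a * v ≠ b * v := fun a b h h' => h (mul_right_cancel₀ hv h')
      have k01 : v ≠ cc * v := by simpa using key 1 cc hc1.symm
      have k02 : v ≠ -1 * v := by simpa using key 1 (-1) hm1.symm
      have k03 : v ≠ -cc * v := by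
        simpa using key 1 (-cc) fun h => hcm (by linear_combination h)
      have k12 : cc * v ≠ -1 * v := key _ _ hcm
      have k13 : cc * v ≠ -cc * v := key _ _ hcm'
      have k23 : -1 * v ≠ -cc * v := key _ _ fun h => hc1 (by linear_combination h)
      have n1 : v ∉ ({cc * v, cc * (cc * v), cc * (cc * (cc * v))} : Finset K) := by
        simp only [Finset.mem_insert, Finset.mem_singleton, not_or]
        rw [e3, e2]; exact ⟨k01, k02, k03⟩
      have n2 : cc * v ∉ ({cc * (cc * v), cc * (cc * (cc * v))} : Finset K) := by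
        simp only [Finset.mem_insert, Finset.mem_singleton, not_or]
        rw [e3, e2]; exact ⟨k12, k13⟩
      have n3 : cc * (cc * v) ∉ ({cc * (cc * (cc * v))} : Finset K) := by
        simp only [Finset.mem_singleton]
        rw [e3, e2]; exact k23
      rw [Finset.sum_insert n1, Finset.sum_insert n2, Finset.sum_insert n3, Finset.sum_singleton,
        hcyc _ (mul_ne_zero hc0 (mul_ne_zero hc0 hv)), hcyc _ (mul_ne_zero hc0 hv), hcyc v hv]
      ring
    · intro u hu
      have hd2 : (u / v - 1) * (u / v + 1) * ((u / v - cc) * (u / v + cc)) = 0 := by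
        linear_combination hu - ((u / v) ^ 2 - 1) * hcc
      have huv : u = (u / v) * v := by field_simp
      simp only [Finset.mem_insert, Finset.mem_singleton]
      rw [e3, e2]
      rcases mul_eq_zero.1 hd2 with h | h <;> rcases mul_eq_zero.1 h with h | h
      · exact Or.inl (by rw [huv, sub_eq_zero.1 h, one_mul])
      · exact Or.inr (Or.inr (Or.inl (by rw [huv, eq_neg_of_add_eq_zero_left h])))
      · exact Or.inr (Or.inl (by rw [huv, sub_eq_zero.1 h]))
      · exact Or.inr (Or.inr (Or.inr (by rw [huv, eq_neg_of_add_eq_zero_left h])))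
  have hεpow : ε ^ 4 = -1 := by rw [← hcc, hε]; ring
  refine ⟨(reps 1).card + (reps ε).card, by have := hle3 1; have := hle3 ε; omega, ?_⟩
  rw [← Finset.card_filter_add_card_filter_not (fun x : K × K × K => x.1 = 0) (s := O), hrest, hMsum]
  congr 2
  set s1 : Finset K := {(1 : K), cc * 1, cc * (cc * 1), cc * (cc * (cc * 1))}
  set s2 : Finset K := {ε, cc * ε, cc * (cc * ε), cc * (cc * (cc * ε))}
  obtain ⟨f1, g1⟩ := hfour 1 one_ne_zero
  obtain ⟨f2, g2⟩ := hfour ε hε0
  have hs1 : ∀ u ∈ s1, u ^ 4 = 1 := by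
    intro u hu
    simp only [s1, Finset.mem_insert, Finset.mem_singleton, mul_one] at hu
    have k1 : cc ^ 4 = 1 := by linear_combination (cc * cc - 1) * hcc
    rcases hu with h | h | h | h <;> rw [h] <;> simp [mul_pow, k1]
  have hs2 : ∀ u ∈ s2, u ^ 4 = -1 := by
    intro u hu
    simp only [s2, Finset.mem_insert, Finset.mem_singleton] at hu
    have k1 : cc ^ 4 = 1 := by linear_combination (cc * cc - 1) * hcc
    rcases hu with h | h | h | h <;> rw [h] <;> simp only [mul_pow, k1, one_mul, hεpow]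
  have hcover : (Finset.univ : Finset K).erase 0 = s1 ∪ s2 := by
    ext u
    constructor
    · intro hu
      have hu0 := (Finset.mem_erase.1 hu).1
      have h8 : u ^ 8 = 1 := by
        have := FiniteField.pow_card_sub_one_eq_one u hu0
        rwa [hq] at this
      rcases mul_self_eq_one_iff.1 (show u ^ 4 * u ^ 4 = 1 by rw [← pow_add]; exact h8) with h | h
      · exact Finset.mem_union_left _ (g1 u (by rw [div_one]; exact h))
      · refine Finset.mem_union_right _ (g2 u ?_)
        rw [div_pow, h, hεpow, div_self (neg_ne_zero.2 one_ne_zero)]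
    · intro hu
      refine Finset.mem_erase.2 ⟨?_, Finset.mem_univ _⟩
      rintro rfl
      rcases Finset.mem_union.1 hu with h | h
      · simpa using hs1 0 h
      · simpa using hs2 0 h
  rw [hcover, Finset.sum_union, f1, f2, mul_add]
  refine Finset.disjoint_left.2 fun u h h' => h2 ?_
  linear_combination (hs1 u h).symm.trans (hs2 u h')

/-- An element of prime order fixes a number of vectors congruent to all. -/
theorem prime_fix {ℓ : ℕ} [Fact ℓ.Prime] (hq : Fintype.card K = 9) {g : H} (hg : g ^ ℓ = 1)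
    (hg1 : g ≠ 1) :
    ∃ f, 1 ≤ f ∧ f ≤ 5 ∧ 729 ≡ 3 ^ f [MOD ℓ] ∧ Nat.card {x : K × K × K // g • x = x} = 3 ^ f := by
  obtain ⟨w0, hw0, hfix⟩ := hd.fix
  have hp : IsPGroup ℓ (Subgroup.zpowers g) :=
    IsPGroup.of_card (n := 1) (by rw [Nat.card_zpowers, orderOf_eq_prime hg hg1, pow_one])
  have hmod := hp.card_modEq_card_fixedPoints (K × K × K)
  have hV : Nat.card (K × K × K) = 3 ^ 6 := by
    rw [Nat.card_prod, Nat.card_prod, Nat.card_eq_fintype_card, hq]; rfl
  let F : AddSubgroup (K × K × K) :=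
    { carrier := {x | g • x = x}
      add_mem' := fun {a b} ha hb => by show g • (a + b) = a + b; rw [smul_add, ha, hb]
      zero_mem' := smul_zero g
      neg_mem' := fun {a} ha => by show g • (-a) = -a; rw [smul_neg, ha] }
  obtain ⟨f, hf, hfe⟩ := (Nat.dvd_prime_pow (by norm_num : Nat.Prime 3)).1
    (hV ▸ F.card_addSubgroup_dvd_card)
  have hfix' : Nat.card (MulAction.fixedPoints (Subgroup.zpowers g) (K × K × K)) = Nat.card F := by
    refine Nat.card_congr (Equiv.subtypeEquivRight fun x => ⟨fun h => h ⟨g, Subgroup.mem_zpowers g⟩,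
      fun (h : g • x = x) y => ?_⟩)
    obtain ⟨k, hk⟩ := Subgroup.mem_zpowers_iff.1 y.2
    show (y : H) • x = x
    rw [← hk]
    exact MulAction.mem_stabilizer_iff.1
      ((MulAction.stabilizer H x).zpow_mem (MulAction.mem_stabilizer_iff.2 h) k)
  rw [hfix', hfe, hV] at hmod
  refine ⟨f, ?_, ?_, hmod, hfe⟩
  · by_contra h
    rw [show f = 0 by omega, pow_zero, AddSubgroup.card_eq_one] at hfe
    have : ((0, 0, w0) : K × K × K) ∈ F := hfix g
    rw [hfe, AddSubgroup.mem_bot] at this
    simp [hw0] at this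
  · by_contra h
    have htop : F = ⊤ := AddSubgroup.eq_top_of_card_eq _ (by rw [hfe, show f = 6 by omega, hV])
    exact hg1 (hd.faith g fun x => (show x ∈ F from htop ▸ AddSubgroup.mem_top x))

/-- The orbit has 110 points. -/
theorem exists_order (hq : Fintype.card K = 9) (hsym : HasSym (K := K) R) :
    ∃ μ, μ ∣ 8 ∧ Nat.card H = 495 * μ ∧
      Nat.card (Subgroup.normalizer ((R : Subgroup H) : Set H)) = 9 * μ := by
  obtain ⟨w0, hw0, hfix⟩ := hd.fix
  obtain ⟨i, L₀, L₁, hi, hdec, h0, h1, e0, e1, e2, e3⟩ := exists_pair hq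
  obtain ⟨μ, hμ, hN⟩ := hd.card_normalizer hq
  set N := Subgroup.normalizer ((R : Subgroup H) : Set H)
  refine ⟨μ, hμ, ?_, hN⟩
  set z := w0 * (1 + i) with hz
  obtain ⟨x₁, hx₁, hx₁u, hx₁ne⟩ := hd.exists_frob hq hw0 hfix hi hdec h0 h1 e0 e1 e2 e3
  set z' := w0 * (1 - i)
  set O := orb (H := H) z
  have hcase : ∀ x ∈ O, x.1 = 0 → x = (0, 0, z) ∨ x = (0, 0, z') := by
    intro x hx hu
    obtain ⟨σ, hσ⟩ := hd.orb_sigma two_ne_zero_three hw0 hfix hx hu
    rcases ringHom_cases hq σ with h | h
    · exact Or.inl (by rw [hσ, h])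
    · refine Or.inr ?_
      rw [hσ, map_add, map_one, h, pow_three, hi, mul_neg_one, ← sub_eq_add_neg]
  have hx₁' : x₁ = (0, 0, z') := (hcase x₁ hx₁ hx₁u).resolve_left hx₁ne
  have hline : (O.filter fun x => x.1 = 0) = {((0, 0, z) : K × K × K), (0, 0, z')} := by
    ext x
    rw [Finset.mem_filter, Finset.mem_insert, Finset.mem_singleton]
    constructor
    · rintro ⟨h, hu⟩; exact hcase x h hu
    · rintro (rfl | rfl)
      · exact ⟨mem_orb.2 ⟨1, one_smul H _⟩, rfl⟩
      · exact ⟨hx₁' ▸ hx₁, rfl⟩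
  obtain ⟨k, hk, hO⟩ := hd.card_orb hq hsym hw0 hfix hdec z
  rw [hline, Finset.card_pair (hx₁' ▸ hx₁ne).symm] at hO
  -- `k` is not zero
  have hk0 : k ≠ 0 := by
    rintro rfl
    have hall : ∀ x ∈ O, x.1 = 0 := by
      intro x hx
      have hsub : (O.filter fun x => x.1 = 0) = O := Finset.eq_of_subset_of_card_le
        (Finset.filter_subset _ _) (by rw [hline, Finset.card_pair (hx₁' ▸ hx₁ne).symm, hO])
      have h' : x ∈ O.filter fun x => x.1 = 0 := by rw [hsub]; exact hx
      exact (Finset.mem_filter.1 h').2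
    have hzf : ∀ h : H, h • ((0, 0, z) : K × K × K) = (0, 0, z) := hd.fixed_of_orbit fun h =>
      ⟨_, hd.orb_line two_ne_zero_three (mem_orb.2 ⟨h, rfl⟩) (hall _ (mem_orb.2 ⟨h, rfl⟩))⟩
    have := (hd.fixed_line hq hw0 hfix hdec z).1 hzf
    rw [hz, mul_div_cancel_left₀ _ hw0, map_add, e1, e3, zero_add] at this
    exact one_ne_zero this
  -- stabiliser
  set C := MulAction.stabilizer H ((0, 0, z) : K × K × K) with hC
  have hCN : C ≤ N := by
    intro g hg
    refine hd.fixer_le_normalizer fun w => ?_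
    set L : AddSubgroup (K × K × K) :=
      { carrier := {x | g • x = x}
        add_mem' := fun {a b} ha hb => by show g • (a + b) = a + b; rw [smul_add, ha, hb]
        zero_mem' := smul_zero g
        neg_mem' := fun {a} ha => by show g • (-a) = -a; rw [smul_neg, ha] }
    have h10 : ((0, 0, w0) : K × K × K) ∈ L := hfix g
    have h11 : ((0, 0, z) : K × K × K) ∈ L := MulAction.mem_stabilizer_iff.1 hg
    have h12 : ((0, 0, w0 * i) : K × K × K) ∈ L := by
      have := L.sub_mem h11 h10
      rwa [show ((0, 0, z) : K × K × K) - (0, 0, w0) = (0, 0, w0 * i) by simp [hz, mul_add]] at this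
    have e : ((0, 0, w) : K × K × K) = (L₀ (w / w0)).val • ((0, 0, w0) : K × K × K) +
        (L₁ (w / w0)).val • ((0, 0, w0 * i) : K × K × K) := by
      conv_lhs => rw [show w = w0 * (w / w0) by field_simp, ← hdec (w / w0)]
      refine Prod.ext (by simp) (Prod.ext (by simp) ?_)
      simp; ring
    show ((0, 0, w) : K × K × K) ∈ L
    rw [e]
    exact L.add_mem (L.nsmul_mem h10 _) (L.nsmul_mem h12 _)
  haveI := Fintype.ofFinite H
  have horbH : Nat.card H = O.card * Nat.card C := by
    have h := MulAction.card_orbit_mul_card_stabilizer_eq_card_group H ((0, 0, z) : K × K × K)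
    rw [← Nat.card_eq_fintype_card, ← Nat.card_eq_fintype_card, ← Nat.card_eq_fintype_card] at h
    rw [← h, show O.card = Nat.card (MulAction.orbit H ((0, 0, z) : K × K × K)) by
      rw [Nat.card_eq_card_toFinset]; congr 1; ext; simp [O, orb]]
  have horbN : Nat.card N = 2 * Nat.card C := by
    have h := MulAction.card_orbit_mul_card_stabilizer_eq_card_group N ((0, 0, z) : K × K × K)
    rw [← Nat.card_eq_fintype_card, ← Nat.card_eq_fintype_card, ← Nat.card_eq_fintype_card] at h
    rw [← h]
    congr 1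
    · rw [Nat.card_eq_card_toFinset, ← Finset.card_pair (hx₁' ▸ hx₁ne).symm]
      congr 1
      ext x
      rw [Set.mem_toFinset, Finset.mem_insert, Finset.mem_singleton]
      constructor
      · rintro ⟨n, rfl⟩
        obtain ⟨σ, a, g, -, -, -, -, h3, -⟩ := hd.normalizer_layers two_ne_zero_three n.2
        refine hcase _ (mem_orb.2 ⟨n, rfl⟩) ?_
        show ((n : H) • ((0, 0, z) : K × K × K)).1 = 0
        rw [h3]
      · rintro (rfl | rfl)
        · exact MulAction.mem_orbit_self _
        · obtain ⟨g, hg⟩ := mem_orb.1 (hx₁' ▸ hx₁)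
          obtain ⟨n, hn, hnz⟩ := hd.fusion_Z hg
          exact ⟨⟨n, hn⟩, hnz⟩
    · exact Nat.card_congr
        { toFun := fun c => ⟨((c : N) : H), MulAction.mem_stabilizer_iff.2
            (MulAction.mem_stabilizer_iff.1 c.2)⟩
          invFun := fun c => ⟨⟨c, hCN c.2⟩, MulAction.mem_stabilizer_iff.2
            (MulAction.mem_stabilizer_iff.1 c.2)⟩
          left_inv := fun c => rfl
          right_inv := fun c => rfl }
  have h2H : 2 * Nat.card H = O.card * (9 * μ) := by
    rw [horbH, ← hN, horbN]; ring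
  -- only one orbit length survives
  have excl : ∀ ℓ : ℕ, ℓ.Prime → 2 < ℓ → (∀ f < 6, 1 ≤ f → ¬ 729 % ℓ = 3 ^ f % ℓ) → ¬ ℓ ∣ O.card := by
    intro ℓ hℓ h2ℓ hmod hdiv
    haveI := Fact.mk hℓ
    have hd2 : ℓ ∣ 2 * Nat.card H := h2H ▸ hdiv.trans (dvd_mul_right _ _)
    have hdH : ℓ ∣ Nat.card H := (hℓ.dvd_mul.1 hd2).resolve_left fun h => by
      have := Nat.le_of_dvd (by norm_num) h; omega
    obtain ⟨g, hg⟩ := exists_prime_orderOf_dvd_card' (G := H) ℓ hdH
    obtain ⟨f, hf1, hf5, hfm, -⟩ := hd.prime_fix hq (g := g) (ℓ := ℓ) (hg ▸ pow_orderOf_eq_one g)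
      (fun h => hℓ.ne_one (by rw [← hg, h, orderOf_one]))
    exact hmod f (by omega) hf1 hfm
  have e19 := excl 19 (by norm_num) (by norm_num) (by decide)
  have e37 := excl 37 (by norm_num) (by norm_num) (by decide)
  have e73 := excl 73 (by norm_num) (by norm_num) (by decide)
  have e7 := excl 7 (by norm_num) (by norm_num) (by decide)
  have e109 := excl 109 (by norm_num) (by norm_num) (by decide)
  have hO' : O.card = 2 + 36 * k := hO.trans (by ring)
  have hk3 : O.card = 110 := by interval_cases k <;> omega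
  rw [hk3] at h2H
  omega

/-- No configuration over nine elements. -/
theorem false_of_nine (hq : Fintype.card K = 9) (hsym : HasSym (K := K) R) : False := by
  obtain ⟨μ, hμ, hH, hN⟩ := hd.exists_order hq hsym
  obtain ⟨w0, hw0, hfix⟩ := hd.fix
  haveI : Fact (Nat.Prime 11) := ⟨by norm_num⟩
  haveI := Fintype.ofFinite H
  have hμ9 : μ ≤ 8 := Nat.le_of_dvd (by norm_num) hμ
  have h11H : 11 ∣ Nat.card H := by rw [hH]; exact Dvd.dvd.mul_right (by norm_num) μ
  have hno : ∀ g : H, g ^ 11 = 1 → g ∈ Subgroup.normalizer ((R : Subgroup H) : Set H) → g = 1 := by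
    intro g hg hgN
    by_contra h
    have h1 : 11 ∣ Nat.card (Subgroup.normalizer ((R : Subgroup H) : Set H)) := by
      rw [← orderOf_eq_prime hg h, ← Subgroup.orderOf_mk g hgN]; exact _root_.orderOf_dvd_natCard _
    rw [hN] at h1
    rcases (Nat.Prime.dvd_mul Fact.out).1 h1 with h2 | h2
    · norm_num at h2
    · exact absurd (h2.trans hμ) (by norm_num)
  obtain ⟨P⟩ : Nonempty (Sylow 11 H) := inferInstance
  have hP : Nat.card (P : Subgroup H) = 11 := by
    obtain ⟨j, hj⟩ := IsPGroup.iff_card.1 P.2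
    have hd1 : 11 ^ j ∣ 495 * μ := hH ▸ hj ▸ Subgroup.card_subgroup_dvd_card _
    have hj1 : j ≠ 0 := by
      rintro rfl
      exact P.ne_bot_of_dvd_card h11H (Subgroup.eq_bot_of_card_eq _ (by rw [hj, pow_zero]))
    have hj2 : j < 2 := by
      by_contra h
      have : 11 ^ 2 ∣ 495 * μ := (pow_dvd_pow 11 (by omega)).trans hd1
      norm_num at this
      obtain ⟨c, hc⟩ := this
      interval_cases μ <;> omega
    rw [hj, show j = 1 by omega, pow_one]
  obtain ⟨g, hg⟩ := exists_prime_orderOf_dvd_card' (G := (P : Subgroup H)) 11 (by rw [hP])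
  have hgo : orderOf (g : H) = 11 := by rw [Subgroup.orderOf_coe, hg]
  have hg11 : (g : H) ^ 11 = 1 := orderOf_dvd_iff_pow_eq_one.1 hgo.dvd
  have hg1 : (g : H) ≠ 1 := fun h => by rw [h, orderOf_one] at hgo; norm_num at hgo
  have hPg : (P : Subgroup H) = Subgroup.zpowers (g : H) :=
    (Subgroup.eq_of_le_of_card_ge (Subgroup.zpowers_le.2 g.2) (by rw [Nat.card_zpowers, hgo, hP])).symm
  obtain ⟨f, hf1, hf5, hfm, hfc⟩ := hd.prime_fix hq hg11 hg1
  have hf : f = 1 := by
    have k : ∀ f < 6, 1 ≤ f → 729 % 11 = 3 ^ f % 11 → f = 1 := by decide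
    exact k f (by omega) hf1 hfm
  rw [hf, pow_one] at hfc
  let W : AddSubgroup (K × K × K) :=
    { carrier := {x | ∀ h : H, h • x = x}
      add_mem' := fun {a b} ha hb h => by rw [smul_add, ha, hb]
      zero_mem' := fun h => smul_zero h
      neg_mem' := fun {a} ha h => by rw [smul_neg, ha] }
  have hW3 : 3 ≤ Nat.card W := by
    obtain ⟨j, -, hj⟩ := (Nat.dvd_prime_pow (by norm_num : Nat.Prime 3)).1
      (show Nat.card W ∣ 3 ^ 6 from by
        have := W.card_addSubgroup_dvd_card
        rwa [Nat.card_prod, Nat.card_prod, Nat.card_eq_fintype_card (α := K), hq] at this)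
    rcases Nat.eq_zero_or_pos j with rfl | hj0
    · rw [pow_zero, AddSubgroup.card_eq_one] at hj
      have : ((0, 0, w0) : K × K × K) ∈ W := hfix
      rw [hj, AddSubgroup.mem_bot] at this
      simp [hw0] at this
    · rw [hj]; exact Nat.le_self_pow (by omega) 3
  have hfixg : ∀ x, (g : H) • x = x → x ∈ W := by
    intro x hx
    let F : W → {x : K × K × K // (g : H) • x = x} := fun y => ⟨y.1, y.2 g⟩
    have hF : Function.Injective F := fun a b h => Subtype.ext (congrArg Subtype.val h :)
    have hb : Function.Bijective F := (Nat.bijective_iff_injective_and_card _).2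
        ⟨hF, le_antisymm (Nat.card_le_card_of_injective F hF) (hfc ▸ hW3)⟩
    obtain ⟨y, hy⟩ := hb.2 ⟨x, hx⟩
    exact (show (y : K × K × K) = x from congrArg Subtype.val hy) ▸ y.2
  have hWcard : Nat.card W = 3 := by
    refine le_antisymm ?_ hW3
    exact hfc ▸ Nat.card_le_card_of_injective (fun y : W => (⟨y.1, y.2 g⟩ : {x // (g : H) • x = x}))
      fun a b h => Subtype.ext (congrArg Subtype.val h :)
  -- no involution centralizes
  have hnoinv : ∀ c : H, c ^ 2 = 1 → Commute c (g : H) → c = 1 := by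
    intro c hc hcg
    by_contra hc1
    let Fc : AddSubgroup (K × K × K) :=
      { carrier := {x | c • x = x}
        add_mem' := fun {a b} ha hb => by show c • (a + b) = a + b; rw [smul_add, ha, hb]
        zero_mem' := smul_zero c
        neg_mem' := fun {a} ha => by show c • (-a) = -a; rw [smul_neg, ha] }
    obtain ⟨f', hf', hfe⟩ := (Nat.dvd_prime_pow (by norm_num : Nat.Prime 3)).1
      (show Nat.card Fc ∣ 3 ^ 6 from by
        have := Fc.card_addSubgroup_dvd_card
        rwa [Nat.card_prod, Nat.card_prod, Nat.card_eq_fintype_card (α := K), hq] at this)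
    letI : MulAction (Subgroup.zpowers (g : H)) Fc :=
      { smul := fun y x => ⟨(y : H) • (x : K × K × K), by
          obtain ⟨k, hk⟩ := Subgroup.mem_zpowers_iff.1 y.2
          show c • ((y : H) • (x : K × K × K)) = _
          rw [← mul_smul, ← hk, (hcg.zpow_right k).eq, mul_smul, x.2]⟩
        one_smul := fun x => Subtype.ext (one_smul H _)
        mul_smul := fun y y' x => Subtype.ext (mul_smul (y : H) y' _) }
    have hmod := (IsPGroup.of_card (n := 1) (by rw [Nat.card_zpowers, hgo, pow_one]) :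
      IsPGroup 11 (Subgroup.zpowers (g : H))).card_modEq_card_fixedPoints Fc
    have hfx : Nat.card (MulAction.fixedPoints (Subgroup.zpowers (g : H)) Fc) = Nat.card W := by
      refine Nat.card_congr
        { toFun := fun x => ⟨(x : Fc), hfixg _ (congrArg Subtype.val (x.2 ⟨g, Subgroup.mem_zpowers _⟩))⟩
          invFun := fun x => ⟨⟨x, x.2 c⟩, fun y => Subtype.ext (x.2 (y : H))⟩
          left_inv := fun x => rfl
          right_inv := fun x => rfl }
    rw [hfx, hfe, hWcard] at hmod
    have k : ∀ f < 7, 3 ^ f % 11 = 3 % 11 → f = 1 ∨ f = 6 := by decide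
    rcases k f' (by omega) hmod with rfl | rfl
    · -- `c` is central
      have hmove : ∀ x : K × K × K, c • x + x ∈ W := fun x => by
        have h1 : c • x + x ∈ Fc := by
          show c • (c • x + x) = c • x + x
          rw [smul_add, ← mul_smul, ← pow_two, hc, one_smul, add_comm]
        have hb : Function.Bijective (fun y : W => (⟨y.1, y.2 c⟩ : Fc)) :=
          (Nat.bijective_iff_injective_and_card _).2
            ⟨fun a b h => Subtype.ext (congrArg Subtype.val h :), by rw [hWcard, hfe]; rfl⟩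
        obtain ⟨y, hy⟩ := hb.2 ⟨_, h1⟩
        exact (show (y : K × K × K) = c • x + x from congrArg Subtype.val hy) ▸ y.2
      have hcinv : c⁻¹ = c := inv_eq_of_mul_eq_one_right (by rw [← pow_two, hc])
      have hcomm : ∀ h : H, Commute c h := by
        intro h
        have hone := hd.eq_one_of_mod_fixed (k := c * h * c⁻¹ * h⁻¹) fun x k => ?_
        · rwa [mul_inv_eq_one, mul_inv_eq_iff_eq_mul] at hone
        set d := c • (h⁻¹ • x) + h⁻¹ • x with hd'
        have hdW : d ∈ W := hmove _
        set e := c • x + x with he'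
        have heW : e ∈ W := hmove _
        have e1 : (c * h * c⁻¹ * h⁻¹) • x = c • d - c • x := by
          rw [← smul_sub, hcinv, mul_smul, mul_smul, mul_smul,
            show c • h⁻¹ • x = d - h⁻¹ • x by rw [hd']; abel, smul_sub, smul_inv_smul, hdW h]
        have e2 : (c * h * c⁻¹ * h⁻¹) • x - x = d - e := by
          rw [e1, hdW c, he']; abel
        rw [e2, smul_sub, hdW k, heW k]
      have hcN : c ∈ Subgroup.normalizer ((R : Subgroup H) : Set H) :=
        hd.centralizer_le_normalizer one_ne_zero (hcomm _)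
      obtain ⟨σ, a, gg, -, -, l1, l2, l3, l4⟩ := hd.normalizer_layers two_ne_zero_three hcN
      have hα : ∀ t, a * σ t = t := fun t => hd.par_inj (by
        rw [← l4, (hcomm _).eq, mul_inv_cancel_right])
      have ha : a = 1 := by simpa using hα 1
      have hσ : ∀ t, σ t = t := fun t => by simpa [ha] using hα t
      have hgg : gg = 1 := by
        have e := hfix c
        rw [l3, ha, hσ] at e
        simp only [Prod.mk.injEq, true_and, one_pow, one_mul] at e
        exact (mul_eq_right₀ hw0).1 e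
      have hcR : c ∈ (R : Subgroup H) := by
        refine hd.mem_R_of_trivial hcN ?_ ?_ ?_
        · rintro ⟨u, v, w⟩; rw [l1, hgg, one_mul, hσ]
        · rintro ⟨u, v, w⟩ hu
          simp only at hu
          subst hu
          rw [l2, ha, hgg, one_mul, one_mul, hσ]
        · intro w; rw [l3, ha, hgg, hσ]; simp
      obtain ⟨j, hj⟩ := R.2 ⟨c, hcR⟩
      have hj' : c ^ 3 ^ j = 1 := congrArg Subtype.val hj
      obtain ⟨m, hm⟩ := (Odd.pow (by decide : Odd 3) : Odd (3 ^ j))
      rw [hm, pow_succ, pow_mul, hc, one_pow, one_mul] at hj'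
      exact hc1 hj'
    · refine hc1 (hd.faith c fun x => ?_)
      have htop : Fc = ⊤ := AddSubgroup.eq_top_of_card_eq _ (by
        rw [hfe, Nat.card_prod, Nat.card_prod, Nat.card_eq_fintype_card, hq]; rfl)
      exact (show x ∈ Fc from htop ▸ AddSubgroup.mem_top x)
  -- no involution inverts
  have hnoflip : ∀ y : H, y ^ 2 = 1 → y * (g : H) * y⁻¹ = (g : H)⁻¹ → False := by
    intro y hy hyg
    let φ : K × K × K →+ K × K × K :=
      DistribSMul.toAddMonoidHom (K × K × K) y + AddMonoidHom.id _
    have hφ : ∀ x, φ x = y • x + x := fun x => rfl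
    have hys : ∀ x : K × K × K, y • (y • x) = x := fun x => by
      rw [← mul_smul, ← pow_two, hy, one_smul]
    let Vp : AddSubgroup (K × K × K) :=
      { carrier := {x | y • x = x}
        add_mem' := fun {a b} ha hb => by show y • (a + b) = a + b; rw [smul_add, ha, hb]
        zero_mem' := smul_zero y
        neg_mem' := fun {a} ha => by show y • (-a) = -a; rw [smul_neg, ha] }
    have hrange : φ.range = Vp := by
      refine le_antisymm ?_ fun x (hx : y • x = x) => ⟨-x, ?_⟩
      · rintro _ ⟨x, rfl⟩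
        show y • (y • x + x) = y • x + x
        rw [smul_add, hys, add_comm]
      · rw [hφ, smul_neg, hx]
        rw [← sub_eq_zero, show -x + -x - x = -(x + x + x) by abel, three_nsmul_eq_zero, neg_zero]
    have hcards : Nat.card Vp * Nat.card φ.ker = 729 := by
      have h := AddSubgroup.card_eq_card_quotient_mul_card_addSubgroup φ.ker
      rw [Nat.card_congr (QuotientAddGroup.quotientKerEquivRange φ).toEquiv, hrange, Nat.card_prod,
        Nat.card_prod, Nat.card_eq_fintype_card, hq] at h
      exact h.symm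
    have hflip : ∀ x : K × K × K, y • ((g : H) • x) = (g : H)⁻¹ • (y • x) := fun x => by
      rw [← mul_smul, ← mul_smul, ← hyg, inv_mul_cancel_right]
    -- a subgroup which meets its translate in fixed vectors only is small
    have hsmall : ∀ D : AddSubgroup (K × K × K),
        (∀ b ∈ D, (g : H) • b ∈ D → (g : H) • ((g : H) • b) - b ∈ W) → Nat.card D < 81 := by
      intro D hD
      by_contra hbig
      let ψ : D × D →+ K × K × K :=
        AddMonoidHom.coprod D.subtype (-((DistribSMul.toAddMonoidHom _ (g : H)).comp D.subtype))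
      have hψ : ∀ q : D × D, ψ q = (q.1 : K × K × K) + -((g : H) • (q.2 : K × K × K)) := fun q => rfl
      have h := AddSubgroup.card_eq_card_quotient_mul_card_addSubgroup ψ.ker
      rw [Nat.card_congr (QuotientAddGroup.quotientKerEquivRange ψ).toEquiv, Nat.card_prod] at h
      have hr : Nat.card ψ.range ≤ 729 := by
        refine (Nat.card_le_card_of_injective _ (Subtype.val_injective (p := (· ∈ ψ.range)))).trans ?_
        rw [Nat.card_prod, Nat.card_prod, Nat.card_eq_fintype_card, hq]
      have hk : Nat.card ψ.ker ≤ 3 := by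
        rw [← hWcard]
        refine Nat.card_le_card_of_injective (fun q => ⟨((q : D × D).2 : K × K × K), ?_⟩) ?_
        · have hq0 := q.2
          rw [AddMonoidHom.mem_ker, hψ, ← sub_eq_add_neg, sub_eq_zero] at hq0
          set b := ((q : D × D).2 : K × K × K)
          have hw := hD b (q : D × D).2.2 (by rw [← hq0]; exact (q : D × D).1.2)
          refine hfixg b ?_
          set e := (g : H) • ((g : H) • b) - b with he
          have hit : ∀ m : ℕ, ((g : H) ^ 2) ^ m • b = b + m • e := by
            intro m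
            induction m with
            | zero => simp
            | succ m ih =>
              rw [pow_succ', mul_smul, ih, smul_add, smul_comm _ m e, hw _, pow_two, mul_smul,
                show (g : H) • (g : H) • b = b + e by rw [he]; abel, succ_nsmul]
              abel
          have he0 : e = 0 := by
            have h11 := hit 11
            rw [← pow_mul, mul_comm, pow_mul, hg11, one_pow, one_smul, left_eq_add] at h11
            rw [show (11 : ℕ) • e = (e + e + e) + (e + e + e) + (e + e + e) + e + e by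
              simp only [succ_nsmul, zero_nsmul, zero_add]; abel] at h11
            simp only [three_nsmul_eq_zero, zero_add] at h11
            have := three_nsmul_eq_zero e
            rwa [h11, zero_add] at this
          have h6 : ((g : H) ^ 2) ^ 6 • b = b := by rw [hit, he0, smul_zero, add_zero]
          rwa [← pow_mul, show 2 * 6 = 11 + 1 by norm_num, pow_succ, hg11, one_mul] at h6
        · intro a b hab
          have h2' : (a : D × D).2 = (b : D × D).2 := Subtype.ext (congrArg Subtype.val hab :)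
          refine Subtype.ext (Prod.ext (Subtype.ext ?_) h2')
          have ha := a.2
          have hb := b.2
          rw [AddMonoidHom.mem_ker, hψ, ← sub_eq_add_neg, sub_eq_zero] at ha hb
          rw [ha, hb, h2']
      nlinarith
    by_cases hbig : 81 ≤ Nat.card Vp
    · refine absurd hbig (not_le.2 (hsmall Vp fun b (hb : y • b = b) (hgb : y • ((g : H) • b) = _) => ?_))
      rw [hflip, hb] at hgb
      rw [← hgb, smul_inv_smul, sub_self]
      exact W.zero_mem
    · have hker : 27 ≤ Nat.card φ.ker := by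
        obtain ⟨j, hj, hje⟩ := (Nat.dvd_prime_pow (by norm_num : Nat.Prime 3)).1
          (show Nat.card φ.ker ∣ 3 ^ 6 from Dvd.intro_left _ hcards)
        by_contra h
        have : j < 3 := by
          by_contra hj3
          exact h (hje ▸ (show 27 ≤ 3 ^ j from (Nat.pow_le_pow_right (by norm_num : 0 < 3) (by omega : 3 ≤ j))))
        have h9 : 3 ^ j ≤ 3 ^ 2 := Nat.pow_le_pow_right (by norm_num) (by omega)
        nlinarith
      let D : AddSubgroup (K × K × K) := W.comap φ
      refine absurd ?_ (not_le.2 (hsmall D fun b hb hgb => ?_))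
      · let J : φ.ker × W → D := fun q => ⟨(q.1 : K × K × K) + q.2, by
          show φ _ ∈ W
          rw [map_add, AddMonoidHom.mem_ker.1 q.1.2, zero_add, hφ, q.2.2 y]
          exact W.add_mem q.2.2 q.2.2⟩
        have hJ : Function.Injective J := by
          rintro ⟨a, w⟩ ⟨a', w'⟩ h
          have h' : (a : K × K × K) + w = a' + w' := congrArg Subtype.val h
          have hww : (w : K × K × K) = w' := by
            have e := congrArg φ h'
            rw [map_add, map_add, AddMonoidHom.mem_ker.1 a.2, AddMonoidHom.mem_ker.1 a'.2, zero_add,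
              zero_add, hφ, hφ, w.2 y, w'.2 y] at e
            have e3 : (w : K × K × K) + w + (w + w) = w' + w' + (w' + w') := by rw [e]
            have k3 := three_nsmul_eq_zero (w : K × K × K)
            have k3' := three_nsmul_eq_zero (w' : K × K × K)
            calc (w : K × K × K) = (w : K × K × K) + (w + w + w) := by rw [k3, add_zero]
              _ = (w + w) + (w + w) := by abel
              _ = (w' + w') + (w' + w') := e3
              _ = w' + (w' + w' + w') := by abel
              _ = w' := by rw [k3', add_zero]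
          refine Prod.ext (Subtype.ext ?_) (Subtype.ext hww)
          rwa [hww, add_left_inj] at h'
        have := Nat.card_le_card_of_injective J hJ
        rw [Nat.card_prod, hWcard] at this
        omega
      · obtain ⟨c1, hc1⟩ : ∃ c1, y • b + b = c1 := ⟨_, rfl⟩
        obtain ⟨c2, hc2⟩ : ∃ c2, y • ((g : H) • b) + (g : H) • b = c2 := ⟨_, rfl⟩
        have h1 : c1 ∈ W := hc1 ▸ hb
        have h2 : c2 ∈ W := hc2 ▸ hgb
        rw [hflip, show y • b = c1 - b by rw [← hc1]; abel, smul_sub, h1 _] at hc2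
        have hgb2 := congrArg (fun v => (g : H) • v) hc2
        simp only [smul_add, smul_sub, smul_inv_smul, h1 _, h2 _] at hgb2
        rw [show (g : H) • ((g : H) • b) - b = c2 - c1 by rw [← hgb2]; abel]
        exact W.sub_mem h2 h1
  -- the normaliser of `P`
  set NP := Subgroup.normalizer ((P : Subgroup H) : Set H)
  have h3N : ¬ 3 ∣ Nat.card NP := by
    intro h
    obtain ⟨y, hy⟩ := exists_prime_orderOf_dvd_card' (G := NP) 3 h
    have hy3 : (y : H) ^ 3 = 1 := by
      have := pow_orderOf_eq_one y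
      rw [hy] at this
      exact congrArg Subtype.val this
    have hconj : (y : H) * g * (y : H)⁻¹ ∈ Subgroup.zpowers (g : H) :=
      hPg ▸ (Subgroup.mem_normalizer_iff.1 y.2 _).1 g.2
    rw [← mem_powers_iff_mem_zpowers] at hconj
    obtain ⟨k, hk⟩ := hconj
    simp only at hk
    have hk3 : (g : H) ^ (k ^ 3) = g := by
      have e : ∀ m, (y : H) * (g : H) ^ m * (y : H)⁻¹ = (g : H) ^ (k * m) := fun m => by
        rw [← conj_pow, ← hk, ← pow_mul]
      calc (g : H) ^ (k ^ 3) = (y : H) ^ 3 * (g : H) ^ 1 * ((y : H) ^ 3)⁻¹ := by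
            rw [pow_three (y : H), pow_three k, show k * (k * k) = k * (k * (k * 1)) by ring,
              ← e, ← e, ← e]
            group
        _ = g := by rw [hy3]; simp
    have hk11 : ((k : ZMod 11)) ^ 3 = 1 := by
      have h' : (g : H) ^ (k ^ 3) = (g : H) ^ 1 := by rw [hk3, pow_one]
      rw [pow_eq_pow_iff_modEq, hgo, ← ZMod.natCast_eq_natCast_iff] at h'
      simpa using h'
    have hc : Commute (y : H) (g : H) := by
      have h1 : (g : H) ^ k = g := by
        conv_rhs => rw [← pow_one (g : H)]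
        rw [pow_eq_pow_iff_modEq, hgo, ← ZMod.natCast_eq_natCast_iff, zmod_eleven_cube _ hk11, Nat.cast_one]
      rw [h1] at hk
      show (y : H) * g = g * y
      exact (mul_inv_eq_iff_eq_mul.1 hk.symm)
    have hy1 : (y : H) ≠ 1 := fun h' => by
      have := hy
      rw [← Subgroup.orderOf_coe, h', orderOf_one] at this
      norm_num at this
    obtain ⟨U, hU⟩ := (IsPGroup.of_card (n := 1)
      (by rw [Nat.card_zpowers, orderOf_eq_prime hy3 hy1, pow_one]) :
        IsPGroup 3 (Subgroup.zpowers (y : H))).exists_le_sylow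
    obtain ⟨c, hc'⟩ := MulAction.exists_smul_eq H R U
    have hyU : (y : H) ∈ ((c • R : Sylow 3 H) : Subgroup H) := hc' ▸ hU (Subgroup.mem_zpowers _)
    rw [Sylow.coe_subgroup_smul, Subgroup.mem_pointwise_smul_iff_inv_smul_mem] at hyU
    simp only [MulAut.smul_def] at hyU
    change (MulAut.conj c)⁻¹ (y : H) ∈ (R : Subgroup H) at hyU
    rw [MulAut.conj_inv_apply] at hyU
    obtain ⟨t, ht⟩ := hd.exists_par hyU
    have ht0 : t ≠ 0 := by
      rintro rfl
      have h0 : hd.par 0 = 1 := by
        have h0 := hd.par_mul 0 0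
        rw [add_zero] at h0
        exact mul_eq_left.1 h0
      rw [h0] at ht
      exact hy1 (by simpa [mul_assoc] using congrArg (fun z => c * z * c⁻¹) ht)
    have hg' : c⁻¹ * (g : H) * c ∈ Subgroup.normalizer ((R : Subgroup H) : Set H) := by
      refine hd.centralizer_le_normalizer ht0 ?_
      rw [← ht]
      show c⁻¹ * g * c * (c⁻¹ * y * c) = c⁻¹ * y * c * (c⁻¹ * g * c)
      calc c⁻¹ * (g : H) * c * (c⁻¹ * y * c) = c⁻¹ * ((g : H) * y) * c := by group
        _ = c⁻¹ * ((y : H) * g) * c := by rw [hc.eq]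
        _ = c⁻¹ * (y : H) * c * (c⁻¹ * g * c) := by group
    have h11 : (c⁻¹ * (g : H) * c) ^ 11 = 1 := by
      conv_lhs => rw [show c⁻¹ * (g : H) * c = c⁻¹ * (g : H) * c⁻¹⁻¹ by rw [inv_inv]]
      rw [conj_pow, hg11, mul_one, mul_inv_cancel]
    have := hno _ h11 hg'
    exact hg1 (by simpa [mul_assoc] using (mul_inv_eq_one (a := c⁻¹ * (g : H)) (b := c⁻¹)).1 (by
      rw [inv_inv]; exact this))
  have hNP : Nat.card NP ∣ 88 := by
    have hidx := NP.card_mul_index
    rw [show NP.index = Nat.card (Sylow 11 H) from (Sylow.card_eq_index_normalizer P).symm, hH] at hidx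
    have hmod := card_sylow_modEq_one 11 H
    set n := Nat.card (Sylow 11 H)
    obtain ⟨r, hr⟩ : 11 ∣ Nat.card NP := by
      rw [← hP]; exact Subgroup.card_dvd_of_le Subgroup.le_normalizer
    have hrn : r * n = 45 * μ := by
      rw [hr] at hidx
      nlinarith
    have hd1 : n ∣ 360 := (Dvd.intro_left r hrn).trans (by
      rw [show 360 = 45 * 8 by rfl]; exact Nat.mul_dvd_mul_left 45 hμ)
    have h9 : 9 ∣ n := by
      have hc9 : Nat.Coprime 9 r := by
        rw [show 9 = 3 ^ 2 by rfl]
        refine Nat.Coprime.pow_left 2 ((Nat.Prime.coprime_iff_not_dvd (by norm_num)).2 fun h => h3N ?_)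
        rw [hr]; exact h.trans (dvd_mul_left _ _)
      refine hc9.dvd_of_dvd_mul_left (m := r) ?_
      rw [hrn]; exact Dvd.dvd.mul_right (by norm_num) μ
    have hn45 : n = 45 := by
      obtain ⟨m, hm⟩ := h9
      have hm40 : m ∣ 40 := by
        have : 9 * m ∣ 9 * 40 := hm ▸ hd1
        exact Nat.dvd_of_mul_dvd_mul_left (by norm_num) this
      have hmle : m ≤ 40 := Nat.le_of_dvd (by norm_num) hm40
      have k : ∀ m < 41, m ∣ 40 → 9 * m % 11 = 1 → m = 5 := by decide
      have := k m (by omega) hm40 (by rw [← hm]; exact hmod)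
      omega
    rw [hr, show 88 = 11 * 8 by rfl]
    refine Nat.mul_dvd_mul_left 11 ?_
    have : r = μ := by rw [hn45] at hrn; omega
    exact this ▸ hμ
  have hcent : NP ≤ Subgroup.centralizer ((P : Subgroup H) : Set H) := by
    intro x hx
    have hconj : x * g * x⁻¹ ∈ Subgroup.zpowers (g : H) :=
      hPg ▸ (Subgroup.mem_normalizer_iff.1 hx _).1 g.2
    rw [← mem_powers_iff_mem_zpowers] at hconj
    obtain ⟨k, hk⟩ := hconj
    simp only at hk
    have hit : ∀ j, x ^ j * (g : H) * (x ^ j)⁻¹ = (g : H) ^ (k ^ j) := by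
      intro j
      induction j with
      | zero => simp
      | succ j ih =>
        rw [pow_succ' x, show x * x ^ j * (g : H) * (x * x ^ j)⁻¹ =
          x * (x ^ j * g * (x ^ j)⁻¹) * x⁻¹ by group, ih, ← conj_pow, ← hk, ← pow_mul, ← pow_succ']
    have hx88 : x ^ 88 = 1 := by
      have h1 : (⟨x, hx⟩ : NP) ^ 88 = 1 := orderOf_dvd_iff_pow_eq_one.1 ((_root_.orderOf_dvd_natCard _).trans hNP)
      exact congrArg Subtype.val h1
    have hkz : ∀ j : ℕ, (k : ZMod 11) ^ j = 1 → Commute (x ^ j) (g : H) := fun j h => by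
      have h1 : (g : H) ^ (k ^ j) = g := by
        conv_rhs => rw [← pow_one (g : H)]
        rw [pow_eq_pow_iff_modEq, hgo, ← ZMod.natCast_eq_natCast_iff, Nat.cast_pow, h, Nat.cast_one]
      have h2 := hit j
      rw [h1] at h2
      exact mul_inv_eq_iff_eq_mul.1 h2
    have hkpm : (k : ZMod 11) = 1 ∨ (k : ZMod 11) = -1 := by
      have h' : (g : H) ^ (k ^ 88) = (g : H) ^ 1 := by rw [← hit, hx88]; simp
      rw [pow_eq_pow_iff_modEq, hgo, ← ZMod.natCast_eq_natCast_iff] at h'
      push_cast at h'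
      have kk : ∀ a : ZMod 11, a ≠ 0 → a ^ 10 = 1 := fun a ha => ZMod.pow_card_sub_one_eq_one ha
      have ha : (k : ZMod 11) ≠ 0 := fun h => by rw [h, zero_pow (by norm_num)] at h'; exact zero_ne_one h'
      rw [show 88 = 10 * 8 + 8 by rfl, pow_add, pow_mul, kk _ ha, one_pow, one_mul] at h'
      exact zmod_eleven_eight _ h'
    rw [hPg]
    refine Subgroup.mem_centralizer_iff.2 fun v hv => ?_
    obtain ⟨m, rfl⟩ := Subgroup.mem_zpowers_iff.1 hv
    rcases hkpm with hk1 | hk1
    · have h := hkz 1 (by rw [pow_one, hk1])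
      rw [pow_one] at h
      exact (h.zpow_right m).eq.symm
    · exfalso
      set y := x ^ 11 with hy
      have hy8 : y ^ 8 = 1 := by rw [hy, ← pow_mul]; exact hx88
      have hy2g : Commute (y ^ 2) (g : H) := by
        rw [hy, ← pow_mul]; exact hkz _ (by rw [hk1]; exact Even.neg_one_pow (by decide))
      have hyinv : y * (g : H) * y⁻¹ = (g : H)⁻¹ := by
        rw [hy, hit]
        refine eq_inv_of_mul_eq_one_left ?_
        rw [← pow_succ, ← orderOf_dvd_iff_pow_eq_one, hgo, ← ZMod.natCast_eq_zero_iff]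
        push_cast
        rw [hk1, Odd.neg_one_pow (by decide), neg_add_cancel]
      have hy4 : y ^ 4 = 1 := hnoinv _ (by rw [← pow_mul]; exact hy8)
        (by rw [show y ^ 4 = (y ^ 2) ^ 2 from pow_mul y 2 2]; exact hy2g.pow_left 2)
      have hy2 : y ^ 2 = 1 := hnoinv _ (by rw [← pow_mul]; exact hy4) hy2g
      exact hnoflip y hy2 hyinv
  haveI : (P : Subgroup H).FiniteIndex := Subgroup.finiteIndex_of_finite
  have hcompl := MonoidHom.ker_transferSylow_isComplement' P hcent
  set τ := MonoidHom.transferSylow P hcent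
  have htop : (⊤ : Subgroup H) ≤ τ.ker := by
    rw [← hd.gen, pElementClosure]
    refine (Subgroup.closure_le _).2 ?_
    rintro y ⟨-, k, hk⟩
    refine MonoidHom.mem_ker.2 (orderOf_eq_one_iff.1 (Nat.dvd_one.1 ?_))
    have d1 : orderOf (τ y) ∣ 3 ^ k := hk ▸ orderOf_map_dvd τ y
    have d2 : orderOf (τ y) ∣ 11 := (_root_.orderOf_dvd_natCard (τ y)).trans (dvd_of_eq hP)
    have hcop : Nat.Coprime (3 ^ k) 11 := Nat.Coprime.pow_left k (by norm_num)
    exact hcop ▸ Nat.dvd_gcd d1 d2
  have h := hcompl.card_mul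
  rw [top_le_iff.1 htop, Subgroup.card_top, hP, hH] at h
  have : μ ≠ 0 := by rintro rfl; simp at hμ
  omega

end AMod

end CfsgLib.SylowLie.SpFour
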