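import Cfsg.Agent.Lib.SylowLie.SpFour.OddA
import Cfsg.Agent.Lib.SylowLie.SpFour.ThreeNine
import Cfsg.Agent.Lib.SylowLie.SpFour.Lines

/-!
# The abelian subgroup `A` is not essential, odd characteristic

Its automizer yields a module configuration of type `A`; these do not exist, apart from nine
elements, where an extra symmetry is needed.
-/

set_option autoImplicit false
set_option linter.style.haveILetI false
set_option maxHeartbeats 1600000

open Subgroup
open scoped Classical Pointwise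

namespace CfsgLib.SylowLie.SpFour

open CfsgLib.Fusion
open Cfsg (FusionSystem autInducedBy pElementClosure)
open Cfsg.FusionSystem (normalizerIn centralizerIn)

theorem isStronglyPEmbedded_map_equiv {G G' : Type*} [Group G] [Group G'] [Finite G] [Finite G']
    {p : ℕ} [Fact p.Prime] (e : G ≃* G') {E : Subgroup G} (hX : Cfsg.IsStronglyPEmbedded p E) :
    Cfsg.IsStronglyPEmbedded p (E.map e.toMonoidHom) := by
  obtain ⟨hNF, hpE, hEtop, -⟩ := CfsgLib.LS.stronglyPEmbedded_data hX
  refine (CfsgLib.PEmb.isStronglyPEmbedded_iff ?_ ?_).2 ?_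
  · intro h
    exact hEtop (Subgroup.map_injective (f := e.toMonoidHom) e.injective
      (h.trans (Subgroup.map_top_of_surjective _ e.surjective).symm))
  · rwa [← Nat.card_congr (E.equivMapOfInjective e.toMonoidHom e.injective).toEquiv]
  · intro A hAE hA hA1 g hg
    obtain ⟨g, rfl⟩ := e.surjective g
    refine ⟨g, hNF (A.comap e.toMonoidHom) (fun a ha => ?_) (hA.comap_of_injective _ e.injective)
      (fun h => hA1 ?_) ?_, rfl⟩
    · obtain ⟨b, hb, hbe⟩ := hAE ha
      exact e.injective hbe ▸ hb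
    · rw [← Subgroup.map_comap_eq_self_of_surjective (f := e.toMonoidHom) e.surjective A, h,
        Subgroup.map_bot]
    · refine Subgroup.mem_normalizer_iff.2 fun a => ?_
      simpa [Subgroup.mem_comap] using Subgroup.mem_normalizer_iff.1 hg (e a)

theorem mem_pElementClosure_of_top {X : Type*} [Group X] {p : ℕ} {G : Subgroup X} {x : G}
    (hx : x ∈ pElementClosure p (⊤ : Subgroup G)) : (x : X) ∈ pElementClosure p G := by
  have h : pElementClosure p (⊤ : Subgroup G) ≤ (pElementClosure p G).comap G.subtype := by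
    refine (Subgroup.closure_le _).2 ?_
    rintro y ⟨-, k, hk⟩
    exact Subgroup.subset_closure ⟨y.2, k, by rw [Subgroup.coe_subtype, Subgroup.orderOf_coe, hk]⟩
  exact h hx

theorem pElementClosure_top_eq_top {G : Type*} [Group G] {p : ℕ} :
    pElementClosure p (⊤ : Subgroup (pElementClosure p (⊤ : Subgroup G))) = ⊤ := by
  refine top_unique fun x _ => ?_
  have h1 : pElementClosure p (⊤ : Subgroup G) ≤
      (pElementClosure p (⊤ : Subgroup (pElementClosure p (⊤ : Subgroup G)))).map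
        (pElementClosure p (⊤ : Subgroup G)).subtype := by
    refine (Subgroup.closure_le _).2 ?_
    rintro y ⟨-, k, hk⟩
    have hy : y ∈ pElementClosure p (⊤ : Subgroup G) :=
      Subgroup.subset_closure ⟨Subgroup.mem_top _, k, hk⟩
    exact ⟨⟨y, hy⟩, Subgroup.subset_closure ⟨Subgroup.mem_top _, k,
      by rw [Subgroup.orderOf_mk]; exact hk⟩, rfl⟩
  obtain ⟨y, hy, hye⟩ := h1 x.2
  exact (show y = x from Subtype.ext hye) ▸ hy

variable {Ω : Type*} [Group Ω] {S : Subgroup Ω} [Finite S] {F : FusionSystem S} {p : ℕ}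
  [Fact p.Prime] {K : Type*} [Field K] [CharP K p] (c : Coord S K)

/-- An automorphism of `S` with multiplier a square root of `-1` on `A / D`, centralizing the
centre. -/
def HasAutI (F : FusionSystem S) (c : Coord S K) : Prop :=
  ∃ M ∈ F.autGroup S, ∃ cc : K, cc * cc = -1 ∧
    (∀ x ∈ c.grpA, c.u (autFun M x) = cc * c.u x) ∧ ∀ z ∈ centralizerIn S S, autFun M z = z

include c in
theorem not_essential_grpA (hS : IsPGroup p S) (hF : F.IsSaturated p) (hp : p ≠ 2)
    (hQZ : F.core ≤ centralizerIn S S) (hQ : F.core ≠ ⊥)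
    (hsym : p = 3 → Nat.card K = 9 → HasAutI F c) : ¬ F.IsEssential p c.grpA := by
  intro hE
  obtain ⟨hc, hn, hnI, E, hX⟩ := id hE
  haveI := finite_field c
  haveI : Fintype K := Fintype.ofFinite K
  set A := c.grpA with hA
  have hAS : A ≤ S := c.grpA_le
  have h2 : (2 : K) ≠ 0 := two_ne_zero_of_ne hp
  haveI := finite_of_le hAS
  haveI := finite_mulAut (P := A)
  haveI := hnI
  let L : Layer F A (K × K × K) :=
    { f := fun x => (c.u x, c.v x, c.w x)
      f_mul := fun {x y} hx hy => by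
        refine Prod.ext (c.u_mul hx.1 hy.1) (Prod.ext ?_ ?_)
        · show c.v (x * y) = c.v x + c.v y
          rw [c.v_mul hx.1 hy.1, hx.2]; ring
        · show c.w (x * y) = c.w x + c.w y
          rw [c.w_mul hx.1 hy.1, hx.2]; ring
      surj := fun ⟨a, b, d⟩ => by
        obtain ⟨x, hx, e1, e2, e3, e4⟩ := c.surj 0 a b d
        exact ⟨x, ⟨hx, e1⟩, by rw [e2, e3, e4]⟩
      inv := fun α _ x hx h => by
        simp only [Prod.mk_eq_zero] at h ⊢
        have : x = 1 := (c.eq_one_iff hx.1).2 ⟨hx.2, h.1, h.2.1, h.2.2⟩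
        subst this
        rw [autFun_map_one, c.u_one, c.v_one, c.w_one]
        simp }
  have hfinj : ∀ x ∈ A, ∀ y ∈ A, L.f x = L.f y → x = y := fun x hx y hy h => by
    simp only [L, Prod.mk.injEq] at h
    exact c.ext hx.1 hy.1 (hx.2.trans hy.2.symm) h.1 h.2.1 h.2.2
  set Gp := pElementClosure p (⊤ : Subgroup (F.autGroup A)) with hGp
  letI act : DistribMulAction Gp (K × K × K) :=
    { smul := fun h x => L.toEnd (h : F.autGroup A) x
      one_smul := fun x => L.toEnd_one x
      mul_smul := fun g h x => L.toEnd_mul (g : F.autGroup A) (h : F.autGroup A) x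
      smul_zero := fun h => by
        have e := L.toEnd_add (h : F.autGroup A) 0 0
        rw [add_zero] at e
        exact left_eq_add.1 e
      smul_add := fun h x y => L.toEnd_add _ x y }
  have hsmul : ∀ (h : Gp) {x : Ω}, x ∈ A →
      h • L.f x = L.f (autFun ((h : F.autGroup A) : MulAut A) x) := fun h x hx => L.toEnd_f _ hx
  -- the Sylow subgroup
  obtain ⟨R₀, hR₀⟩ := (IsSaturated.automized_receptive hS hF hn).1.2
  have hR₀K : (R₀ : Subgroup (F.autGroup A)) ≤ Gp :=
    CfsgLib.LS.Amal.isPGroup_le_pElementClosure R₀.2 le_top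
  set R : Sylow p Gp := R₀.subtype hR₀K with hR
  have hmemR : ∀ {h : Gp}, h ∈ (R : Subgroup Gp) ↔
      ((h : F.autGroup A) : MulAut A) ∈ autInducedBy S A := fun {h} => by
    rw [hR, Sylow.coe_subtype, Subgroup.mem_subgroupOf, hR₀, Subgroup.mem_subgroupOf]
  have hnA : ∀ s ∈ S, s ∈ Subgroup.normalizer (A : Set Ω) := fun s hs =>
    (c.le_normalizerIn_of_grpD_le hAS c.grpD_le_grpA hs).2
  have hconj : ∀ s ∈ S, ∀ x ∈ A, L.f (s * x * s⁻¹) =
      (c.u x, c.v x + c.t s * c.u x, c.w x + 2 * c.t s * c.v x + c.t s ^ 2 * c.u x) := by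
    intro s hs x hx
    simp only [L]
    rw [c.u_conj hs hx.1, c.v_conj hs hx.1, c.w_conj hs hx.1, hx.2]
    refine Prod.ext rfl (Prod.ext ?_ ?_) <;> simp only <;> ring
  have hR_of : ∀ {h : Gp} {s : Ω}, s ∈ S →
      (∀ x ∈ A, autFun ((h : F.autGroup A) : MulAut A) x = s * x * s⁻¹) → ∀ u v w : K,
      h • ((u, v, w) : K × K × K) = (u, v + c.t s * u, w + 2 * c.t s * v + c.t s ^ 2 * u) := by
    intro h s hs he u v w
    obtain ⟨x, hx, xe⟩ := L.surj (u, v, w)
    rw [← xe, hsmul h hx, he x hx, hconj s hs x hx]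
    simp only [L, Prod.mk.injEq] at xe
    rw [xe.1, xe.2.1, xe.2.2]
  -- the embedded subgroup
  have hI : (Cfsg.Inn A).subgroupOf (F.autGroup A) = ⊥ := by
    refine (Subgroup.eq_bot_iff_forall _).2 fun α hα => ?_
    obtain ⟨b, hb⟩ : (α : MulAut A) ∈ Cfsg.Inn A := hα
    refine Subtype.ext (autFun_ext fun x hx => ?_)
    rw [← hb, autFun_apply _ hx, Subgroup.coe_one, autFun_one hx]
    show (b : Ω) * x * (b : Ω)⁻¹ = x
    rw [(c.commute_grpA b.2 hx).eq, mul_inv_cancel_right]
  let eG : (F.autGroup A ⧸ (Cfsg.Inn A).subgroupOf (F.autGroup A)) ≃* F.autGroup A :=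
    (QuotientGroup.quotientMulEquivOfEq hI).trans QuotientGroup.quotientBot
  have hX' := (Cfsg.Agent.S2776.result _ (isStronglyPEmbedded_map_equiv eG hX)).2.1
  -- fixed vectors
  obtain ⟨q, hq, hq1⟩ := exists_ne_one_core hQ
  have hqA : q ∈ A := c.center_le_grpA (hQZ hq)
  obtain ⟨hqS, qt, qu, qv⟩ := c.mem_center.1 (hQZ hq)
  have qv' : c.v q = 0 := (mul_eq_zero.1 qv).resolve_left h2
  have qw : c.w q ≠ 0 := fun h => hq1 ((c.eq_one_iff hqS).2 ⟨qt, qu, qv', h⟩)
  have hqf : L.f q = (0, 0, c.w q) := by simp [L, qu, qv']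
  have hfix : ∀ h : Gp, h • ((0, 0, c.w q) : K × K × K) = (0, 0, c.w q) := fun h => by
    rw [← hqf, hsmul h hqA, fix_core hS hF hQZ hn (mem_pElementClosure_of_top h.2) hqA hq]
  have hd : AMod (K := K) R ((E.map eG.toMonoidHom).subgroupOf Gp) :=
    { faith := fun h hh => Subtype.ext (Subtype.ext (autFun_ext fun x hx => hfinj _ (autFun_mem _ hx)
        _ (autFun_mem _ hx) (by
          rw [← hsmul h hx, hh]
          show L.f x = L.f (autFun (1 : MulAut A) x)
          rw [autFun_one hx])))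
      mem_R := fun h hh => by
        obtain ⟨s, hs, he⟩ := mem_autInducedBy_iff.1 (hmemR.1 hh)
        exact ⟨c.t s, hR_of hs he⟩
      surj_R := fun t => by
        obtain ⟨s, hs, st, -⟩ := c.surj t 0 0 0
        set κ := conjAut s (hnA s hs)
        have hκ : κ ∈ autInducedBy S A := conjAut_mem hs _
        have hκR : (⟨κ, autInducedBy_le_autGroup hAS hκ⟩ : F.autGroup A) ∈
            (R₀ : Subgroup (F.autGroup A)) := by rw [hR₀]; exact hκ
        refine ⟨⟨_, hR₀K hκR⟩, hmemR.2 hκ, fun u v w => ?_⟩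
        rw [← st]
        exact hR_of hs (fun x hx => autFun_conjAut _ hx) u v w
      gen := pElementClosure_top_eq_top
      emb := hX'
      fix := ⟨c.w q, qw, hfix⟩ }
  obtain ⟨n, -, hn'⟩ := FiniteField.card K p
  have hp3 : 3 ≤ p := lt_of_le_of_ne (Fact.out : p.Prime).two_le (Ne.symm hp)
  have hn1 : 1 ≤ (n : ℕ) := n.2
  by_cases hbig : 4 < (n : ℕ) * (p - 1)
  · exact hd.false_of_large h2 hn' hbig
  rcases eq_or_lt_of_le hn1 with h1 | h1
  · -- the prime field
    have hcast : Function.Surjective (ZMod.castHom dvd_rfl K : ZMod p →+* K) :=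
      ((Fintype.bijective_iff_injective_and_card _).2
        ⟨(ZMod.castHom dvd_rfl K).injective, by rw [ZMod.card, hn', ← h1, pow_one]⟩).2
    obtain ⟨w1, hw1⟩ := hd.exists_not_fixed h2
    obtain ⟨a, ha⟩ := hcast (w1 / c.w q)
    refine hw1 fun h => ?_
    have e : ((0, 0, w1) : K × K × K) = a.val • ((0, 0, c.w q) : K × K × K) := by
      rw [ZMod.castHom_apply, ← ZMod.natCast_val] at ha
      refine Prod.ext (by simp) (Prod.ext (by simp) ?_)
      simp only [Prod.smul_snd]
      rw [nsmul_eq_mul, ha]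
      exact (div_mul_cancel₀ _ qw).symm
    rw [e, smul_comm h, hfix]
  -- nine elements
  have hn2 : (n : ℕ) = 2 := by
    by_contra hne
    have := Nat.mul_le_mul_left (n : ℕ) (show 2 ≤ p - 1 by omega)
    omega
  have hp3' : p = 3 := by
    by_contra hne
    have hp5 : 5 ≤ p := by
      have h4 : p ≠ 4 := fun h => by subst h; exact absurd (Fact.out : (4 : ℕ).Prime) (by norm_num)
      omega
    rw [hn2] at hbig
    omega
  subst hp3'
  have hq9 : Fintype.card K = 9 := by rw [hn', hn2]; rfl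
  refine hd.false_of_nine hq9 ?_
  obtain ⟨M, hM, cc, hcc, hMu, hMz⟩ := hsym rfl (by rw [Nat.card_eq_fintype_card, hq9])
  have hMA : ∀ x ∈ A, autFun M x ∈ A := fun x hx => autFun_grpA c h2 M hx
  have hm := ((mem_autGroup_iff le_rfl).1 hM).mono hAS
  have himg : img A (autFun M) = A := img_eq_of_map_le hAS hm le_rfl hMA
  set N : F.autGroup A := ⟨autOf hm himg, autOf_mem hm himg⟩ with hN
  have hNe : ∀ x ∈ A, autFun (N : MulAut A) x = autFun M x := fun x hx => autFun_autOf hm himg hx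
  refine ⟨⟨⟨fun x => L.toEnd N x, ?_⟩, fun x y => L.toEnd_add N x y⟩, cc, hcc, ?_, ?_, ?_, ?_, ?_⟩
  · have e := L.toEnd_add N 0 0
    rw [add_zero] at e
    exact left_eq_add.1 e
  · intro x y h
    have h' : L.toEnd N x = L.toEnd N y := h
    have h'' := congrArg (L.toEnd N⁻¹) h'
    rwa [← L.toEnd_mul, ← L.toEnd_mul, inv_mul_cancel, L.toEnd_one, L.toEnd_one] at h''
  · intro w
    obtain ⟨z, hz, zt, zu, zv, zw⟩ := c.surj 0 0 0 w
    have hzA : z ∈ A := ⟨hz, zt⟩
    have hzZ : z ∈ centralizerIn S S := c.mem_center.2 ⟨hz, zt, zu, by rw [zv, mul_zero]⟩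
    have hzf : L.f z = (0, 0, w) := by simp [L, zu, zv, zw]
    show L.toEnd N (0, 0, w) = (0, 0, w)
    rw [← hzf, L.toEnd_f N hzA, hNe z hzA, hMz z hzZ]
  · intro x
    show (L.toEnd N x).1 = cc * x.1
    conv_rhs => rw [← L.f_pre x]
    show c.u (autFun (N : MulAut A) (L.pre x)) = cc * c.u (L.pre x)
    rw [hNe _ (L.pre_mem x), hMu _ (L.pre_mem x)]
  · intro h x
    haveI : Gp.Normal := by
      refine ⟨fun y hy g => ?_⟩
      exact (Subgroup.mem_normalizer_iff.1
        (CfsgLib.LS.Amal.le_normalizer_pElementClosure (p := 3) (⊤ : Subgroup (F.autGroup A))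
          (Subgroup.mem_top g)) y).1 hy
    refine ⟨⟨N * (h : F.autGroup A) * N⁻¹, Subgroup.Normal.conj_mem inferInstance _ h.2 N⟩, ?_⟩
    show L.toEnd N (L.toEnd _ x) = L.toEnd (N * (h : F.autGroup A) * N⁻¹) (L.toEnd N x)
    rw [← L.toEnd_mul, ← L.toEnd_mul, inv_mul_cancel_right]
  · intro r hr
    obtain ⟨s, hs, he⟩ := mem_autInducedBy_iff.1 (hmemR.1 hr)
    set s' := autFun M⁻¹ s with hs'
    have hs'S : s' ∈ S := autFun_mem _ hs
    have hκ : conjAut s' (hnA s' hs'S) ∈ autInducedBy S A := conjAut_mem hs'S _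
    have hκR : (⟨_, autInducedBy_le_autGroup hAS hκ⟩ : F.autGroup A) ∈
        (R₀ : Subgroup (F.autGroup A)) := by rw [hR₀]; exact hκ
    refine ⟨⟨_, hR₀K hκR⟩, hmemR.2 hκ, fun x => ?_⟩
    show L.toEnd N (L.toEnd _ x) = L.toEnd _ (L.toEnd N x)
    rw [← L.toEnd_mul, ← L.toEnd_mul]
    congr 1
    refine Subtype.ext (autFun_ext fun y hy => ?_)
    simp only [Subgroup.coe_mul]
    rw [autFun_mul _ _ hy, autFun_mul _ _ hy, autFun_conjAut _ hy,
      hNe _ ((Subgroup.mem_normalizer_iff.1 (hnA s' hs'S) _).1 hy),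
      he _ (autFun_mem _ hy), hNe y hy, autFun_map_conj M hs'S hy.1, hs',
      autFun_inv_apply M hs]

end CfsgLib.SylowLie.SpFour
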