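import Cfsg.Agent.Lib.SylowLie.SpFour.ThreeSym

/-!
# Odd characteristic: a non-realizable system is core free
-/

set_option autoImplicit false
set_option linter.style.haveILetI false

open Subgroup
open scoped Classical

namespace CfsgLib.SylowLie.SpFour

open CfsgLib.Fusion
open Cfsg (FusionSystem autInducedBy pElementClosure)
open Cfsg.FusionSystem (normalizerIn centralizerIn)

variable {Ω : Type*} [Group Ω] {S : Subgroup Ω} [Finite S] {F : FusionSystem S} {p : ℕ}
  [Fact p.Prime] {K : Type*} [Field K] [CharP K p] (c : Coord S K)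

/-- An invariant subgroup inside all essential subgroups lies in the core. -/
theorem le_core_of_invariant (hS : IsPGroup p S) (hF : F.IsSaturated p) {Q : Subgroup Ω} (hQ : Q ≤ S)
    (hS' : ∀ φ ∈ F.autGroup S, ∀ x ∈ Q, autFun φ x ∈ Q)
    (hE : ∀ P, F.IsEssential p P → Q ≤ P ∧ ∀ φ ∈ F.autGroup P, ∀ x ∈ Q, autFun φ x ∈ Q) :
    Q ≤ F.core := by
  refine le_core (isNormal_of_invariant hS hF hQ fun P hP => ?_)
  rcases hP with rfl | hP
  · exact ⟨hQ, fun α hα => img_eq_of_map_le hQ ((mem_autGroup_iff le_rfl).1 hα) hQ (hS' α hα)⟩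
  · obtain ⟨h1, h2⟩ := hE P hP
    exact ⟨h1, fun α hα => img_eq_of_map_le hQ ((mem_autGroup_iff hP.1.1).1 hα) h1 (h2 α hα)⟩

include c in
theorem core_eq_bot_odd (hS : IsPGroup p S) (hF : F.IsSaturated p) (hp : p ≠ 2)
    (hR : ¬ F.IsRealizable p) : F.core = ⊥ := by
  by_contra hQ
  have hQZ : F.core ≤ centralizerIn S S := (realizable_or_core_le c hS hF).resolve_left hR
  have h2 : (2 : K) ≠ 0 := two_ne_zero_of_ne hp
  -- lines
  have hline : ∀ l, F.IsEssential p (c.line l) → ∃ M ∈ F.autGroup S, IsInv c M ∧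
      (∀ x ∈ S, c.u (autFun M x) = c.u x - 2 * l * c.t x) ∧ (p = 3 → l = 0) ∧
      ∀ α ∈ F.autGroup (c.line l), ∀ z ∈ centralizerIn S S, autFun α z ∈ centralizerIn S S := by
    intro l hl
    rcases essential_odd c hS hF hp hQZ hQ hl with h | ⟨m, hm, h3, hinv⟩
    · obtain ⟨x, hx, xt, xu, -⟩ := c.surj 1 (l * 1) 0 0
      have : x ∈ c.grpA := h ▸ (⟨hx, by rw [xu, xt]⟩ : x ∈ c.line l)
      exact absurd (xt.symm.trans this.2) one_ne_zero
    · have hlm : l = m := by
        obtain ⟨x, hx, xt, xu, -⟩ := c.surj 1 (l * 1) 0 0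
        have : x ∈ c.line m := hm ▸ (⟨hx, by rw [xu, xt]⟩ : x ∈ c.line l)
        have e := this.2
        rw [xt, xu, mul_one, mul_one] at e
        exact e
      subst hlm
      obtain ⟨M, hM, iM, uM⟩ := exists_inv c hS hF hp hl h3 hinv
      exact ⟨M, hM, iM, uM, h3, hinv⟩
  by_cases hA : F.IsEssential p c.grpA
  · refine not_essential_grpA c hS hF hp hQZ hQ (fun h3 h9 => ?_) hA
    subst h3
    by_cases hB : ∃ l, F.IsEssential 3 (c.line l)
    · obtain ⟨l, hl⟩ := hB
      obtain ⟨-, -, -, -, h3, hinv⟩ := hline l hl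
      obtain rfl := h3 rfl
      exact hasAutI c hS hF hQZ hQ hl hinv h9
    exfalso
    have hle : c.grpA ≤ F.core := by
      refine le_core_of_invariant hS hF c.grpA_le (fun φ _ x hx => autFun_grpA c h2 φ hx)
        fun P hP => ?_
      rcases essential_odd c hS hF hp hQZ hQ hP with rfl | ⟨l, rfl, -, -⟩
      · exact ⟨le_rfl, fun φ _ x hx => autFun_mem φ hx⟩
      · exact absurd ⟨l, hP⟩ hB
    obtain ⟨x, hx, xt, xu, -⟩ := c.surj 0 1 0 0
    exact one_ne_zero (xu.symm.trans (c.mem_center.1 (hQZ (hle ⟨hx, xt⟩))).2.2.1)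
  have hess : ∀ P, F.IsEssential p P → ∃ l, P = c.line l := fun P hP => by
    rcases essential_odd c hS hF hp hQZ hQ hP with rfl | ⟨l, rfl, -, -⟩
    · exact absurd hP hA
    · exact ⟨l, rfl⟩
  obtain ⟨x, hx, xt, xu, -⟩ := c.surj 1 0 0 0
  by_cases hB : ∃ l, F.IsEssential p (c.line l)
  · obtain ⟨l, hl⟩ := hB
    obtain ⟨M, hM, iM, uM, -⟩ := hline l hl
    have hle : c.line l ≤ F.core := by
      refine le_core_of_invariant hS hF (c.line_le l)
        (fun φ hφ x hx => line_invariant c hS hF hp hM hφ iM uM hx) fun P hP => ?_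
      obtain ⟨m, rfl⟩ := hess P hP
      obtain ⟨N, hN, iN, uN, -⟩ := hline m hP
      obtain rfl := line_unique c hS hF hp hM hN iM iN uM uN
      exact ⟨le_rfl, fun φ _ x hx => autFun_mem φ hx⟩
    obtain ⟨y, hy, yt, yu, -⟩ := c.surj 1 l 0 0
    exact one_ne_zero (yt.symm.trans (c.mem_center.1 (hQZ (hle ⟨hy, by rw [yt, yu, mul_one]⟩))).2.1)
  · have hle : S ≤ F.core := by
      refine le_core_of_invariant hS hF le_rfl (fun φ _ x hx => autFun_mem φ hx) fun P hP => ?_
      obtain ⟨l, rfl⟩ := hess P hP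
      exact absurd ⟨l, hP⟩ hB
    exact one_ne_zero (xt.symm.trans (c.mem_center.1 (hQZ (hle hx))).2.1)

end CfsgLib.SylowLie.SpFour
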