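import Cfsg.Agent.Lib.SylowLie.SpFour.OddA

/-!
# Trivial intersection and stabilisers in the module of type `A`, characteristic three
-/

set_option autoImplicit false
set_option linter.style.haveILetI false
set_option linter.unusedSectionVars false

open Subgroup
open scoped Classical Pointwise

namespace CfsgLib.SylowLie.SpFour

open Cfsg (pElementClosure)

variable [Fact (Nat.Prime 3)] {K : Type*} [Field K] [Fintype K] [CharP K 3] {H : Type*} [Group H]
  [Finite H] [DistribMulAction H (K × K × K)]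

theorem three_eq_zero : (3 : K) = 0 := by exact_mod_cast CharP.cast_eq_zero K 3

theorem two_ne_zero_three : (2 : K) ≠ 0 := two_ne_zero_char (by norm_num : (3 : ℕ) ≠ 2)
where
  two_ne_zero_char (hp : (3 : ℕ) ≠ 2) : (2 : K) ≠ 0 := Ring.two_ne_zero (by rwa [ringChar.eq K 3])

theorem three_nsmul_eq_zero (a : K × K × K) : a + a + a = 0 := by
  have h3 := three_eq_zero (K := K)
  obtain ⟨x, y, z⟩ := a
  simp only [Prod.mk_add_mk, Prod.mk_eq_zero]
  exact ⟨by linear_combination x * h3, by linear_combination y * h3, by linear_combination z * h3⟩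

/-- A cube of an element trivial on a three step series is trivial. -/
theorem cube_smul {g : H} {x : K × K × K}
    (h : g • (g • (g • x - x) - (g • x - x)) = g • (g • x - x) - (g • x - x)) : g ^ 3 • x = x := by
  set a := g • x - x with ha
  set b := g • a - a with hb
  have e1 : g • x = x + a := by rw [ha, add_sub_cancel]
  have e2 : g • a = a + b := by rw [hb, add_sub_cancel]
  rw [show g ^ 3 = g * (g * g) by rw [pow_three], mul_smul, mul_smul, e1, smul_add, e1, e2, smul_add, smul_add,
    smul_add, e1, e2, h]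
  calc x + a + (a + b) + (a + b + b) = x + (a + a + a) + (b + b + b) := by abel
    _ = x := by rw [three_nsmul_eq_zero, three_nsmul_eq_zero, add_zero, add_zero]

namespace AMod

variable {R : Sylow 3 H} {X : Subgroup H} (hd : AMod (K := K) R X)

include hd

/-- An element moving every vector by a fixed vector is trivial. -/
theorem eq_one_of_mod_fixed {k : H} (hk : ∀ (x : K × K × K) (h : H), h • (k • x - x) = k • x - x) :
    k = 1 := by
  let U : Subgroup H :=
    { carrier := {k | ∀ (x : K × K × K) (h : H), h • (k • x - x) = k • x - x}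
      one_mem' := fun x h => by simp
      mul_mem' := fun {a b} ha hb x h => by
        rw [show (a * b) • x - x = (a • (b • x) - b • x) + (b • x - x) by rw [mul_smul]; abel,
          smul_add, ha, hb]
      inv_mem' := fun {a} ha x h => by
        have e := ha (a⁻¹ • x) h
        rw [smul_inv_smul] at e
        rw [show a⁻¹ • x - x = -(x - a⁻¹ • x) by abel, smul_neg, e] }
  have hUn : U.Normal := ⟨fun a ha g x h => by
    have e := ha (g⁻¹ • x) (h * g)
    have e' := ha (g⁻¹ • x) g
    have hx : (g * a * g⁻¹) • x - x = g • (a • (g⁻¹ • x) - g⁻¹ • x) := by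
      rw [smul_sub, smul_inv_smul, mul_smul, mul_smul]
    rw [hx, ← mul_smul, e, e']⟩
  have hUp : IsPGroup 3 U := fun a => ⟨1, Subtype.ext (hd.faith _ fun x => by
    rw [pow_one, Subgroup.coe_pow]
    refine cube_smul ?_
    have e := a.2 x (a : H)
    rw [e, sub_self, smul_zero])⟩
  obtain ⟨t, ht⟩ := hd.exists_par
    (CfsgLib.Coprime.pCore_le_sylow R (CfsgLib.Coprime.le_pCore (hN := hUn) hUp (show k ∈ U from hk)))
  have e := hk (1, 0, 0) (hd.par 1)
  have hd1 : k • ((1, 0, 0) : K × K × K) - (1, 0, 0) = (0, t, t ^ 2) := by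
    rw [ht, hd.par_smul]; simp
  rw [hd1] at e
  have ht0 : t = 0 := (hd.mem_Z_of_fix two_ne_zero_three one_ne_zero e).2
  refine hd.faith _ ?_
  rintro ⟨u, v, w⟩
  rw [ht, hd.par_smul, ht0]
  simp

/-- A `3`-element normalising `R` lies in it. -/
theorem mem_R_of_normalizer {g : H} (hg : g ∈ Subgroup.normalizer ((R : Subgroup H) : Set H)) {k : ℕ}
    (hk : g ^ 3 ^ k = 1) : g ∈ (R : Subgroup H) := by
  have hz : IsPGroup 3 (Subgroup.zpowers g) := by
    obtain ⟨j, -, hj⟩ := (Nat.dvd_prime_pow Fact.out).1 (orderOf_dvd_of_pow_eq_one hk)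
    exact IsPGroup.of_card (n := j) (by rw [Nat.card_zpowers, hj])
  have hle : Subgroup.zpowers g ≤ Subgroup.normalizer ((R : Subgroup H) : Set H) :=
    Subgroup.zpowers_le.2 hg
  have hsup := hz.to_sup_of_normal_right' R.2 hle
  rw [← R.3 hsup le_sup_right]
  exact Subgroup.mem_sup_left (Subgroup.mem_zpowers g)

/-- An element of the normaliser acting trivially on the parameters lies in `R`. -/
theorem mem_R_of_trivial {n : H} (hn : n ∈ Subgroup.normalizer ((R : Subgroup H) : Set H))
    (h1 : ∀ x : K × K × K, (n • x).1 = x.1)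
    (h2 : ∀ x : K × K × K, x.1 = 0 → (n • x).2.1 = x.2.1)
    (h3 : ∀ w : K, n • ((0, 0, w) : K × K × K) = (0, 0, w)) : n ∈ (R : Subgroup H) := by
  refine hd.mem_R_of_normalizer hn (k := 1) (hd.faith _ fun x => ?_)
  rw [pow_one]
  refine cube_smul ?_
  set a := n • x - x
  have ha : a.1 = 0 := by simp [a, h1]
  have hb : n • a - a = (0, 0, (n • a - a).2.2) :=
    Prod.ext (by simp [h1]) (Prod.ext (by simp [h2 a ha]) rfl)
  rw [hb, h3]

/-- The centraliser of a nontrivial element of `R` normalises `R`. -/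
theorem centralizer_le_normalizer {t : K} (ht : t ≠ 0) {g : H} (hg : Commute g (hd.par t)) :
    g ∈ Subgroup.normalizer ((R : Subgroup H) : Set H) := by
  set C := Subgroup.centralizer ({hd.par t} : Set H)
  have hC : ∀ {c : H}, c ∈ C ↔ Commute c (hd.par t) := fun {c} => by
    rw [Subgroup.mem_centralizer_singleton_iff]; rfl
  have hZ : ∀ c ∈ C, ∀ w : K,
      (c • ((0, 0, w) : K × K × K)).1 = 0 ∧ (c • ((0, 0, w) : K × K × K)).2.1 = 0 := by
    intro c hc w
    have e : hd.par t • (c • ((0, 0, w) : K × K × K)) = c • ((0, 0, w) : K × K × K) := by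
      rw [← mul_smul, ← (hC.1 hc).eq, mul_smul, hd.fix_Z (hd.par_mem t)]
    generalize c • ((0, 0, w) : K × K × K) = y at e ⊢
    obtain ⟨u, v, w'⟩ := y
    exact hd.mem_Z_of_fix two_ne_zero_three ht e
  have hD : ∀ c ∈ C, ∀ x : K × K × K, x.1 = 0 → (c • x).1 = 0 := by
    rintro c hc ⟨u, v, w⟩ hu
    simp only at hu
    subst hu
    have e : hd.par t • ((0, v, w) : K × K × K) - (0, v, w) = (0, 0, 2 * t * v) := by
      rw [hd.par_smul]; simp
    have e2 := congrArg (fun y => (c • y).2.1) e
    simp only [smul_sub, (hZ c hc _).2] at e2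
    rw [← mul_smul, (hC.1 hc).eq, mul_smul] at e2
    generalize hy : c • ((0, v, w) : K × K × K) = y at e2 ⊢
    obtain ⟨u', v', w'⟩ := y
    rw [hd.par_smul] at e2
    simp at e2
    exact e2.resolve_left ht
  let U : Subgroup C :=
    { carrier := {c | (∀ x : K × K × K, ((c : H) • x).1 = x.1) ∧
        (∀ x : K × K × K, x.1 = 0 → ((c : H) • x).2.1 = x.2.1) ∧
        ∀ w : K, (c : H) • ((0, 0, w) : K × K × K) = (0, 0, w)}
      one_mem' := ⟨fun x => by simp, fun x _ => by simp, fun w => by simp⟩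
      mul_mem' := fun {a b} ha hb => ⟨fun x => by rw [Subgroup.coe_mul, mul_smul, ha.1, hb.1],
        fun x hx => by rw [Subgroup.coe_mul, mul_smul, ha.2.1 _ (by rw [hb.1, hx]), hb.2.1 x hx],
        fun w => by rw [Subgroup.coe_mul, mul_smul, hb.2.2, ha.2.2]⟩
      inv_mem' := fun {a} ha => by
        refine ⟨fun x => ?_, fun x hx => ?_, fun w => ?_⟩
        · have h := ha.1 ((a : H)⁻¹ • x)
          rw [smul_inv_smul] at h
          exact h.symm
        · have h1 := ha.1 ((a : H)⁻¹ • x)
          rw [smul_inv_smul] at h1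
          have h := ha.2.1 ((a : H)⁻¹ • x) (h1.symm.trans hx)
          rw [smul_inv_smul] at h
          exact h.symm
        · exact inv_smul_eq_iff.2 (ha.2.2 w).symm }
  have hUn : U.Normal := by
    refine ⟨fun a ha c => ⟨fun x => ?_, fun x hx => ?_, fun w => ?_⟩⟩
    · simp only [Subgroup.coe_mul, Subgroup.coe_inv, mul_smul]
      set y := (c : H)⁻¹ • x
      have hx : x = (c : H) • y := (smul_inv_smul _ _).symm
      rw [hx, ← sub_eq_zero, ← Prod.fst_sub, ← smul_sub]
      exact hD _ c.2 _ (by rw [Prod.fst_sub, ha.1, sub_self])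
    · simp only [Subgroup.coe_mul, Subgroup.coe_inv, mul_smul]
      set y := (c : H)⁻¹ • x with hy
      have hy1 : y.1 = 0 := hD _ (inv_mem c.2) x hx
      have hx' : x = (c : H) • y := (smul_inv_smul _ _).symm
      rw [hx', ← sub_eq_zero, ← Prod.fst_sub, ← Prod.snd_sub, ← smul_sub]
      have e : (a : H) • y - y = (0, 0, ((a : H) • y - y).2.2) :=
        Prod.ext (by simp [ha.1]) (Prod.ext (by simp [ha.2.1 y hy1]) rfl)
      rw [e]
      exact (hZ _ c.2 _).2
    · simp only [Subgroup.coe_mul, Subgroup.coe_inv, mul_smul]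
      have e : (c : H)⁻¹ • ((0, 0, w) : K × K × K) =
          (0, 0, ((c : H)⁻¹ • ((0, 0, w) : K × K × K)).2.2) :=
        Prod.ext (hZ _ (inv_mem c.2) w).1 (Prod.ext (hZ _ (inv_mem c.2) w).2 rfl)
      rw [e, ha.2.2, ← e, smul_inv_smul]
  have hUp : IsPGroup 3 U := fun a => ⟨1, Subtype.ext (Subtype.ext (hd.faith _ fun x => by
    simp only [pow_one, Subgroup.coe_pow]
    refine cube_smul ?_
    set b := ((a : C) : H) • x - x
    have hb1 : b.1 = 0 := by simp [b, a.2.1]
    have hc : ((a : C) : H) • b - b = (0, 0, (((a : C) : H) • b - b).2.2) :=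
      Prod.ext (by simp [a.2.1]) (Prod.ext (by simp [a.2.2.1 b hb1]) rfl)
    rw [hc, a.2.2.2]))⟩
  have hRC : (R : Subgroup H) ≤ C := fun r hr => hC.2 (hd.R_comm hr (hd.par_mem t))
  have hRU : (R : Subgroup H).subgroupOf C ≤ U := by
    intro r hr
    obtain ⟨s, hs⟩ := hd.exists_par (Subgroup.mem_subgroupOf.1 hr)
    refine ⟨?_, ?_, ?_⟩
    · rintro ⟨u, v, w⟩; rw [hs, hd.par_smul]
    · rintro ⟨u, v, w⟩ hu
      simp only at hu
      subst hu
      rw [hs, hd.par_smul]; simp
    · exact fun w => hd.fix_Z (Subgroup.mem_subgroupOf.1 hr) w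
  have hUR : U = (R : Subgroup H).subgroupOf C := (R.subtype hRC).3 hUp hRU
  haveI hn' : ((R : Subgroup H).subgroupOf C).Normal := hUR ▸ hUn
  exact (Subgroup.normal_subgroupOf_iff_le_normalizer hRC).1 hn' (hC.2 hg)

/-- The pointwise stabiliser of the fixed line normalises `R`. -/
theorem fixer_le_normalizer {g : H} (hg : ∀ w : K, g • ((0, 0, w) : K × K × K) = (0, 0, w)) :
    g ∈ Subgroup.normalizer ((R : Subgroup H) : Set H) := by
  by_contra hgN
  let CZ : Subgroup H :=
    { carrier := {g | ∀ w : K, g • ((0, 0, w) : K × K × K) = (0, 0, w)}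
      one_mem' := fun w => one_smul _ _
      mul_mem' := fun {a b} ha hb w => by rw [mul_smul, hb, ha]
      inv_mem' := fun {a} ha w => inv_smul_eq_iff.2 (ha w).symm }
  set H' := pElementClosure 3 CZ with hH'
  have hle : H' ≤ CZ := CfsgLib.LS.Amal.pElementClosure_le _
  have hRCZ : (R : Subgroup H) ≤ CZ := fun r hr w => hd.fix_Z hr w
  have hRH : (R : Subgroup H) ≤ H' := CfsgLib.LS.Amal.isPGroup_le_pElementClosure R.2 hRCZ
  set R' : Sylow 3 H' := R.subtype hRH
  set X' := Subgroup.normalizer ((R' : Subgroup H') : Set H') with hX'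
  have hR' : ∀ {x : H'}, x ∈ (R' : Subgroup H') ↔ (x : H) ∈ (R : Subgroup H) := fun {x} => by
    rw [Sylow.coe_subtype, Subgroup.mem_subgroupOf]
  have hXN : ∀ {x : H'}, x ∈ X' ↔ (x : H) ∈ Subgroup.normalizer ((R : Subgroup H) : Set H) := by
    intro x
    constructor
    · intro hx
      refine Subgroup.mem_normalizer_iff.2 fun r => ⟨fun hr => ?_, fun hr => ?_⟩
      · exact hR'.1 ((Subgroup.mem_normalizer_iff.1 hx ⟨r, hRH hr⟩).1 (hR'.2 hr))
      · have hr' : r ∈ H' := by
          have := mul_mem (mul_mem (inv_mem x.2) (hRH hr)) x.2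
          simpa [mul_assoc] using this
        exact hR'.1 ((Subgroup.mem_normalizer_iff.1 hx ⟨r, hr'⟩).2 (hR'.2 hr))
    · intro hx
      exact Subgroup.mem_normalizer_iff.2 fun r => by
        rw [hR', hR']; exact Subgroup.mem_normalizer_iff.1 hx (r : H)
  have hXtop : X' ≠ ⊤ := fun h => hgN (Subgroup.mem_normalizer_iff.2 fun r => by
    -- conjugates of `R` under `CZ` lie in `H'`
    have key : ∀ c ∈ CZ, ∀ r ∈ (R : Subgroup H), c * r * c⁻¹ ∈ (R : Subgroup H) := by
      intro c hc r hr
      obtain ⟨k, hk⟩ := R.2 ⟨r, hr⟩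
      have hk' : r ^ 3 ^ k = 1 := congrArg Subtype.val hk
      have hmem : c * r * c⁻¹ ∈ H' :=
        (Subgroup.mem_normalizer_iff.1 (CfsgLib.LS.Amal.le_normalizer_pElementClosure (p := 3) CZ hc) r).1
          (hRH hr)
      exact hd.mem_R_of_normalizer (hXN.1 (h ▸ Subgroup.mem_top (⟨_, hmem⟩ : H')))
        (k := k) (by rw [conj_pow, hk', mul_one, mul_inv_cancel])
    refine ⟨key g hg r, fun hr => ?_⟩
    have := key g⁻¹ (CZ.inv_mem hg) _ hr
    simpa [mul_assoc] using this)
  have hXp : 3 ∣ Nat.card X' := by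
    have h1 : (3 : ℕ) ∣ Nat.card (R : Subgroup H) :=
      R.dvd_card_of_dvd_card hd.emb.1
    rw [← Nat.card_congr (Subgroup.subgroupOfEquivOfLe hRH).toEquiv] at h1
    exact h1.trans (Subgroup.card_dvd_of_le (show (R' : Subgroup H') ≤ X' from Subgroup.le_normalizer))
  have hd' : AMod (K := K) R' X' :=
    { faith := fun h hh => Subtype.ext (hd.faith h hh)
      mem_R := fun h hh => hd.mem_R h (hR'.1 hh)
      surj_R := fun t => ⟨⟨hd.par t, hRH (hd.par_mem t)⟩, hR'.2 (hd.par_mem t), hd.par_smul t⟩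
      gen := by
        refine top_unique fun x _ => ?_
        have h1 : H' ≤ (pElementClosure 3 (⊤ : Subgroup H')).map H'.subtype := by
          rw [hH', pElementClosure]
          refine (Subgroup.closure_le _).2 ?_
          rintro y ⟨hy, k, hk⟩
          exact ⟨⟨y, Subgroup.subset_closure ⟨hy, k, hk⟩⟩, Subgroup.subset_closure
            ⟨Subgroup.mem_top _, k, (Subgroup.orderOf_mk _ _).trans hk⟩, rfl⟩
        obtain ⟨y, hy, hye⟩ := h1 x.2
        exact (show y = x from Subtype.ext hye) ▸ hy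
      emb := by
        refine (CfsgLib.PEmb.isStronglyPEmbedded_iff hXtop hXp).2 fun A hA hAp hA1 x hx => ?_
        refine hXN.2 ?_
        have hAR : ∀ a ∈ A, (a : H) ∈ (R : Subgroup H) := fun a ha => by
          obtain ⟨k, hk⟩ := hAp ⟨a, ha⟩
          refine hd.mem_R_of_normalizer (hXN.1 (hA ha)) (k := k) ?_
          exact congrArg (fun y : A => ((y : H') : H)) hk
        obtain ⟨⟨a, ha⟩, ha1⟩ := A.ne_bot_iff_exists_ne_one.1 hA1
        have key : ∀ y ∈ Subgroup.normalizer (A : Set H'), ∀ r ∈ (R : Subgroup H),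
            (y : H) * r * (y : H)⁻¹ ∈ (R : Subgroup H) := by
          intro y hy r hr
          have hb : y⁻¹ * a * y ∈ A := (Subgroup.mem_normalizer_iff''.1 hy a).1 ha
          obtain ⟨t, ht⟩ := hd.exists_par (hAR a ha)
          have ht0 : t ≠ 0 := by
            rintro rfl
            refine ha1 (Subtype.ext (Subtype.ext ?_))
            show (a : H) = 1
            rw [ht]
            have h0 := hd.par_mul 0 0
            rw [add_zero] at h0
            exact mul_eq_left.1 h0
          have hc : Commute ((y : H) * r * (y : H)⁻¹) (a : H) := by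
            have e := hd.R_comm hr (hAR _ hb)
            simp only [Subgroup.coe_mul, Subgroup.coe_inv] at e
            show (y : H) * r * (y : H)⁻¹ * a = a * ((y : H) * r * (y : H)⁻¹)
            calc (y : H) * r * (y : H)⁻¹ * a
                = (y : H) * (r * ((y : H)⁻¹ * a * y)) * (y : H)⁻¹ := by group
              _ = a * ((y : H) * r * (y : H)⁻¹) := by rw [e]; group
          rw [ht] at hc
          obtain ⟨k, hk⟩ := R.2 ⟨r, hr⟩
          exact hd.mem_R_of_normalizer (hd.centralizer_le_normalizer ht0 hc) (k := k)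
            (by rw [conj_pow, show r ^ 3 ^ k = 1 from congrArg Subtype.val hk, mul_one, mul_inv_cancel])
        refine Subgroup.mem_normalizer_iff.2 fun r => ⟨key x hx r, fun hr => ?_⟩
        have := key x⁻¹ (inv_mem hx) _ hr
        simpa [mul_assoc] using this
      fix := by
        obtain ⟨w, hw, hf⟩ := hd.fix
        exact ⟨w, hw, fun h => hf h⟩ }
  obtain ⟨w, hw⟩ := hd'.exists_not_fixed two_ne_zero_three
  exact hw fun h => hle h.2 w

end AMod

end CfsgLib.SylowLie.SpFour
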