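import Cfsg.Agent.Lib.SylowLie.SpFour.OddEssential

/-!
# The extra symmetry over nine elements

Automorphisms of `S` are semilinear on the layers; a torus element of the automizer of the
essential line extends to `S` and gives the symmetry of `A`.
-/

set_option autoImplicit false
set_option linter.style.haveILetI false
set_option maxHeartbeats 1600000

open Subgroup Matrix
open scoped Classical

namespace CfsgLib.SylowLie.SpFour

open CfsgLib.Fusion
open Cfsg (FusionSystem autInducedBy pElementClosure)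
open Cfsg.FusionSystem (normalizerIn centralizerIn)

local notation "SL2(" F ")" => Matrix.SpecialLinearGroup (Fin 2) F

/-- A diagonalisable element scaling a given vector, and a bound on the fixers of that vector. -/
theorem exists_scaler {F : Type*} [Field F] [Finite F] {v : Fin 2 → F} (hv : v ≠ 0) {ε : F}
    (hε : ε ≠ 0) (h4 : ε ^ 4 = -1) :
    (∃ D : SL2(F), D.1.mulVec v = ε • v ∧ D ^ 4 = -1) ∧
      Nat.card {g : SL2(F) // g.1.mulVec v = v} ≤ Nat.card F := by
  obtain ⟨w, hw⟩ : ∃ w : Fin 2 → F, v 0 * w 1 - w 0 * v 1 = 1 := by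
    by_cases h : v 0 = 0
    · have h1 : v 1 ≠ 0 := fun h1 => hv (by ext i; fin_cases i <;> simp [h, h1])
      exact ⟨![-(v 1)⁻¹, 0], by simp [h1]⟩
    · exact ⟨![0, (v 0)⁻¹], by simp [h]⟩
  let P : SL2(F) := ⟨!![v 0, w 0; v 1, w 1], by rw [Matrix.det_fin_two]; simpa using hw⟩
  have hP : P.1.mulVec ![1, 0] = v := by
    ext i
    fin_cases i <;> simp [P, Matrix.mulVec, dotProduct, Fin.sum_univ_two]
  have hPi : (P⁻¹).1.mulVec v = ![1, 0] := by
    conv_lhs => rw [← hP]
    rw [Matrix.mulVec_mulVec, ← Matrix.SpecialLinearGroup.coe_mul, inv_mul_cancel,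
      Matrix.SpecialLinearGroup.coe_one, Matrix.one_mulVec]
  let d : SL2(F) := ⟨!![ε, 0; 0, ε⁻¹], by rw [Matrix.det_fin_two]; simp [hε]⟩
  have hd : d.1.mulVec ![1, 0] = ε • ![1, 0] := by
    ext i
    fin_cases i <;> simp [d, Matrix.mulVec, dotProduct, Fin.sum_univ_two]
  refine ⟨⟨P * d * P⁻¹, ?_, ?_⟩, ?_⟩
  · rw [Matrix.SpecialLinearGroup.coe_mul, Matrix.SpecialLinearGroup.coe_mul, ← Matrix.mulVec_mulVec,
      ← Matrix.mulVec_mulVec, hPi, hd, Matrix.mulVec_smul, hP]
  · have h' : d ^ 4 = -1 := by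
      refine Subtype.ext ?_
      rw [Matrix.SpecialLinearGroup.coe_pow, Matrix.SpecialLinearGroup.coe_neg,
        Matrix.SpecialLinearGroup.coe_one]
      have h4' : ε⁻¹ ^ 4 = -1 := by rw [inv_pow, h4]; norm_num
      ext i j
      fin_cases i <;> fin_cases j <;>
        simp [d, pow_succ, Matrix.mul_apply, Fin.sum_univ_two] <;>
        first
          | linear_combination h4
          | linear_combination h4'
    rw [conj_pow, h', mul_neg_one, neg_mul, mul_inv_cancel]
  · refine Nat.card_le_card_of_injective (fun g => (P⁻¹ * g.1 * P).1 0 1) fun g g' hgg => ?_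
    simp only at hgg
    have key : ∀ g : {g : SL2(F) // g.1.mulVec v = v},
        (P⁻¹ * g.1 * P).1 = !![1, (P⁻¹ * g.1 * P).1 0 1; 0, 1] := by
      intro g
      have h1 : (P⁻¹ * g.1 * P).1.mulVec ![1, 0] = ![1, 0] := by
        rw [Matrix.SpecialLinearGroup.coe_mul, Matrix.SpecialLinearGroup.coe_mul,
          ← Matrix.mulVec_mulVec, hP, ← Matrix.mulVec_mulVec, g.2, hPi]
      have a := congrFun h1 0
      have b := congrFun h1 1
      have hdet := (P⁻¹ * g.1 * P).2
      rw [Matrix.det_fin_two] at hdet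
      generalize (P⁻¹ * g.1 * P).1 = m at a b hdet ⊢
      simp [Matrix.mulVec, dotProduct, Fin.sum_univ_two] at a b
      rw [a, b] at hdet
      ext i j
      fin_cases i <;> fin_cases j <;> simp [a, b]
      simpa using hdet
    have h : P⁻¹ * g.1 * P = P⁻¹ * g'.1 * P := Subtype.ext (by rw [key g, key g', hgg])
    exact Subtype.ext (mul_left_cancel (mul_right_cancel h))

variable {Ω : Type*} [Group Ω] {S : Subgroup Ω} [Finite S] {K : Type*} [Field K] (c : Coord S K)

include c in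
/-- Automorphisms of `S` are semilinear on the layers. -/
theorem semilinear (h2 : (2 : K) ≠ 0) (M : MulAut S) :
    ∃ (σ : K →+* K) (a g : K), a ≠ 0 ∧ g ≠ 0 ∧
      (∀ x ∈ S, c.t (autFun M x) = a * σ (c.t x)) ∧
      (∀ x ∈ c.grpA, c.u (autFun M x) = g * σ (c.u x)) ∧
      ∀ z ∈ centralizerIn S S, c.w (autFun M z) = a ^ 2 * g * σ (c.w z) := by
  choose T hT using fun t : K => c.surj t 0 0 0
  choose U hU using fun u : K => c.surj 0 u 0 0
  choose V hV using fun v : K => c.surj 0 0 v 0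
  choose W hW using fun w : K => c.surj 0 0 0 w
  have hTA : ∀ u, U u ∈ c.grpA := fun u => ⟨(hU u).1, (hU u).2.1⟩
  have hVD : ∀ v, V v ∈ c.grpD := fun v => ⟨(hV v).1, (hV v).2.1, (hV v).2.2.1⟩
  have hZ : ∀ {z}, z ∈ centralizerIn S S → autFun M z ∈ centralizerIn S S := fun {z} hz =>
    ⟨autFun_mem M hz.1, Subgroup.mem_centralizer_iff.2 fun y hy => (autFun_central M hz.1
      (fun w hw => Subgroup.mem_centralizer_iff.1 hz.2 w hw) hy).eq⟩
  set τ : K → K := fun t => c.t (autFun M (T t)) with hτ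
  set μ : K → K := fun u => c.u (autFun M (U u)) with hμ
  set β : K → K := fun v => c.v (autFun M (V v)) with hβ
  set δ : K → K := fun w => c.w (autFun M (W w)) with hδ
  have htS : ∀ x ∈ S, c.t (autFun M x) = τ (c.t x) := by
    intro x hx
    obtain ⟨hS', ht, -⟩ := hT (c.t x)
    have ha : (T (c.t x))⁻¹ * x ∈ c.grpA := ⟨S.mul_mem (S.inv_mem hS') hx,
      by rw [c.t_mul (S.inv_mem hS') hx, c.t_inv hS', ht, neg_add_cancel]⟩
    conv_lhs => rw [show x = T (c.t x) * ((T (c.t x))⁻¹ * x) by rw [mul_inv_cancel_left]]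
    rw [autFun_map_mul M hS' ha.1, c.t_mul (autFun_mem M hS') (autFun_mem M ha.1),
      (autFun_grpA c h2 M ha).2, add_zero]
  have huA : ∀ x ∈ c.grpA, c.u (autFun M x) = μ (c.u x) := by
    intro x hx
    obtain ⟨hS', ht, hu, -⟩ := hU (c.u x)
    have ha : (U (c.u x))⁻¹ * x ∈ c.grpD := ⟨S.mul_mem (S.inv_mem hS') hx.1,
      by rw [c.t_mul (S.inv_mem hS') hx.1, c.t_inv hS', ht, hx.2, neg_zero, add_zero],
      by rw [c.u_mul (S.inv_mem hS') hx.1, c.u_inv hS', hu, neg_add_cancel]⟩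
    conv_lhs => rw [show x = U (c.u x) * ((U (c.u x))⁻¹ * x) by rw [mul_inv_cancel_left]]
    rw [autFun_map_mul M hS' ha.1, c.u_mul (autFun_mem M hS') (autFun_mem M ha.1),
      (autFun_grpD c h2 M ha).2.2, add_zero]
  have hvD : ∀ x ∈ c.grpD, c.v (autFun M x) = β (c.v x) := by
    intro x hx
    obtain ⟨hS', ht, hu, hv, -⟩ := hV (c.v x)
    have ha : (V (c.v x))⁻¹ * x ∈ centralizerIn S S := c.mem_center.2 ⟨S.mul_mem (S.inv_mem hS') hx.1,
      by rw [c.t_mul (S.inv_mem hS') hx.1, c.t_inv hS', ht, hx.2.1, neg_zero, add_zero],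
      by rw [c.u_mul (S.inv_mem hS') hx.1, c.u_inv hS', hu, hx.2.2, neg_zero, add_zero],
      by rw [c.v_mul (S.inv_mem hS') hx.1, c.v_inv hS', c.t_inv hS', hv, ht, hu]; ring⟩
    conv_lhs => rw [show x = V (c.v x) * ((V (c.v x))⁻¹ * x) by rw [mul_inv_cancel_left]]
    rw [autFun_map_mul M hS' ha.1, c.v_mul (autFun_mem M hS') (autFun_mem M ha.1),
      (mul_eq_zero.1 (c.mem_center.1 (hZ ha)).2.2.2).resolve_left h2,
      (c.mem_center.1 (hZ ha)).2.2.1]
    simp [hβ]
  have hwZ : ∀ z ∈ centralizerIn S S, c.w (autFun M z) = δ (c.w z) := by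
    intro z hz
    obtain ⟨hS', ht, hu, hv, hw⟩ := hW (c.w z)
    obtain ⟨hzS, zt, zu, zv⟩ := c.mem_center.1 hz
    have : z = W (c.w z) := c.ext hzS hS' (zt.trans ht.symm) (zu.trans hu.symm)
      (((mul_eq_zero.1 zv).resolve_left h2).trans hv.symm) hw.symm
    conv_lhs => rw [this]
  have hcomm : ∀ {s x}, s ∈ S → x ∈ S → autFun M (x⁻¹ * (s * x * s⁻¹)) =
      (autFun M x)⁻¹ * (autFun M s * autFun M x * (autFun M s)⁻¹) := by
    intro s x hs hx
    rw [autFun_map_mul M (S.inv_mem hx) (c.conj_mem hs hx), autFun_map_conj M hs hx]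
    congr 1
    exact eq_inv_of_mul_eq_one_left (by
      rw [← autFun_map_mul M (S.inv_mem hx) hx, inv_mul_cancel, autFun_map_one])
  have r1 : ∀ t u, β (t * u) = τ t * μ u := by
    intro t u
    obtain ⟨hs, st, su, -⟩ := hT t
    obtain ⟨hx, xt, xu, -⟩ := hU u
    have hd := c.comm_mem_grpD hs hx
    have e := hvD _ hd
    rw [(c.comm_coords hs hx).2.2, st, xu, xt, zero_mul, sub_zero, hcomm hs hx,
      (c.comm_coords (autFun_mem M hs) (autFun_mem M hx)).2.2, htS _ hs, htS _ hx, st, xt,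
      huA _ ⟨hx, xt⟩, xu] at e
    have h0 : τ 0 = 0 := by
      rw [← c.t_one, ← htS 1 S.one_mem, autFun_map_one]
    rw [h0, zero_mul, sub_zero] at e
    exact e.symm
  have r2 : ∀ t v, δ (2 * t * v) = 2 * τ t * β v := by
    intro t v
    obtain ⟨hs, st, su, -⟩ := hT t
    obtain ⟨hx, xt, xu, xv, xw⟩ := hV v
    have hd := c.comm_mem_center hs hx (by rw [xu, xt]; ring)
    have hMx := autFun_grpD c h2 M (hVD v)
    have hMs := autFun_mem M hs
    have e := hwZ _ hd
    rw [hcomm hs hx, c.w_mul (S.inv_mem hMx.1) (c.conj_mem hMs hMx.1), c.t_inv hMx.1,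
      c.w_inv hMx.1, c.w_conj hMs hMx.1, hMx.2.1, hMx.2.2,
      c.w_mul (S.inv_mem hx) (c.conj_mem hs hx), c.t_inv hx, c.w_inv hx, c.w_conj hs hx, xt, xu, xv,
      xw, htS _ hs, hvD _ (hVD v), st, xv] at e
    ring_nf at e ⊢
    exact e.symm
  have ha : τ 1 ≠ 0 := fun h0 => by
    obtain ⟨hs, st, -⟩ := hT 1
    have h' := autFun_grpA c h2 M⁻¹ (x := autFun M (T 1)) ⟨autFun_mem M hs, h0⟩
    rw [autFun_apply_inv M hs] at h'
    exact one_ne_zero (st.symm.trans h'.2)
  have hg : μ 1 ≠ 0 := fun h0 => by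
    obtain ⟨hs, st, su, -⟩ := hU 1
    have h' := autFun_grpD c h2 M⁻¹ (d := autFun M (U 1))
      ⟨autFun_mem M hs, (autFun_grpA c h2 M (hTA 1)).2, h0⟩
    rw [autFun_apply_inv M hs] at h'
    exact one_ne_zero (su.symm.trans h'.2.2)
  have hadd : ∀ s t, τ (s + t) = τ s + τ t := by
    intro s t
    obtain ⟨hs, st, -⟩ := hT s
    obtain ⟨hx, xt, -⟩ := hT t
    rw [← st, ← xt, ← htS _ hs, ← htS _ hx, ← c.t_mul hs hx, ← htS _ (S.mul_mem hs hx),
      autFun_map_mul M hs hx, c.t_mul (autFun_mem M hs) (autFun_mem M hx)]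
  set a := τ 1
  set g := μ 1
  have hμτ : ∀ u, μ u = τ u * g / a := fun u => by
    rw [eq_div_iff ha, mul_comm]
    have h1 := r1 1 u
    have h2' := r1 u 1
    rw [one_mul] at h1
    rw [mul_one] at h2'
    rw [← h1, h2']
  have hmul : ∀ t u, τ (t * u) = τ t * τ u / a := fun t u => by
    have h := r1 t u
    have h' := r1 (t * u) 1
    rw [mul_one, h, hμτ] at h'
    refine mul_right_cancel₀ hg ?_
    rw [← h']
    ring
  let σ : K →+* K :=
    { toFun := fun s => τ s / a
      map_one' := div_self ha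
      map_zero' := by
        have h := hadd 0 0
        rw [add_zero] at h
        rw [add_eq_left.1 h.symm, zero_div]
      map_add' := fun s t => by rw [hadd, add_div]
      map_mul' := fun s t => by rw [hmul]; field_simp }
  have hτσ : ∀ s, τ s = a * σ s := fun s => by
    show τ s = a * (τ s / a); field_simp
  refine ⟨σ, a, g, ha, hg, fun x hx => by rw [htS x hx, hτσ], fun x hx => ?_, fun z hz => ?_⟩
  · rw [huA x hx, hμτ, hτσ]; field_simp
  · rw [hwZ z hz]
    have h := r2 (c.w z / 2) 1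
    rw [show 2 * (c.w z / 2) * 1 = c.w z by field_simp] at h
    have h1 : β 1 = a * g := by
      have := r1 1 1
      rwa [one_mul] at this
    rw [h, h1, hτσ, map_div₀, map_ofNat]
    field_simp

variable {F : FusionSystem S} [Fact (Nat.Prime 3)] [CharP K 3]

include c in
theorem hasAutI (hS : IsPGroup 3 S) (hF : F.IsSaturated 3)
    (hQZ : F.core ≤ centralizerIn S S) (hQ : F.core ≠ ⊥) (hE : F.IsEssential 3 (c.line 0))
    (hinv : ∀ α ∈ F.autGroup (c.line 0), ∀ z ∈ centralizerIn S S,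
      autFun α z ∈ centralizerIn S S) (hq : Nat.card K = 9) : HasAutI F c := by
  haveI := finite_field c
  haveI : Fintype K := Fintype.ofFinite K
  set P := c.line 0 with hP
  have hPS : P ≤ S := c.line_le 0
  have h2 : (2 : K) ≠ 0 := two_ne_zero_three
  have hn := hE.2.1
  haveI := finite_of_le hPS
  haveI := finite_mulAut (P := P)
  obtain ⟨L, hLf, hfconj, hker, Fk, iFk, iFkf, hcard, ψ, hψ, hcl, hlift⟩ :=
    exists_line_natural c hS hF (by norm_num : (3 : ℕ) ≠ 2) hE hinv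
  rw [hq] at hcard
  haveI : CharP Fk 3 := charP_of_card_eq_prime_pow (f := 2) (by
    rw [hcard]; rfl)
  -- an element of order eight
  obtain ⟨ε, hε0, hε4⟩ : ∃ ε : Fk, ε ≠ 0 ∧ ε ^ 4 = -1 := by
    obtain ⟨ε, hε⟩ := IsCyclic.exists_ofOrder_eq_natCard (α := Fkˣ)
    rw [Nat.card_units, Nat.card_eq_fintype_card, hcard] at hε
    refine ⟨ε, ε.ne_zero, ?_⟩
    have h8 : ((ε : Fk) ^ 4) * (ε : Fk) ^ 4 = 1 := by
      rw [← pow_add, ← Units.val_pow_eq_pow_val]
      norm_num
      rw [← Units.val_pow_eq_pow_val, show (8 : ℕ) = orderOf ε from hε.symm, pow_orderOf_eq_one,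
        Units.val_one]
    rcases mul_self_eq_one_iff.1 h8 with h | h
    · exfalso
      have : ε ^ 4 = 1 := Units.ext (by rw [Units.val_pow_eq_pow_val, Units.val_one]; exact h)
      have := orderOf_dvd_of_pow_eq_one this
      rw [hε] at this
      norm_num at this
    · exact h
  set v1 := ψ (0, 1) with hv1
  have hv0 : v1 ≠ 0 := fun h => one_ne_zero (α := K)
    (congrArg Prod.snd (hψ.1 (h.trans ψ.map_zero.symm)))
  obtain ⟨⟨D, hDv, hD4⟩, hfixcard⟩ := exists_scaler hv0 hε0 hε4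
  have hnS : ∀ s ∈ S, s ∈ Subgroup.normalizer (P : Set Ω) := fun s hs =>
    (c.le_normalizerIn_of_grpD_le hPS (c.grpD_le_line 0) hs).2
  have hκK : ∀ s (hs : s ∈ S), conjAut s (hnS s hs) ∈ pElementClosure 3 (F.autGroup P) := fun s hs =>
    CfsgLib.LS.Amal.isPGroup_le_pElementClosure (isPGroup_autInducedBy hS)
      (autInducedBy_le_autGroup hPS) (conjAut_mem hs _)
  choose gs hgs using fun s (hs : s ∈ S) => hcl _ (hκK s hs)
  have hgs' : ∀ s (hs : s ∈ S), ∀ x ∈ P,
      ψ (L.f (s * x * s⁻¹)) = (gs s hs).1.mulVec (ψ (L.f x)) := fun s hs x hx => by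
    rw [← hgs s hs x hx, autFun_conjAut _ hx]
  obtain ⟨d, hdS, dt, du, dv, -⟩ := c.surj 0 0 1 0
  have hdP : d ∈ P := ⟨hdS, by rw [du, dt, mul_zero]⟩
  have hdf : L.f d = (0, 1) := by rw [hLf, dt, dv]; simp
  have hgv : ∀ s (hs : s ∈ S), (gs s hs).1.mulVec v1 = v1 := fun s hs => by
    rw [hv1, ← hdf, ← hgs' s hs d hdP, hfconj s hs d hdP, dt]; simp [Prod.mk_zero_zero]
  -- every fixer is induced
  choose U hU using fun u : K => c.surj 0 u 0 0
  have hsurj : ∀ g : SL2(Fk), g.1.mulVec v1 = v1 → ∃ u, gs (U u) (hU u).1 = g := by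
    intro g hg
    have hinj : Function.Injective fun u : K =>
        (⟨gs (U u) (hU u).1, hgv _ _⟩ : {g : SL2(Fk) // g.1.mulVec v1 = v1}) := by
      intro u u' h
      have h' : gs (U u) (hU u).1 = gs (U u') (hU u').1 := congrArg Subtype.val h
      obtain ⟨x, hx, xt, xu, -⟩ := c.surj 1 0 0 0
      have hxP : x ∈ P := ⟨hx, by rw [xu, zero_mul]⟩
      have e := (hgs' (U u) (hU u).1 x hxP).trans
        ((congrArg (fun m : SL2(Fk) => m.1.mulVec (ψ (L.f x))) h').trans
          (hgs' (U u') (hU u').1 x hxP).symm)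
      have e' := hψ.1 e
      rw [hfconj _ (hU u).1 x hxP, hfconj _ (hU u').1 x hxP, add_right_inj, xt, (hU u).2.2.1,
        (hU u').2.2.1] at e'
      simpa using congrArg Prod.snd e'
    obtain ⟨u, hu⟩ := ((Nat.bijective_iff_injective_and_card _).2 ⟨hinj,
      le_antisymm (Nat.card_le_card_of_injective _ hinj) (hfixcard.trans (by
        rw [Nat.card_eq_fintype_card, hcard, hq]))⟩).2 ⟨g, hg⟩
    exact ⟨u, congrArg Subtype.val hu⟩
  obtain ⟨α, hαK, hα⟩ := hlift D
  have hαA : α ∈ F.autGroup P := CfsgLib.LS.Amal.pElementClosure_le _ hαK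
  -- extend to `S`
  have hext : S ≤ extSub S P (autFun α) := by
    intro s hs
    have hg : (D * gs s hs * D⁻¹).1.mulVec v1 = v1 := by
      have h1 : (D⁻¹).1.mulVec v1 = ε⁻¹ • v1 := by
        have e : (D⁻¹).1.mulVec (D.1.mulVec v1) = v1 := by
          rw [Matrix.mulVec_mulVec, ← Matrix.SpecialLinearGroup.coe_mul, inv_mul_cancel,
            Matrix.SpecialLinearGroup.coe_one, Matrix.one_mulVec]
        rw [hDv, Matrix.mulVec_smul] at e
        rw [← e, smul_smul, inv_mul_cancel₀ hε0, one_smul, e]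
      rw [Matrix.SpecialLinearGroup.coe_mul, Matrix.SpecialLinearGroup.coe_mul,
        ← Matrix.mulVec_mulVec, ← Matrix.mulVec_mulVec, h1, Matrix.mulVec_smul, hgv,
        Matrix.mulVec_smul, hDv, smul_smul, inv_mul_cancel₀ hε0, one_smul]
    obtain ⟨u, hu⟩ := hsurj _ hg
    set r := U u with hr
    have hrS : r ∈ S := (hU u).1
    set γ : MulAut P := (conjAut r (hnS r hrS) * α)⁻¹ * (α * conjAut s (hnS s hs)) with hγ
    have hγA : γ ∈ F.autGroup P := mul_mem (inv_mem (mul_mem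
      (autInducedBy_le_autGroup hPS (conjAut_mem hrS _)) hαA))
      (mul_mem hαA (autInducedBy_le_autGroup hPS (conjAut_mem hs _)))
    have htriv : γ ∈ Cfsg.Inn P := by
      refine hker γ hγA fun x hx => ?_
      obtain ⟨β, hβ, hβg⟩ : ∃ β : F.autGroup P, (β : MulAut P) = conjAut r (hnS r hrS) * α ∧
          ∀ x ∈ P, ψ (L.f (autFun (β : MulAut P) x)) =
            (gs r hrS * D).1.mulVec (ψ (L.f x)) := by
        refine ⟨⟨_, mul_mem (autInducedBy_le_autGroup hPS (conjAut_mem hrS _)) hαA⟩, rfl,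
          fun x hx => ?_⟩
        rw [autFun_mul _ _ hx, autFun_conjAut _ (autFun_mem α hx), hgs' r hrS _ (autFun_mem α hx),
          hα x hx, Matrix.mulVec_mulVec, ← Matrix.SpecialLinearGroup.coe_mul]
      have hy := autFun_mem γ hx
      have e : ψ (L.f (autFun (β : MulAut P) (autFun γ x))) =
          (gs r hrS * D).1.mulVec (ψ (L.f x)) := by
        rw [← autFun_mul _ _ hx, hβ, hγ, mul_inv_cancel_left, autFun_mul _ _ hx,
          autFun_conjAut _ hx, hα _ ((Subgroup.mem_normalizer_iff.1 (hnS s hs) _).1 hx),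
          hgs' s hs x hx, Matrix.mulVec_mulVec, ← Matrix.SpecialLinearGroup.coe_mul,
          show gs r hrS = D * gs s hs * D⁻¹ from hu,
          inv_mul_cancel_right]
      rw [hβg _ hy] at e
      have e2 := congrArg (fun v => ((gs r hrS * D)⁻¹).1.mulVec v) e
      simp only [Matrix.mulVec_mulVec, ← Matrix.SpecialLinearGroup.coe_mul, inv_mul_cancel,
        Matrix.SpecialLinearGroup.coe_one, Matrix.one_mulVec] at e2
      exact hψ.1 e2
    obtain ⟨b, hb⟩ := htriv
    refine ⟨⟨hs, hnS s hs⟩, r * autFun α b, S.mul_mem hrS (hPS (autFun_mem α b.2)), fun x hx => ?_⟩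
    have e : autFun (α * conjAut s (hnS s hs)) x =
        autFun (conjAut r (hnS r hrS) * α * MulAut.conj b) x := by
      rw [hb, hγ, mul_inv_cancel_left]
    have hbx : (b : Ω) * x * (b : Ω)⁻¹ ∈ P := mul_mem (mul_mem b.2 hx) (inv_mem b.2)
    rw [autFun_mul _ _ hx, autFun_conjAut _ hx, autFun_mul _ _ hx, autFun_apply _ hx,
      show ((MulAut.conj b ⟨x, hx⟩ : P) : Ω) = (b : Ω) * x * (b : Ω)⁻¹ from rfl,
      autFun_mul _ _ hbx, autFun_conjAut _ (autFun_mem α hbx), autFun_map_conj α b.2 hx] at e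
    rw [e]
    group
  obtain ⟨g, hg, hge⟩ := (isReceptive_iff.1 (IsSaturated.automized_receptive hS hF hn).2).2 P
    (autFun α) ((mem_autGroup_iff hPS).1 hαA) (img_autFun α)
  have hgS := hg.mono hext
  have himg : img S g = S := eq_of_le_of_card_le le_rfl hgS.img_le hgS.card_img.ge
  set M := autOf hgS himg with hMdef
  have hMP : ∀ x ∈ P, autFun M x = autFun α x := fun x hx =>
    (autFun_autOf hgS himg (hPS hx)).trans (hge x hx)
  obtain ⟨σ, a, gg, ha, hgg, l1, l2, l3⟩ := semilinear c h2 M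
  obtain ⟨q, hq', hq1⟩ := exists_ne_one_core hQ
  obtain ⟨hqS, qt, qu, qv⟩ := c.mem_center.1 (hQZ hq')
  have hqP : q ∈ P := c.grpD_le_line 0 (c.center_le_grpD (hQZ hq'))
  have hw : c.w q ≠ 0 := fun h =>
    hq1 ((c.eq_one_iff hqS).2 ⟨qt, qu, (mul_eq_zero.1 qv).resolve_left h2, h⟩)
  have hq2 : a ^ 2 * gg * σ (c.w q) = c.w q := by
    rw [← l3 q (hQZ hq'), hMP q hqP, fix_core hS hF hQZ hn hαK hqP hq']
  -- the fourth power inverts
  obtain ⟨x, hx, xt, xu, -⟩ := c.surj 1 0 0 0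
  have hxP : x ∈ P := ⟨hx, by rw [xu, zero_mul]⟩
  have hα1 : ∀ y ∈ P, c.t (autFun α y) = a * σ (c.t y) := fun y hy => by
    rw [← hMP y hy, l1 y (hPS hy)]
  have h4 : a * σ (a * σ (a * σ (a * σ 1))) = -1 := by
    have m1 := autFun_mem α hxP
    have m2 := autFun_mem α m1
    have m3 := autFun_mem α m2
    have e : ψ (L.f (autFun α (autFun α (autFun α (autFun α x))))) = ψ (-L.f x) := by
      rw [hα _ m3, hα _ m2, hα _ m1, hα _ hxP, Matrix.mulVec_mulVec, Matrix.mulVec_mulVec,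
        Matrix.mulVec_mulVec, ← Matrix.SpecialLinearGroup.coe_mul,
        ← Matrix.SpecialLinearGroup.coe_mul, ← Matrix.SpecialLinearGroup.coe_mul,
        show D * D * D * D = D ^ 4 by simp [pow_succ],
        hD4, Matrix.SpecialLinearGroup.coe_neg, Matrix.SpecialLinearGroup.coe_one,
        Matrix.neg_mulVec, Matrix.one_mulVec, map_neg]
    have e' := congrArg Prod.fst (hψ.1 e)
    rw [hLf, hLf] at e'
    simp only [Prod.fst_neg] at e'
    rwa [hα1 _ m3, hα1 _ m2, hα1 _ m1, hα1 _ hxP, xt] at e'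
  have h8 : a ^ 8 = 1 := by
    have := FiniteField.pow_card_sub_one_eq_one a ha
    rwa [← Nat.card_eq_fintype_card, hq] at this
  rcases ringHom_cases (by rw [← Nat.card_eq_fintype_card, hq]) σ with hσ | hσ
  swap
  · simp only [hσ] at h4
    exfalso
    have e40 : a ^ 40 = (1 : K) := by rw [show 40 = 8 * 5 by rfl, pow_mul, h8, one_pow]
    exact h2 (by linear_combination h4 - e40)
  simp only [hσ, mul_one] at h4 hq2
  have hag : a ^ 2 * gg = 1 := (mul_eq_right₀ hw).1 hq2
  refine ⟨M, autOf_mem hgS himg, gg, ?_, fun y hy => by rw [l2 y hy, hσ], fun z hz => ?_⟩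
  · linear_combination (gg * gg) * h4 - (a ^ 2 * gg + 1) * hag
  · obtain ⟨hzS, zt, zu, zv⟩ := c.mem_center.1 hz
    have hMz : autFun M z ∈ centralizerIn S S := ⟨autFun_mem M hzS,
      Subgroup.mem_centralizer_iff.2 fun y hy => (autFun_central M hzS
        (fun w hw => Subgroup.mem_centralizer_iff.1 hz.2 w hw) hy).eq⟩
    obtain ⟨hMzS, mt, mu, mv⟩ := c.mem_center.1 hMz
    exact c.ext hMzS hzS (mt.trans zt.symm) (mu.trans zu.symm)
      (((mul_eq_zero.1 mv).resolve_left h2).trans ((mul_eq_zero.1 zv).resolve_left h2).symm)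
      (by rw [l3 z hz, hag, hσ, one_mul])

end CfsgLib.SylowLie.SpFour
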