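import Cfsg.Agent.Lib.SylowLie.SpFour.Groups
import Cfsg.Agent.Lib.SylowLie.SpFour.Natural

/-!
# Small tools for automorphisms of subgroups of a coordinatised group
-/

set_option autoImplicit false
set_option linter.style.haveILetI false

open Subgroup
open scoped Classical

namespace CfsgLib.SylowLie.SpFour

open CfsgLib.Fusion
open Cfsg (FusionSystem autInducedBy)
open Cfsg.FusionSystem (normalizerIn centralizerIn)

variable {Ω : Type*} [Group Ω]

section AutFun

variable {P : Subgroup Ω}

theorem autFun_inv_apply (a : MulAut P) {x : Ω} (hx : x ∈ P) :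
    autFun a (autFun a⁻¹ x) = x := by rw [← autFun_mul _ _ hx, mul_inv_cancel, autFun_one hx]

theorem autFun_apply_inv (a : MulAut P) {x : Ω} (hx : x ∈ P) :
    autFun a⁻¹ (autFun a x) = x := by rw [← autFun_mul _ _ hx, inv_mul_cancel, autFun_one hx]

theorem autFun_pow_map (a : MulAut P) {x : Ω} (hx : x ∈ P) (n : ℕ) :
    autFun a (x ^ n) = autFun a x ^ n := by
  induction n with
  | zero => rw [pow_zero, pow_zero, autFun_map_one]
  | succ n ih => rw [pow_succ, pow_succ, autFun_map_mul a (pow_mem hx n) hx, ih]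

theorem autFun_map_conj (a : MulAut P) {x y : Ω} (hx : x ∈ P) (hy : y ∈ P) :
    autFun a (x * y * x⁻¹) = autFun a x * autFun a y * (autFun a x)⁻¹ := by
  rw [autFun_map_mul a (mul_mem hx hy) (inv_mem hx), autFun_map_mul a hx hy]
  congr 1
  refine eq_inv_of_mul_eq_one_left ?_
  rw [← autFun_map_mul a (inv_mem hx) hx, inv_mul_cancel, autFun_map_one]

/-- The centre of `P` is invariant. -/
theorem autFun_central (a : MulAut P) {x : Ω} (hx : x ∈ P) (h : ∀ y ∈ P, Commute y x) {y : Ω}
    (hy : y ∈ P) : Commute y (autFun a x) := by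
  have e := congrArg (autFun a) (h _ (autFun_mem a⁻¹ hy)).eq
  rw [autFun_map_mul a (autFun_mem _ hy) hx, autFun_map_mul a hx (autFun_mem _ hy),
    autFun_inv_apply a hy] at e
  exact e

/-- The number of elements of `P` commuting with an element is invariant. -/
theorem card_commute_autFun (a : MulAut P) {x : Ω} (hx : x ∈ P) :
    Nat.card {y : Ω // y ∈ P ∧ Commute (autFun a x) y} = Nat.card {y : Ω // y ∈ P ∧ Commute x y} := by
  have key : ∀ (b : MulAut P) {x y : Ω}, x ∈ P → y ∈ P → Commute x y →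
      Commute (autFun b x) (autFun b y) := fun b x y hx hy h => by
    show autFun b x * autFun b y = autFun b y * autFun b x
    rw [← autFun_map_mul b hx hy, ← autFun_map_mul b hy hx, h.eq]
  refine Nat.card_congr
    { toFun := fun y => ⟨autFun a⁻¹ y.1, autFun_mem _ y.2.1, ?_⟩
      invFun := fun y => ⟨autFun a y.1, autFun_mem _ y.2.1, key a hx y.2.1 y.2.2⟩
      left_inv := fun y => Subtype.ext (autFun_inv_apply a y.2.1)
      right_inv := fun y => Subtype.ext (autFun_apply_inv a y.2.1) }
  have h := key a⁻¹ (autFun_mem a hx) y.2.1 y.2.2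
  rwa [autFun_apply_inv a hx] at h

end AutFun

/-- The index of the kernel of an additive surjection. -/
theorem relIndex_eq_card {P N : Subgroup Ω} {M : Type*} [AddCommGroup M] (φ : Ω → M)
    (hadd : ∀ x ∈ N, ∀ y ∈ N, φ (x * y) = φ x + φ y) (hsurj : ∀ m, ∃ x ∈ N, φ x = m)
    (hker : ∀ x ∈ N, φ x = 0 ↔ x ∈ P) : P.relIndex N = Nat.card M := by
  let ψ : N →* Multiplicative M := MonoidHom.mk' (fun x => Multiplicative.ofAdd (φ x))
    fun x y => by rw [Subgroup.coe_mul, hadd _ x.2 _ y.2, ofAdd_add]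
  have hψ : Function.Surjective ψ := fun m => by
    obtain ⟨x, hx, e⟩ := hsurj m.toAdd
    exact ⟨⟨x, hx⟩, congrArg Multiplicative.ofAdd e⟩
  have hk : P.subgroupOf N = ψ.ker := by
    ext x
    rw [Subgroup.mem_subgroupOf, MonoidHom.mem_ker]
    exact (hker x x.2).symm.trans ofAdd_eq_one.symm
  rw [Subgroup.relIndex, hk, Subgroup.index_ker, MonoidHom.range_eq_top.2 hψ, Subgroup.card_top]
  exact Nat.card_congr Multiplicative.toAdd

/-- An additive surjection between finite groups of equal order has trivial kernel. -/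
theorem eq_zero_of_card_eq {V W : Type*} [AddCommGroup V] [AddCommGroup W] [Finite V] {ψ : V →+ W}
    (hψ : Function.Surjective ψ) (h : Nat.card V ≤ Nat.card W) {v : V} (hv : ψ v = 0) : v = 0 := by
  have hb := (Nat.bijective_iff_surjective_and_card ψ).2
    ⟨hψ, le_antisymm h (Nat.card_le_card_of_surjective ψ hψ)⟩
  exact hb.1 (hv.trans ψ.map_zero.symm)

variable {S : Subgroup Ω} [Finite S] {K : Type*} [Field K] (c : Coord S K)

include c in
theorem finite_field : Finite K := by
  have : Function.Surjective fun x : S => c.t x := fun a => by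
    obtain ⟨x, hx, h, -⟩ := c.surj a 0 0 0
    exact ⟨⟨x, hx⟩, h⟩
  exact Finite.of_surjective _ this

theorem six_mul_sum_sq (n : ℕ) :
    (6 : K) * ((∑ k ∈ Finset.range n, k ^ 2 : ℕ) : K) = n * ((n : K) - 1) * (2 * (n : K) - 1) := by
  induction n with
  | zero => simp
  | succ n ih => rw [Finset.sum_range_succ]; push_cast at ih ⊢; linear_combination ih

namespace Coord

/-- The coordinates of a power by the characteristic, for odd characteristic. -/
theorem pow_char_eq_one {p : ℕ} [Fact p.Prime] [CharP K p] (hp : p ≠ 2) {x : Ω} (hx : x ∈ S)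
    (h : p = 3 → c.t x * c.u x = 0) : x ^ p = 1 := by
  have h2 : ((p.choose 2 : ℕ) : K) = 0 := (CharP.cast_eq_zero_iff K p _).2
    ((Fact.out : p.Prime).dvd_choose_self two_ne_zero
      (lt_of_le_of_ne (Fact.out : p.Prime).two_le (Ne.symm hp)))
  refine (c.eq_one_iff (pow_mem hx p)).2 ⟨?_, ?_, ?_, ?_⟩
  · rw [c.t_pow hx, CharP.cast_eq_zero, zero_mul]
  · rw [c.u_pow hx, CharP.cast_eq_zero, zero_mul]
  · rw [c.v_pow hx, CharP.cast_eq_zero, h2]; ring
  · rw [c.w_pow hx, CharP.cast_eq_zero K p, h2]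
    simp only [zero_mul, zero_add]
    by_cases h3 : p = 3
    · rw [show c.t x ^ 2 * c.u x = c.t x * (c.t x * c.u x) by ring, h h3, mul_zero, mul_zero]
    · have e := six_mul_sum_sq (K := K) p
      rw [CharP.cast_eq_zero K p] at e
      simp only [zero_mul] at e
      have h6 : (6 : K) ≠ 0 := by
        intro h6
        have h6' : ((6 : ℕ) : K) = 0 := by exact_mod_cast h6
        have hd : p ∣ 2 * 3 := (CharP.cast_eq_zero_iff K p 6).1 h6'
        rcases (Fact.out : p.Prime).dvd_mul.1 hd with h' | h'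
        · exact hp ((Nat.prime_dvd_prime_iff_eq Fact.out Nat.prime_two).1 h')
        · exact h3 ((Nat.prime_dvd_prime_iff_eq Fact.out Nat.prime_three).1 h')
      rw [(mul_eq_zero.1 e).resolve_left h6, zero_mul]

/-- The cube in characteristic three. -/
theorem w_pow_three [CharP K 3] {x : Ω} (hx : x ∈ S) :
    c.w (x ^ 3) = 2 * (c.t x ^ 2 * c.u x) := by
  rw [c.w_pow hx, show Nat.choose 3 2 = 3 by decide,
    show (∑ k ∈ Finset.range 3, k ^ 2 : ℕ) = 5 by decide]
  have h3 : (3 : K) = 0 := by exact_mod_cast CharP.cast_eq_zero K 3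
  push_cast
  linear_combination (c.w x + 2 * (c.t x * c.v x) + c.t x ^ 2 * c.u x) * h3

end Coord

end CfsgLib.SylowLie.SpFour
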