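import Cfsg.Agent.Lib.SylowLie.SpFour.TwoModule

/-!
# Characteristic two: the fixed axis and linear coordinates at `A`
-/

set_option autoImplicit false
set_option linter.style.haveILetI false
set_option maxHeartbeats 1600000

open Subgroup Matrix
open scoped Classical

namespace CfsgLib.SylowLie.SpFour

open CfsgLib.Fusion
open Cfsg (FusionSystem autInducedBy pElementClosure)
open Cfsg.FusionSystem (normalizerIn centralizerIn)

local notation "SL2(" F ")" => Matrix.SpecialLinearGroup (Fin 2) F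

variable {Ω : Type*} [Group Ω] {S : Subgroup Ω} [Finite S] {K : Type*} [Field K] [CharP K 2]
  {F : FusionSystem S} (c : Coord S K)

include c in
theorem conjAut_mem_closure (hS : IsPGroup 2 S) {s : Ω} (hs : s ∈ S)
    (hn : s ∈ Subgroup.normalizer (c.grpA : Set Ω)) :
    conjAut s hn ∈ pElementClosure 2 (F.autGroup c.grpA) :=
  CfsgLib.LS.Amal.isPGroup_le_pElementClosure (isPGroup_autInducedBy hS)
    (autInducedBy_le_autGroup c.grpA_le) (conjAut_mem hs _)

include c in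
/-- The fixed vectors form a coordinate axis of the centre. -/
theorem fixA_axis (hS : IsPGroup 2 S) (hF : F.IsSaturated 2) (hE : F.IsEssential 2 c.grpA) :
    (∀ x, x ∈ fixA F c ↔ x ∈ S ∧ c.t x = 0 ∧ c.u x = 0 ∧ c.v x = 0) ∨
      (∀ x, x ∈ fixA F c ↔ x ∈ S ∧ c.t x = 0 ∧ c.u x = 0 ∧ c.w x = 0) := by
  haveI := finite_field c
  obtain ⟨Fk, iFk, iFkf, hcard, ψ, hψs, hker, hfc, hcl, -⟩ := natural_two c hS hF hE
  have h2 : (2 : K) = 0 := CharTwo.two_eq_zero
  have hnA : ∀ s ∈ S, s ∈ Subgroup.normalizer (c.grpA : Set Ω) := fun s hs =>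
    (c.le_normalizerIn_of_grpD_le c.grpA_le c.grpD_le_grpA hs).2
  have hmove : ∀ s ∈ S, ∀ x ∈ c.grpA, c.u (s * x * s⁻¹) = c.u x ∧
      c.v (s * x * s⁻¹) = c.v x + c.t s * c.u x ∧
      c.w (s * x * s⁻¹) = c.w x + c.t s ^ 2 * c.u x := fun s hs x hx => by
    rw [c.u_conj hs hx.1, c.v_conj hs hx.1, c.w_conj hs hx.1, hx.2, h2]
    exact ⟨rfl, by ring, by ring⟩
  have hu : ∀ {x}, x ∈ fixA F c → c.u x = 0 := fun {x} hx => by
    obtain ⟨s, hs, st, -⟩ := c.surj 1 0 0 0
    have e := hx.2 _ (conjAut_mem_closure c hS hs (hnA s hs))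
    rw [autFun_conjAut _ hx.1] at e
    have e' := (hmove s hs x hx.1).2.1
    rw [e, st, one_mul] at e'
    exact left_eq_add.1 e'
  -- no fixed vector off both axes
  have hoff : ∀ z ∈ fixA F c, c.v z = 0 ∨ c.w z = 0 := by
    intro z hz
    by_contra! hne
    obtain ⟨hv, hw⟩ := hne
    set t0 := c.w z / c.v z with ht0
    have ht0' : t0 ≠ 0 := div_ne_zero hw hv
    set u0 := c.v z / t0 with hu0
    have hu0' : u0 ≠ 0 := div_ne_zero hv ht0'
    have e1 : t0 * u0 = c.v z := by rw [hu0, mul_div_cancel₀ _ ht0']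
    have e2 : t0 ^ 2 * u0 = c.w z := by rw [pow_two, mul_assoc, e1, ht0, div_mul_cancel₀ _ hv]
    obtain ⟨x, hxS, xt, xu, xv, xw⟩ := c.surj 0 u0 0 0
    obtain ⟨s, hs, st, -⟩ := c.surj t0 0 0 0
    have hx : x ∈ c.grpA := ⟨hxS, xt⟩
    obtain ⟨m1, m2, m3⟩ := hmove s hs x hx
    have hα := conjAut_mem_closure (F := F) c hS hs (hnA s hs)
    obtain ⟨g, hg⟩ := hcl _ hα
    have hfz : ((c.u z, c.v z, c.w z) : K × K × K) = (0, c.v z, c.w z) := by rw [hu hz]
    have hgx : g.1.mulVec (ψ (c.u x, c.v x, c.w x)) = ψ (c.u x, c.v x, c.w x) := by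
      rw [← hg x hx, autFun_conjAut _ hx, m1, m2, m3, st, xu, e1, e2,
        show ((u0, c.v x + c.v z, c.w x + c.w z) : K × K × K) =
          (u0, c.v x, c.w x) + (0, c.v z, c.w z) by simp, map_add, ← hfz, (hker z hz.1).2 hz,
        add_zero]
    have hg1 : g ≠ 1 := by
      intro h1
      have hone : conjAut s (hnA s hs) = (1 : MulAut c.grpA) :=
        eq_one_of_mod_fixA c hS hE (CfsgLib.LS.Amal.pElementClosure_le _ hα) (fun y hy => by
          have hy' := autFun_mem (conjAut s (hnA s hs)) hy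
          refine (hker _ (mul_mem (inv_mem hy) hy')).1 ?_
          have e := hg y hy
          rw [h1, Matrix.SpecialLinearGroup.coe_one, Matrix.one_mulVec] at e
          have hadd : ∀ {a b : Ω}, a ∈ c.grpA → b ∈ c.grpA →
              ((c.u (a * b), c.v (a * b), c.w (a * b)) : K × K × K) =
                (c.u a, c.v a, c.w a) + (c.u b, c.v b, c.w b) := fun {a b} ha hb => by
            rw [c.u_mul ha.1 hb.1, c.v_mul ha.1 hb.1, c.w_mul ha.1 hb.1, ha.2]
            simp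
          have e0 : ψ (c.u y⁻¹, c.v y⁻¹, c.w y⁻¹) + ψ (c.u y, c.v y, c.w y) = 0 := by
            rw [← map_add, ← hadd (inv_mem hy) hy, inv_mul_cancel, c.u_one, c.v_one, c.w_one]
            exact ψ.map_zero
          rw [hadd (inv_mem hy) hy', map_add, e, e0]) fun y hy => hy.2 _ hα
      have e := congrArg (fun γ : MulAut c.grpA => c.v (autFun γ x)) hone
      simp only [autFun_conjAut _ hx, autFun_one hx, m2, st, xu, e1, xv, zero_add] at e
      exact hv e
    have hne : ψ (c.u x, c.v x, c.w x) ≠ 0 := fun h =>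
      hu0' (xu.symm.trans (hu ((hker x hx).1 h)))
    let Φ : K × K →+ (Fin 2 → Fk) := ψ.comp (AddMonoidHom.inr K (K × K))
    have hΦ : ∀ a b : K, Φ (a, b) = ψ (0, a, b) := fun a b => rfl
    have hfix : ∀ y, g.1.mulVec (Φ y) = Φ y := by
      rintro ⟨a, b⟩
      obtain ⟨y, hyS, yt, yu, yv, yw⟩ := c.surj 0 0 a b
      obtain ⟨n1, n2, n3⟩ := hmove s hs y ⟨hyS, yt⟩
      have e := hg y ⟨hyS, yt⟩
      rw [autFun_conjAut _ (show y ∈ c.grpA from ⟨hyS, yt⟩), n1, n2, n3, yu, yv, yw, mul_zero, mul_zero, add_zero, add_zero] at e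
      exact e.symm
    choose r hr using fun y => fixed_proportional hg1 hne hgx (hfix y)
    have hkerΦ : Nat.card Φ.ker = Nat.card K := by
      rw [← hfc]
      refine (Nat.card_congr (Equiv.ofBijective (fun y : fixA F c =>
        (⟨(c.v y, c.w y), show ψ (0, c.v y, c.w y) = 0 by
          rw [← hu y.2]; exact (hker y y.2.1).2 y.2⟩ : Φ.ker)) ⟨fun y y' h => ?_, fun q => ?_⟩)).symm
      · obtain ⟨h1, h2⟩ := Prod.mk.injEq _ _ _ _ ▸ congrArg Subtype.val h
        exact Subtype.ext (c.ext y.2.1.1 y'.2.1.1 (y.2.1.2.trans y'.2.1.2.symm)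
          ((hu y.2).trans (hu y'.2).symm) h1 h2)
      · obtain ⟨⟨a, b⟩, hq⟩ := q
        obtain ⟨y, hyS, yt, yu, yv, yw⟩ := c.surj 0 0 a b
        exact ⟨⟨y, (hker y ⟨hyS, yt⟩).1 (by rw [yu, yv, yw]; exact hq)⟩,
          Subtype.ext (Prod.ext yv yw)⟩
    have hrange : Nat.card Φ.range = Nat.card K := by
      have h := AddSubgroup.card_eq_card_quotient_mul_card_addSubgroup Φ.ker
      rw [Nat.card_congr (QuotientAddGroup.quotientKerEquivRange Φ).toEquiv, hkerΦ, Nat.card_prod] at h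
      exact (Nat.eq_of_mul_eq_mul_right Nat.card_pos h).symm
    have hinj : Function.Injective fun q : Φ.range => r q.2.choose := by
      intro q q' h
      refine Subtype.ext ?_
      rw [← q.2.choose_spec, ← q'.2.choose_spec, hr, hr]
      exact congrArg (· • ψ (c.u x, c.v x, c.w x)) h
    obtain ⟨q, hq⟩ := ((Nat.bijective_iff_injective_and_card _).2 ⟨hinj, by
      rw [hrange, ← hcard, Nat.card_eq_fintype_card]⟩).2 1
    obtain ⟨⟨a, b⟩, hab⟩ : ∃ y, Φ y = ψ (c.u x, c.v x, c.w x) :=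
      ⟨q.2.choose, by rw [hr]; simp only at hq; rw [hq, one_smul]⟩
    obtain ⟨y, hyS, yt, yu, yv, yw⟩ := c.surj 0 0 a b
    have hyx : x * y ∈ fixA F c := (hker _ (mul_mem hx ⟨hyS, yt⟩)).1 (by
      rw [c.u_mul hxS hyS, c.v_mul hxS hyS, c.w_mul hxS hyS, xt, yu, yv, yw,
        show ((c.u x + 0, c.v x + a + 0 * 0, c.w x + b + 2 * 0 * a + 0 ^ 2 * 0) : K × K × K) =
          (c.u x, c.v x, c.w x) + (0, a, b) by simp, map_add, ← hΦ, hab, ← map_add,
        show ((c.u x, c.v x, c.w x) : K × K × K) + (c.u x, c.v x, c.w x) = 0 by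
          refine Prod.ext ?_ (Prod.ext ?_ ?_) <;> simp [CharTwo.add_self_eq_zero], map_zero])
    have := hu hyx
    rw [c.u_mul hxS hyS, xu, yu, add_zero] at this
    exact hu0' this
  -- one axis
  have hmem : ∀ {x}, x ∈ fixA F c → x ∈ S ∧ c.t x = 0 ∧ c.u x = 0 := fun {x} hx =>
    ⟨hx.1.1, hx.1.2, hu hx⟩
  have hfull : ∀ ax : Ω → K, (∀ x ∈ fixA F c, ax x = 0) →
      ∀ (co : Ω → K), (∀ x y, x ∈ S → y ∈ S → c.t x = 0 → c.t y = 0 → c.u x = 0 → c.u y = 0 →
        ax x = 0 → ax y = 0 → co x = co y → x = y) →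
      ∀ x, x ∈ fixA F c ↔ x ∈ S ∧ c.t x = 0 ∧ c.u x = 0 ∧ ax x = 0 := by
    intro ax hax co hco x
    refine ⟨fun h => ⟨h.1.1, h.1.2, hu h, hax x h⟩, fun ⟨hxS, xt, xu, xa⟩ => ?_⟩
    have hinj : Function.Injective fun y : fixA F c => co y := fun y y' h =>
      Subtype.ext (hco y y' y.2.1.1 y'.2.1.1 y.2.1.2 y'.2.1.2 (hu y.2) (hu y'.2) (hax y y.2)
        (hax y' y'.2) h)
    obtain ⟨y, hy⟩ := ((Nat.bijective_iff_injective_and_card _).2 ⟨hinj, hfc⟩).2 (co x)
    rw [hco x y hxS y.2.1.1 xt y.2.1.2 xu (hu y.2) xa (hax y y.2) hy.symm]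
    exact y.2
  by_cases hv : ∀ x ∈ fixA F c, c.v x = 0
  · exact Or.inl (hfull c.v hv c.w
      fun x y hx hy a b d e f g h => c.ext hx hy (a.trans b.symm) (d.trans e.symm) (f.trans g.symm) h)
  · push Not at hv
    obtain ⟨z, hz, hzv⟩ := hv
    refine Or.inr (hfull c.w (fun x hx => ?_) c.v
      fun x y hx hy a b d e f g h => c.ext hx hy (a.trans b.symm) (d.trans e.symm) h (f.trans g.symm))
    by_contra hxw
    have hxv := (hoff x hx).resolve_right hxw
    have hzw := (hoff z hz).resolve_left hzv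
    rcases hoff _ (mul_mem hx hz) with h | h
    · rw [c.v_mul hx.1.1 hz.1.1, hx.1.2, hxv] at h
      exact hzv (by simpa using h)
    · rw [c.w_mul hx.1.1 hz.1.1, hx.1.2, hzw] at h
      exact hxw (by simpa using h)

omit [CharP K 2] in
/-- Coordinates in which a family of transvections is linear. -/
theorem exists_lin_coords [Finite K] {Fk : Type*} [Field Fk] [Fintype Fk]
    (hcard : Fintype.card Fk = Nat.card K) (ψ : K × K →+ (Fin 2 → Fk))
    (hψ : Function.Injective ψ) (g : K → SL2(Fk))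
    (hg : ∀ t u a, (g t).1.mulVec (ψ (u, a)) = ψ (u, a + t * u)) :
    ∃ (η : K →+ K) (J : K ≃+* Fk) (P : Matrix (Fin 2) (Fin 2) Fk), IsUnit P.det ∧
      ∀ u a, ψ (u, a) = P.mulVec (J ∘ ![a + η u, u]) := by
  have hgι : ∀ t v, (g t).1.mulVec (ψ (0, v)) = ψ (0, v) := fun t v => by
    rw [hg, mul_zero, add_zero]
  have hgθ : ∀ t u, (g t).1.mulVec (ψ (u, 0)) = ψ (u, 0) + ψ (0, t * u) := fun t u => by
    rw [hg, ← map_add]; simp
  have hιinj : ∀ {v : K}, ψ (0, v) = 0 → v = 0 := fun {v} h =>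
    congrArg Prod.snd (hψ (h.trans ψ.map_zero.symm))
  have hg1 : g 1 ≠ 1 := fun h => by
    have e := hgθ 1 1
    rw [h, Matrix.SpecialLinearGroup.coe_one, Matrix.one_mulVec, mul_one, left_eq_add] at e
    exact one_ne_zero (hιinj e)
  set e1 := ψ (0, 1) with he1
  set e2 := ψ (1, 0) with he2
  have he10 : e1 ≠ 0 := fun h => one_ne_zero (hιinj h)
  set P : Matrix (Fin 2) (Fin 2) Fk := !![e1 0, e2 0; e1 1, e2 1] with hP
  have hPv : ∀ a b : Fk, P.mulVec ![a, b] = a • e1 + b • e2 := fun a b => by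
    ext i
    fin_cases i <;> simp [hP, Matrix.mulVec, dotProduct, Fin.sum_univ_two] <;> ring
  have hdet : IsUnit P.det := by
    rw [isUnit_iff_ne_zero]
    intro hd
    obtain ⟨r, hr⟩ : ∃ r : Fk, e2 = r • e1 := by
      rw [hP, Matrix.det_fin_two] at hd
      simp at hd
      by_cases h0 : e1 0 = 0
      · have h1 : e1 1 ≠ 0 := fun h1 => he10 (by ext i; fin_cases i <;> simp [h0, h1])
        rw [h0, zero_mul, zero_sub, neg_eq_zero] at hd
        refine ⟨e2 1 / e1 1, ?_⟩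
        ext i
        fin_cases i <;> simp [h0, (mul_eq_zero.1 hd).resolve_right h1, h1]
      · refine ⟨e2 0 / e1 0, ?_⟩
        ext i
        fin_cases i <;> simp [h0]
        field_simp
        linear_combination hd
    have e := hgθ 1 1
    rw [← he2, hr, Matrix.mulVec_smul, hgι, mul_one, left_eq_add] at e
    exact he10 e
  have hPi : ∀ v, P.mulVec (P⁻¹.mulVec v) = v := fun v => by
    rw [Matrix.mulVec_mulVec, Matrix.mul_nonsing_inv _ hdet, Matrix.one_mulVec]
  have hcomb : ∀ {a b a' b' : Fk}, a • e1 + b • e2 = a' • e1 + b' • e2 → a = a' ∧ b = b' := by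
    intro a b a' b' h
    rw [← hPv, ← hPv] at h
    have h' := congrArg P⁻¹.mulVec h
    rw [Matrix.mulVec_mulVec, Matrix.mulVec_mulVec, Matrix.nonsing_inv_mul _ hdet,
      Matrix.one_mulVec, Matrix.one_mulVec] at h'
    exact ⟨by simpa using congrFun h' 0, by simpa using congrFun h' 1⟩
  have hcoord : ∀ v, ∃ a b : Fk, v = a • e1 + b • e2 := fun v =>
    ⟨(P⁻¹.mulVec v) 0, (P⁻¹.mulVec v) 1, by
      rw [← hPv, show ![(P⁻¹.mulVec v) 0, (P⁻¹.mulVec v) 1] = P⁻¹.mulVec v by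
        ext i; fin_cases i <;> rfl, hPi]⟩
  choose j hj using fun v : K => fixed_proportional hg1 he10 (hgι 1 1) (hgι 1 v)
  choose θ1 θ2 hθ12 using fun u : K => hcoord (ψ (u, 0))
  have hsm : ∀ {a b : Fk}, a • e1 = b • e1 → a = b := fun {a b} h => smul_left_injective Fk he10 h
  have hj1 : j 1 = 1 := hsm (by rw [← hj, one_smul])
  have hmul : ∀ t u, j (t * u) = j t * θ2 u := fun t u => by
    have e := hgθ t u
    have e' := hgθ t 1
    rw [mul_one, ← he2] at e'
    rw [hθ12 u, Matrix.mulVec_add, Matrix.mulVec_smul, Matrix.mulVec_smul, e', he1, hgι, hj t,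
      hj (t * u), smul_add, smul_smul, ← add_assoc, add_right_inj] at e
    exact (hsm e).symm.trans (mul_comm _ _)
  have hjθ : ∀ u, θ2 u = j u := fun u => by
    have e := hmul 1 u
    rw [one_mul, hj1, one_mul] at e
    exact e.symm
  have hjadd : ∀ v v', j (v + v') = j v + j v' := fun v v' => hsm (by
    rw [add_smul, ← hj, ← hj, ← hj, ← map_add]; simp)
  let J0 : K →+* Fk :=
    { toFun := j
      map_one' := hj1
      map_zero' := by
        have e := hjadd 0 0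
        rw [add_zero] at e
        exact left_eq_add.1 e
      map_add' := hjadd
      map_mul' := fun a b => by rw [hmul, hjθ] }
  have hJbij : Function.Bijective J0 := (Nat.bijective_iff_injective_and_card _).2
    ⟨J0.injective, by rw [← hcard, Nat.card_eq_fintype_card (α := Fk)]⟩
  let J : K ≃+* Fk := RingEquiv.ofBijective J0 hJbij
  have hθ1add : ∀ u u', θ1 (u + u') = θ1 u + θ1 u' := fun u u' => by
    have e : ψ (u + u', 0) = ψ (u, 0) + ψ (u', 0) := by rw [← map_add]; simp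
    rw [hθ12, hθ12 u, hθ12 u', show θ1 u • e1 + θ2 u • e2 + (θ1 u' • e1 + θ2 u' • e2) =
      (θ1 u + θ1 u') • e1 + (θ2 u + θ2 u') • e2 by rw [add_smul, add_smul]; abel] at e
    exact (hcomb e).1
  refine ⟨AddMonoidHom.mk' (fun u => J.symm (θ1 u)) fun u u' => by rw [hθ1add, map_add], J, P, hdet,
    fun u a => ?_⟩
  rw [show ((u, a) : K × K) = (u, 0) + (0, a) by simp, map_add, hθ12, hj a,
    show ∀ x y : K, (J ∘ ![x, y]) = ![J x, J y] from fun x y => by ext i; fin_cases i <;> rfl, hPv,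
    AddMonoidHom.mk'_apply, map_add, J.apply_symm_apply, show J a = j a from rfl,
    show J u = θ2 u from (hjθ u).symm, add_smul]
  abel

/-- The automizer acts on `P` as `SL₂` in the coordinates `a`, `b`. -/
def LinAt (F : FusionSystem S) (P : Subgroup Ω) (a b : Ω → K) : Prop :=
  (∀ α ∈ pElementClosure 2 (F.autGroup P), ∃ D : SL2(K), ∀ x ∈ P,
      ![a (autFun α x), b (autFun α x)] = D.1.mulVec ![a x, b x]) ∧
    ∀ D : SL2(K), ∃ α ∈ pElementClosure 2 (F.autGroup P), ∀ x ∈ P,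
      ![a (autFun α x), b (autFun α x)] = D.1.mulVec ![a x, b x]

omit [CharP K 2] in
/-- Transport along a field automorphism. -/
theorem LinAt.map {P : Subgroup Ω} {a b a' b' : Ω → K} (h : LinAt F P a b) (σ : K ≃+* K)
    (ha : ∀ x ∈ P, a' x = σ (a x)) (hb : ∀ x ∈ P, b' x = σ (b x)) : LinAt F P a' b' := by
  have key : ∀ (D : SL2(K)) (α : MulAut P) x, x ∈ P →
      ![a (autFun α x), b (autFun α x)] = D.1.mulVec ![a x, b x] →
      ![a' (autFun α x), b' (autFun α x)] = (D.1.map σ).mulVec ![a' x, b' x] := by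
    intro D α x hx e
    have e0 := congrFun e 0
    have e1 := congrFun e 1
    simp [Matrix.mulVec, dotProduct, Fin.sum_univ_two] at e0 e1
    rw [ha _ (autFun_mem α hx), hb _ (autFun_mem α hx), ha x hx, hb x hx]
    ext i
    fin_cases i <;> simp [Matrix.mulVec, dotProduct, Fin.sum_univ_two, e0, e1]
  refine ⟨fun α hα => ?_, fun D => ?_⟩
  · obtain ⟨D, hD⟩ := h.1 α hα
    exact ⟨Matrix.SpecialLinearGroup.map σ.toRingHom D, fun x hx => key D α x hx (hD x hx)⟩
  · obtain ⟨α, hα, hD⟩ := h.2 (Matrix.SpecialLinearGroup.map σ.symm.toRingHom D)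
    refine ⟨α, hα, fun x hx => ?_⟩
    rw [key _ α x hx (hD x hx)]
    congr 1
    ext i k
    exact σ.apply_symm_apply _

include c in
theorem exists_linAt (hS : IsPGroup 2 S) (hF : F.IsSaturated 2) (hE : F.IsEssential 2 c.grpA)
    (co : Ω → K) (hco : ∀ x ∈ c.grpA, ∀ y ∈ c.grpA, co (x * y) = co x + co y)
    (hsur : ∀ u a : K, ∃ x ∈ c.grpA, c.u x = u ∧ co x = a)
    (hmove : ∀ τ : K, ∃ s ∈ S, ∀ x ∈ c.grpA, co (s * x * s⁻¹) = co x + τ * c.u x)
    (hW : ∀ x, x ∈ fixA F c ↔ x ∈ c.grpA ∧ c.u x = 0 ∧ co x = 0) :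
    ∃ η : K →+ K, LinAt F c.grpA (fun x => co x + η (c.u x)) c.u := by
  haveI := finite_field c
  obtain ⟨Fk, iFk, iFkf, hcard, ψ, hψs, hker, hfc, hcl, hlift⟩ := natural_two c hS hF hE
  have hnA : ∀ s ∈ S, s ∈ Subgroup.normalizer (c.grpA : Set Ω) := fun s hs =>
    (c.le_normalizerIn_of_grpD_le c.grpA_le c.grpD_le_grpA hs).2
  set f : Ω → K × K × K := fun x => (c.u x, c.v x, c.w x)
  have hf : ∀ {x y}, x ∈ c.grpA → y ∈ c.grpA → f (x * y) = f x + f y := fun {x y} hx hy => by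
    simp only [f]
    rw [c.u_mul hx.1 hy.1, c.v_mul hx.1 hy.1, c.w_mul hx.1 hy.1, hx.2]
    simp
  have hwd : ∀ {x y}, x ∈ c.grpA → y ∈ c.grpA → c.u x = c.u y → co x = co y → ψ (f x) = ψ (f y) := by
    intro x y hx hy h1 h2
    have h : x⁻¹ * y ∈ fixA F c := (hW _).2 ⟨mul_mem (inv_mem hx) hy,
      by rw [c.u_mul (inv_mem hx).1 hy.1, c.u_inv hx.1, h1, neg_add_cancel], by
        have e := hco _ hx _ (mul_mem (inv_mem hx) hy)
        rw [mul_inv_cancel_left, h2] at e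
        exact left_eq_add.1 e⟩
    have e := hf hx (mul_mem (inv_mem hx) hy)
    rw [mul_inv_cancel_left] at e
    rw [e, map_add, (hker _ h.1).2 h, add_zero]
  choose pre hpre using hsur
  let Ψ : K × K →+ (Fin 2 → Fk) := AddMonoidHom.mk' (fun q => ψ (f (pre q.1 q.2))) fun q q' => by
    obtain ⟨m1, a1, b1⟩ := hpre q.1 q.2
    obtain ⟨m2, a2, b2⟩ := hpre q'.1 q'.2
    obtain ⟨m3, a3, b3⟩ := hpre (q + q').1 (q + q').2
    rw [← map_add, ← hf m1 m2]
    exact hwd m3 (mul_mem m1 m2) (by rw [a3, c.u_mul m1.1 m2.1, a1, a2]; rfl)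
      (by rw [b3, hco _ m1 _ m2, b1, b2]; rfl)
  have hΨ : ∀ x ∈ c.grpA, Ψ (c.u x, co x) = ψ (f x) := fun x hx =>
    hwd (hpre _ _).1 hx (hpre _ _).2.1 (hpre _ _).2.2
  have hΨinj : Function.Injective Ψ := (injective_iff_map_eq_zero Ψ).2 fun q hq => by
    obtain ⟨m1, a1, b1⟩ := hpre q.1 q.2
    obtain ⟨-, h1, h2⟩ := (hW _).1 ((hker _ m1).1 hq)
    exact Prod.ext (a1.symm.trans h1) (b1.symm.trans h2)
  choose T hT using hmove
  choose g hg using fun t => hcl _ (conjAut_mem_closure (F := F) c hS (hT t).1 (hnA _ (hT t).1))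
  obtain ⟨η, J, P, hdet, hJP⟩ := exists_lin_coords hcard Ψ hΨinj g fun t u a => by
    obtain ⟨hx, hu, ha⟩ := hpre u a
    have hsx : T t * pre u a * (T t)⁻¹ ∈ c.grpA :=
      ((Subgroup.mem_normalizer_iff.1 (hnA _ (hT t).1) _).1 hx)
    have e := hg t _ hx
    rw [autFun_conjAut _ hx] at e
    have e' : Ψ (u, a + t * u) = ψ (f (T t * pre u a * (T t)⁻¹)) := by
      rw [← hΨ _ hsx, c.u_conj (hT t).1 hx.1, (hT t).2 _ hx, hu, ha]
    have e'' : Ψ (u, a) = ψ (f (pre u a)) := by rw [← hΨ _ hx, hu, ha]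
    rw [e', e'']
    exact e.symm
  refine ⟨η, ?_⟩
  have hPinj : ∀ {v w}, P.mulVec v = P.mulVec w → v = w := fun {v w} h => by
    have h' := congrArg P⁻¹.mulVec h
    rwa [Matrix.mulVec_mulVec, Matrix.mulVec_mulVec, Matrix.nonsing_inv_mul _ hdet,
      Matrix.one_mulVec, Matrix.one_mulVec] at h'
  have hvec : ∀ x ∈ c.grpA, ψ (f x) = P.mulVec (J ∘ ![co x + η (c.u x), c.u x]) := fun x hx => by
    rw [← hΨ x hx, hJP]
  have hJinj : ∀ {a b : Fin 2 → K}, J ∘ a = J ∘ b → a = b := fun {a b} h =>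
    funext fun i => J.injective (congrFun h i)
  have hJmul : ∀ (D : Matrix (Fin 2) (Fin 2) K) (a : Fin 2 → K),
      (D.map J).mulVec (J ∘ a) = J ∘ D.mulVec a := fun D a => by
    ext i; fin_cases i <;> simp [Matrix.mulVec, dotProduct, Fin.sum_univ_two]
  refine ⟨fun α hα => ?_, fun D => ?_⟩
  · obtain ⟨gg, hgg⟩ := hcl α hα
    have hdg : (P⁻¹ * gg.1 * P).det = 1 := by
      rw [Matrix.det_mul, Matrix.det_mul, gg.2, mul_one, ← Matrix.det_mul,
        Matrix.nonsing_inv_mul _ hdet, Matrix.det_one]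
    refine ⟨⟨(P⁻¹ * gg.1 * P).map J.symm, ?_⟩, fun x hx => hJinj (hPinj ?_)⟩
    · rw [show (P⁻¹ * gg.1 * P).map J.symm = J.symm.toRingHom.mapMatrix (P⁻¹ * gg.1 * P) from rfl,
        ← RingHom.map_det, hdg, map_one]
    · refine (hvec _ (autFun_mem α hx)).symm.trans ((hgg x hx).trans ?_)
      rw [hvec x hx, ← hJmul,
        show ((P⁻¹ * gg.1 * P).map J.symm).map J = P⁻¹ * gg.1 * P by
          ext i k; exact J.apply_symm_apply _, Matrix.mulVec_mulVec, Matrix.mulVec_mulVec,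
        ← Matrix.mul_assoc, ← Matrix.mul_assoc, Matrix.mul_nonsing_inv _ hdet, Matrix.one_mul]
  · have hD : (P * D.1.map J * P⁻¹).det = 1 := by
      rw [Matrix.det_mul, Matrix.det_mul, show D.1.map J = J.toRingHom.mapMatrix D.1 from rfl,
        ← RingHom.map_det, D.2, map_one, mul_one, ← Matrix.det_mul, Matrix.mul_nonsing_inv _ hdet,
        Matrix.det_one]
    obtain ⟨α, hα, hαx⟩ := hlift ⟨_, hD⟩
    refine ⟨α, hα, fun x hx => hJinj (hPinj ?_)⟩
    refine (hvec _ (autFun_mem α hx)).symm.trans ((hαx x hx).trans ?_)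
    rw [hvec x hx, ← hJmul, Matrix.mulVec_mulVec,
      Matrix.mulVec_mulVec, Matrix.mul_assoc _ P⁻¹ P, Matrix.nonsing_inv_mul _ hdet, Matrix.mul_one]

end CfsgLib.SylowLie.SpFour
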