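import Cfsg.Agent.Lib.SylowLie.SpFour.OddMain

/-!
# Characteristic two: changes of coordinates and the two elementary abelian subgroups

Exchanging the two simple roots gives new coordinates, and so does adding additive functions of the
simple coordinates to `v`. The automizer of `S` preserves both subgroups, so both are essential.
-/

set_option autoImplicit false
set_option linter.style.haveILetI false
set_option maxHeartbeats 1600000

open Subgroup
open scoped Classical

namespace CfsgLib.SylowLie.SpFour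

open CfsgLib.Fusion
open Cfsg (FusionSystem autInducedBy pElementClosure)
open Cfsg.FusionSystem (normalizerIn centralizerIn)

variable {Ω : Type*} [Group Ω] {S : Subgroup Ω} [Finite S] {K : Type*} [Field K] [CharP K 2]

theorem sq_inj {a b : K} (h : a ^ 2 = b ^ 2) : a = b := by
  refine sub_eq_zero.1 (pow_eq_zero_iff two_ne_zero |>.1 (show (a - b) ^ 2 = 0 from ?_))
  linear_combination h + (b ^ 2 - a * b) * CharTwo.two_eq_zero (R := K)

namespace Coord

variable (c : Coord S K)

include c in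
theorem exists_sqrt (a : K) : ∃ b : K, b ^ 2 = a := by
  haveI := finite_field c
  exact (Finite.injective_iff_surjective.1 fun _ _ h => sq_inj h) a

/-- The coordinates with the two simple roots exchanged. -/
def swap (c : Coord S K) : Coord S K where
  t := c.u
  u x := c.t x ^ 2
  v x := c.w x + c.t x ^ 2 * c.u x
  w x := (c.v x + c.t x * c.u x) ^ 2
  t_mul hx hy := c.u_mul hx hy
  u_mul {x y} hx hy := by
    rw [c.t_mul hx hy]
    linear_combination (c.t x * c.t y) * CharTwo.two_eq_zero (R := K)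
  v_mul {x y} hx hy := by
    rw [c.w_mul hx hy, c.t_mul hx hy, c.u_mul hx hy]
    linear_combination (c.t x * c.v y + c.t x * c.t y * (c.u x + c.u y) + c.t x ^ 2 * c.u y) *
      CharTwo.two_eq_zero (R := K)
  w_mul {x y} hx hy := by
    rw [c.v_mul hx hy, c.t_mul hx hy, c.u_mul hx hy]
    linear_combination ((c.v x + c.t x * c.u x) * (c.v y + c.t y * c.u y + c.t y * c.u x) +
      (c.v y + c.t y * c.u y) * (c.t y * c.u x) +
      2 * (c.t x * c.u y) *
        (c.v x + c.t x * c.u x + (c.v y + c.t y * c.u y) + c.t y * c.u x + c.t x * c.u y) -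
      c.u x * (c.w y + c.t y ^ 2 * c.u y)) * CharTwo.two_eq_zero (R := K)
  ext {x y} hx hy h1 h2 h3 h4 := by
    have ht : c.t x = c.t y := sq_inj h2
    refine c.ext hx hy ht h1 ?_ ?_
    · have e := sq_inj h4
      rw [ht, h1] at e
      exact add_right_cancel e
    · rw [ht, h1] at h3
      exact add_right_cancel h3
  surj a b d e := by
    obtain ⟨b', rfl⟩ := c.exists_sqrt b
    obtain ⟨e', rfl⟩ := c.exists_sqrt e
    obtain ⟨x, hx, x1, x2, x3, x4⟩ := c.surj b' a (e' - b' * a) (d - b' ^ 2 * a)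
    exact ⟨x, hx, x2, by rw [x1], by rw [x1, x2, x4]; ring, by rw [x1, x2, x3]; ring⟩

/-- Adding additive functions of the simple coordinates to `v`. -/
def shift (c : Coord S K) (η η' : K →+ K) : Coord S K where
  t := c.t
  u := c.u
  v x := c.v x + η (c.u x) + η' (c.t x)
  w := c.w
  t_mul hx hy := c.t_mul hx hy
  u_mul hx hy := c.u_mul hx hy
  v_mul {x y} hx hy := by
    rw [c.v_mul hx hy, c.t_mul hx hy, c.u_mul hx hy, map_add, map_add]; ring
  w_mul {x y} hx hy := by
    rw [c.w_mul hx hy]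
    linear_combination (-(c.t x * (η (c.u y) + η' (c.t y)))) * CharTwo.two_eq_zero (R := K)
  ext {x y} hx hy h1 h2 h3 h4 := by
    refine c.ext hx hy h1 h2 ?_ h4
    rw [h1, h2] at h3
    exact add_right_cancel (add_right_cancel h3)
  surj a b d e := by
    obtain ⟨x, hx, x1, x2, x3, x4⟩ := c.surj a b (d - η b - η' a) e
    exact ⟨x, hx, x1, x2, by rw [x1, x2, x3]; ring, x4⟩

theorem swap_grpA : (swap c).grpA = c.line 0 := by
  ext x
  rw [mem_grpA, mem_line, zero_mul]
  rfl

theorem swap_line : (swap c).line 0 = c.grpA := by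
  ext x
  rw [mem_grpA, mem_line, zero_mul]
  exact and_congr_right fun _ => pow_eq_zero_iff two_ne_zero

theorem shift_grpA (η η' : K →+ K) : (shift c η η').grpA = c.grpA := rfl

theorem shift_line (η η' : K →+ K) : (shift c η η').line 0 = c.line 0 := rfl

theorem sq_eq_one_iff_two {x : Ω} (hx : x ∈ S) : x * x = 1 ↔ c.t x * c.u x = 0 := by
  have h2 := CharTwo.two_eq_zero (R := K)
  rw [c.eq_one_iff (S.mul_mem hx hx), c.t_mul hx hx, c.u_mul hx hx, c.v_mul hx hx, c.w_mul hx hx]
  constructor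
  · rintro ⟨-, -, h, -⟩
    linear_combination h - (c.v x) * h2
  · intro h
    exact ⟨by linear_combination (c.t x) * h2, by linear_combination (c.u x) * h2,
      by linear_combination (c.v x) * h2 + h,
      by linear_combination (c.w x + c.t x * c.v x) * h2 + (c.t x) * h⟩

end Coord

variable {F : FusionSystem S} (c : Coord S K)

include c in
theorem autFun_grpA_two (hS : IsPGroup 2 S) (hF : F.IsSaturated 2) {φ : MulAut S}
    (hφ : φ ∈ F.autGroup S) {x : Ω} (hx : x ∈ c.grpA) : autFun φ x ∈ c.grpA := by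
  haveI := finite_mulAut (P := S)
  haveI := inn_subgroupOf_normal (Ω := Ω) S (F.autGroup S)
  have h2 : (2 : K) = 0 := CharTwo.two_eq_zero
  by_contra hnot
  have hfy := autFun_mem φ hx.1
  -- outside the centre every image has one vanishing simple coordinate
  have hinv2 : ∀ {y}, y ∈ S → c.t y * c.u y = 0 →
      c.t (autFun φ y) * c.u (autFun φ y) = 0 := fun {y} hy h => by
    rw [← c.sq_eq_one_iff_two (autFun_mem φ hy), ← autFun_map_mul φ hy hy,
      (c.sq_eq_one_iff_two hy).2 h, autFun_map_one]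
  have hcom : ∀ {y z}, y ∈ S → z ∈ S →
      (Commute (autFun φ y) (autFun φ z) ↔ Commute y z) := fun {y z} hy hz => by
    refine ⟨fun h => ?_, fun h => ?_⟩
    · have e := congrArg (autFun φ⁻¹) h.eq
      rwa [autFun_map_mul φ⁻¹ (autFun_mem φ hy) (autFun_mem φ hz),
        autFun_map_mul φ⁻¹ (autFun_mem φ hz) (autFun_mem φ hy), autFun_apply_inv φ hy,
        autFun_apply_inv φ hz] at e
    · show autFun φ y * autFun φ z = autFun φ z * autFun φ y
      rw [← autFun_map_mul φ hy hz, ← autFun_map_mul φ hz hy, h.eq]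
  have hcomm : ∀ {y z}, y ∈ S → z ∈ S → c.t y = 0 → c.u z = 0 →
      (Commute y z ↔ c.u y = 0 ∨ c.t z = 0) := fun {y z} hy hz e1 e2 => by
    rw [c.commute_iff hy hz, e1, e2, zero_mul, h2]
    constructor
    · exact fun h => (mul_eq_zero.1 h.1.symm).symm
    · rintro (h | h) <;> simp [h]
  -- `A` and `B` are exchanged
  have hxt : c.u x ≠ 0 ∧ c.t (autFun φ x) ≠ 0 := by
    refine ⟨fun hu => hnot ⟨hfy, ?_⟩, fun h => hnot ⟨hfy, h⟩⟩
    have hz : x ∈ centralizerIn S S := c.mem_center.2 ⟨hx.1, hx.2, hu, by rw [h2, zero_mul]⟩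
    exact (c.mem_center.1 ⟨hfy, Subgroup.mem_centralizer_iff.2 fun w hw => (autFun_central φ hx.1
      (fun v hv => Subgroup.mem_centralizer_iff.1 hz.2 v hv) hw).eq⟩).2.1
  have hxu : c.u (autFun φ x) = 0 :=
    (mul_eq_zero.1 (hinv2 hx.1 (by rw [hx.2, zero_mul]))).resolve_left hxt.2
  have hBA : ∀ y ∈ S, c.u y = 0 → c.t y ≠ 0 →
      c.t (autFun φ y) = 0 ∧ c.u (autFun φ y) ≠ 0 := by
    intro y hy hu ht
    have hnc : ¬ Commute (autFun φ x) (autFun φ y) := by
      rw [hcom hx.1 hy, hcomm hx.1 hy hx.2 hu]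
      exact not_or.2 ⟨hxt.1, ht⟩
    have hfy' := autFun_mem φ hy
    rcases mul_eq_zero.1 (hinv2 hy (by rw [hu, mul_zero])) with h | h
    · exact ⟨h, fun h' => hnc (((hcomm hfy' hfy h hxu).2 (Or.inl h')).symm)⟩
    · exact absurd (((c.commute_iff hfy hfy').2 ⟨by rw [hxu, h]; ring, by rw [hxu, h, h2]; ring⟩)) hnc
  have hAB : ∀ a ∈ S, c.t a = 0 → c.u a ≠ 0 →
      c.u (autFun φ a) = 0 ∧ c.t (autFun φ a) ≠ 0 := by
    intro a ha ht hu
    obtain ⟨y, hy, yt, yu, -⟩ := c.surj 1 0 0 0
    obtain ⟨h1, h1'⟩ := hBA y hy yu (by rw [yt]; exact one_ne_zero)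
    have hnc : ¬ Commute (autFun φ y) (autFun φ a) := by
      rw [hcom hy ha]
      intro h
      rcases (hcomm ha hy ht yu).1 h.symm with h' | h'
      · exact hu h'
      · exact one_ne_zero (yt.symm.trans h')
    have hfa := autFun_mem φ ha
    rcases mul_eq_zero.1 (hinv2 ha (by rw [ht, zero_mul])) with h | h
    · exact absurd (c.commute_grpA ⟨autFun_mem φ hy, h1⟩ ⟨hfa, h⟩) hnc
    · exact ⟨h, fun h' => hnc ((hcomm (autFun_mem φ hy) hfa h1 h).2 (Or.inr h'))⟩
  have hit : ∀ k : ℕ, (Even k → c.t (autFun (φ ^ k) x) = 0 ∧ c.u (autFun (φ ^ k) x) ≠ 0) ∧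
      (Odd k → c.u (autFun (φ ^ k) x) = 0 ∧ c.t (autFun (φ ^ k) x) ≠ 0) := by
    intro k
    induction k with
    | zero =>
      rw [pow_zero, autFun_one hx.1]
      exact ⟨fun _ => ⟨hx.2, hxt.1⟩, fun h => absurd h (by decide)⟩
    | succ k ih =>
      have hk := autFun_mem (φ ^ k) hx.1
      rw [pow_succ', autFun_mul _ _ hx.1]
      refine ⟨fun h => ?_, fun h => ?_⟩
      · obtain ⟨e1, e2⟩ := ih.2 (Nat.not_even_iff_odd.1 fun he => Nat.even_add_one.1 h he)
        exact hBA _ hk e1 e2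
      · obtain ⟨e1, e2⟩ := ih.1 (Nat.not_odd_iff_even.1 fun he => Nat.odd_add_one.1 h he)
        exact hAB _ hk e1 e2
  have hidx := ((isFullyAutomized_iff hS).1
    (IsSaturated.automized_receptive hS hF isFullyNormalized_self).1).2
  rw [← inn_eq_autInducedBy] at hidx
  have hpow := ((Cfsg.Inn S).subgroupOf (F.autGroup S)).pow_index_mem (⟨φ, hφ⟩ : F.autGroup S)
  obtain ⟨b, hb⟩ : φ ^ _ ∈ Cfsg.Inn S := Subgroup.mem_subgroupOf.1 hpow
  obtain ⟨e, -⟩ :=
    (hit ((Cfsg.Inn S).subgroupOf (F.autGroup S)).index).2 (Nat.not_even_iff_odd.1 fun h => hidx h.two_dvd)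
  rw [← hb, autFun_apply _ hx.1,
    show ((MulAut.conj b ⟨x, hx.1⟩ : S) : Ω) = (b : Ω) * x * (b : Ω)⁻¹ from rfl,
    c.u_conj b.2 hx.1] at e
  exact hxt.1 e

include c in
theorem essential_grpA_two (hS : IsPGroup 2 S) (hF : F.IsSaturated 2)
    (hQZ : F.core ≤ centralizerIn S S) : F.IsEssential 2 c.grpA := by
  have h2 : (2 : K) = 0 := CharTwo.two_eq_zero
  by_contra hA
  have hB : ∀ P, F.IsEssential 2 P → P = c.line 0 := fun P hP =>
    (essential_two c hS hF h2 hP).resolve_left fun h => hA (h ▸ hP)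
  have hle : c.line 0 ≤ F.core := by
    refine le_core_of_invariant hS hF (c.line_le 0) (fun φ hφ x hx => ?_) fun P hP => ?_
    · rw [← Coord.swap_grpA c] at hx ⊢
      exact autFun_grpA_two (Coord.swap c) hS hF hφ hx
    · rw [hB P hP]
      exact ⟨le_rfl, fun φ _ x hx => autFun_mem φ hx⟩
  obtain ⟨x, hx, xt, xu, -⟩ := c.surj 1 0 0 0
  exact one_ne_zero (xt.symm.trans (c.mem_center.1 (hQZ (hle ⟨hx, by rw [xu, zero_mul]⟩))).2.1)

end CfsgLib.SylowLie.SpFour
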