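import Cfsg.Agent.Lib.SylowLie.SpFour.TwoLift
import Cfsg.Agent.Lib.Fusion.System.KernelMonomial
import Mathlib.LinearAlgebra.Matrix.GeneralLinearGroup.Card
import Mathlib.FieldTheory.Finite.Basic

/-!
# Characteristic two: an extension of a group of matrices by the axis containing `S`

The matrices whose determinant occurs on the axis form a group `X`; there is an extension of it by
the axis in which `S` has odd index.
-/

set_option autoImplicit false
set_option linter.style.haveILetI false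
set_option maxHeartbeats 1600000

open Subgroup Matrix
open scoped Classical

namespace CfsgLib.SylowLie.SpFour

open CfsgLib.Fusion
open Cfsg (FusionSystem autInducedBy pElementClosure)
open Cfsg.FusionSystem (normalizerIn centralizerIn)

universe u v

local notation "GL3(" F ")" => GL (Fin 3) F

variable {Ω : Type u} [Group Ω] {S : Subgroup Ω} [Finite S] {K : Type v} [Field K] [CharP K 2]
  {F : FusionSystem S}

/-- The scalar matrices. -/
noncomputable def scal : Kˣ →* GL3(K) := Units.map (Matrix.scalar (Fin 3) : K →+* _).toMonoidHom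

omit [CharP K 2] in
theorem scal_val (ζ : Kˣ) : (scal ζ).1 = Matrix.scalar (Fin 3) (ζ : K) := rfl

omit [CharP K 2] in
theorem scal_comm (ζ : Kˣ) (g : GL3(K)) : scal ζ * g = g * scal ζ :=
  Units.ext (Matrix.scalar_commute _ (fun r => Commute.all _ r) g.1).eq

omit [CharP K 2] in
theorem det_scal (ζ : Kˣ) : (scal ζ).1.det = (ζ : K) ^ 3 := by
  rw [scal_val, Matrix.scalar_apply, Matrix.det_diagonal, Fin.prod_univ_three]
  ring

namespace Coord

variable (c : Coord S K)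

theorem phi_eq_iff {x y : Ω} : c.phi x = c.phi y ↔ c.Eq3 x y := by
  constructor
  · intro h
    exact uniThree_inj h
  · rintro ⟨a, b, e⟩
    rw [phi, phi, a, b, e]

theorem phi_inv {x : Ω} (hx : x ∈ S) : c.phi x⁻¹ = (c.phi x)⁻¹ :=
  eq_inv_of_mul_eq_one_left (by
    rw [← c.phi_mul (S.inv_mem hx) hx, inv_mul_cancel, Coord.phi, c.t_one, c.u_one, c.v_one,
      uniThree_zero])

theorem det_phi (x : Ω) : (c.phi x).1.det = 1 := by
  rw [phi, uniThree_val, Matrix.det_fin_three]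
  simp

theorem axis_sq {z : Ω} (hz : z ∈ c.axis) : z * z = 1 :=
  (c.sq_eq_one_iff_two hz.1).2 (by rw [hz.2.1, zero_mul])

theorem axis_ext {y z : Ω} (hy : y ∈ c.axis) (hz : z ∈ c.axis) (h : c.w y = c.w z) : y = z :=
  c.ext hy.1 hz.1 (hy.2.1.trans hz.2.1.symm) (hy.2.2.1.trans hz.2.2.1.symm)
    (hy.2.2.2.trans hz.2.2.2.symm) h

theorem w_mul_axis {x z : Ω} (hx : x ∈ S) (hz : z ∈ c.axis) : c.w (x * z) = c.w x + c.w z := by
  rw [c.w_mul hx hz.1, hz.2.2.1, hz.2.2.2]; ring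

theorem eq3_mul_axis {x z : Ω} (hx : x ∈ S) (hz : z ∈ c.axis) : c.Eq3 (x * z) x :=
  ⟨by rw [c.t_mul hx hz.1, hz.2.1, add_zero], by rw [c.u_mul hx hz.1, hz.2.2.1, add_zero],
    by rw [c.v_mul hx hz.1, hz.2.2.1, hz.2.2.2]; ring⟩

/-- Multiplying by additive functions of the simple coordinates on the axis. -/
theorem exists_twist (h h' : K →+ K) : ∃ φ : S →* S,
    (∀ x : S, c.Eq3 (φ x : Ω) x ∧ c.w (φ x : Ω) = c.w x + (h (c.u x) + h' (c.t x))) ∧
      ∀ x, φ (φ x) = x := by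
  choose f hfS ht hu hv hw using fun x : S =>
    c.surj (c.t x) (c.u x) (c.v x) (c.w x + (h (c.u x) + h' (c.t x)))
  refine ⟨MonoidHom.mk' (fun x => ⟨f x, hfS x⟩) fun x y => Subtype.ext ?_,
    fun x => ⟨⟨ht x, hu x, hv x⟩, hw x⟩, fun x => Subtype.ext ?_⟩
  · show f (x * y) = f x * f y
    refine c.ext (hfS _) (S.mul_mem (hfS _) (hfS _)) ?_ ?_ ?_ ?_
    · rw [ht, c.t_mul (hfS _) (hfS _), ht, ht, Subgroup.coe_mul, c.t_mul x.2 y.2]
    · rw [hu, c.u_mul (hfS _) (hfS _), hu, hu, Subgroup.coe_mul, c.u_mul x.2 y.2]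
    · rw [hv, c.v_mul (hfS _) (hfS _), hv, hv, ht, hu, Subgroup.coe_mul, c.v_mul x.2 y.2]
    · rw [hw, c.w_mul (hfS _) (hfS _), hw, hw, ht, hv, hu, Subgroup.coe_mul, c.w_mul x.2 y.2,
        c.t_mul x.2 y.2, c.u_mul x.2 y.2, map_add, map_add]
      ring
  · show f ⟨f x, hfS x⟩ = x
    refine c.ext (hfS _) x.2 ((ht _).trans (ht x)) ((hu _).trans (hu x)) ((hv _).trans (hv x)) ?_
    rw [hw]
    show c.w (f x) + (h (c.u (f x)) + h' (c.t (f x))) = c.w x
    rw [hw, ht, hu]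
    linear_combination (h (c.u x) + h' (c.t x)) * CharTwo.two_eq_zero (R := K)

end Coord

/-! ### Extensions -/

variable {L : Type*} [Group L]

/-- A homomorphism of `S`, extended to `Ω`. -/
noncomputable def jmap (ι : S →* L) (x : Ω) : L := if h : x ∈ S then ι ⟨x, h⟩ else 1

omit [Finite S] in
theorem jmap_eq (ι : S →* L) {x : Ω} (hx : x ∈ S) : jmap ι x = ι ⟨x, hx⟩ := dif_pos hx

omit [Finite S] in
theorem jmap_mul (ι : S →* L) {x y : Ω} (hx : x ∈ S) (hy : y ∈ S) :
    jmap ι (x * y) = jmap ι x * jmap ι y := by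
  rw [jmap_eq ι hx, jmap_eq ι hy, jmap_eq ι (S.mul_mem hx hy), ← map_mul]
  rfl

omit [Finite S] in
theorem jmap_inv (ι : S →* L) {x : Ω} (hx : x ∈ S) : jmap ι x⁻¹ = (jmap ι x)⁻¹ := by
  rw [jmap_eq ι hx, jmap_eq ι (S.inv_mem hx), ← map_inv]
  rfl

omit [Finite S] in
theorem jmap_one (ι : S →* L) : jmap ι (1 : Ω) = 1 := by
  rw [jmap_eq ι S.one_mem]
  exact map_one ι

/-- An extension of the matrices considered by the axis. -/
structure IsExt (F : FusionSystem S) (c : Coord S K) (ι : S →* L) (π : L →* GL3(K)) : Prop where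
  inj : Function.Injective ι
  comp : ∀ x : S, π (ι x) = c.phi x
  ker : ∀ l, π l = 1 → ∃ z ∈ c.axis, jmap ι z = l
  conj_axis : ∀ l, ∀ z ∈ c.axis, ∀ y ∈ c.axis, c.w y = (π l).1.det⁻¹ * c.w z →
    l * jmap ι z * l⁻¹ = jmap ι y
  surj : ∀ g, Matrix.GeneralLinearGroup.det g ∈ axisMul F c → ∃ l, π l = g
  det_mem : ∀ l, Matrix.GeneralLinearGroup.det (π l) ∈ axisMul F c

/-- Conjugation by `l` induces `f` on `Q`. -/
def Acts (ι : S →* L) (l : L) (Q : Subgroup Ω) (f : Ω → Ω) : Prop :=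
  ∀ x ∈ Q, f x ∈ S ∧ jmap ι (f x) = l * jmap ι x * l⁻¹

omit [Finite S] in
theorem Acts.comp {ι : S →* L} {l l' : L} {Q R : Subgroup Ω} {f f' : Ω → Ω} (h : Acts ι l Q f)
    (h' : Acts ι l' R f') (hQR : ∀ x ∈ Q, f x ∈ R) : Acts ι (l' * l) Q (f' ∘ f) := fun x hx => by
  refine ⟨(h' _ (hQR x hx)).1, ?_⟩
  rw [Function.comp_apply, (h' _ (hQR x hx)).2, (h x hx).2]
  group

omit [Finite S] in
theorem Acts.congr {ι : S →* L} {l : L} {Q : Subgroup Ω} {f g : Ω → Ω} (h : Acts ι l Q f)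
    (e : ∀ x ∈ Q, g x = f x) : Acts ι l Q g := fun x hx => by
  rw [e x hx]; exact h x hx

omit [Finite S] in
theorem Acts.mul {ι : S →* L} {l l' : L} {Q : Subgroup Ω} {α β : MulAut Q}
    (h : Acts ι l Q (autFun α)) (h' : Acts ι l' Q (autFun β)) :
    Acts ι (l * l') Q (autFun (α * β)) :=
  (h'.comp h fun _ hx => autFun_mem β hx).congr fun _ hx => autFun_mul α β hx

omit [Finite S] in
theorem Acts.inv {ι : S →* L} {l : L} {Q : Subgroup Ω} (hQ : Q ≤ S) {α : MulAut Q}
    (h : Acts ι l Q (autFun α)) : Acts ι l⁻¹ Q (autFun α⁻¹) := fun x hx => by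
  have hy := autFun_mem α⁻¹ hx
  refine ⟨hQ hy, ?_⟩
  have e := (h _ hy).2
  rw [autFun_inv_apply α hx] at e
  rw [e]
  group

namespace IsExt

variable {c : Coord S K} {ι : S →* L} {π : L →* GL3(K)} (hE : IsExt F c ι π)

include hE

theorem jmap_inj {x y : Ω} (hx : x ∈ S) (hy : y ∈ S) (h : jmap ι x = jmap ι y) : x = y := by
  rw [jmap_eq ι hx, jmap_eq ι hy] at h
  exact congrArg Subtype.val (hE.inj h)

theorem π_jmap {x : Ω} (hx : x ∈ S) : π (jmap ι x) = c.phi x := by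
  rw [jmap_eq ι hx]; exact hE.comp ⟨x, hx⟩

theorem acts_unique {l : L} {Q : Subgroup Ω} {f g : Ω → Ω} (hf : Acts ι l Q f) (hg : Acts ι l Q g)
    {x : Ω} (hx : x ∈ Q) : f x = g x :=
  hE.jmap_inj (hf x hx).1 (hg x hx).1 ((hf x hx).2.trans (hg x hx).2.symm)

theorem acts_phi {l : L} {Q : Subgroup Ω} (hQ : Q ≤ S) {f : Ω → Ω} (hf : Acts ι l Q f) {x : Ω}
    (hx : x ∈ Q) : c.phi (f x) = π l * c.phi x * (π l)⁻¹ := by
  rw [← hE.π_jmap (hf x hx).1, (hf x hx).2, map_mul, map_mul, map_inv, hE.π_jmap (hQ hx)]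

theorem exists_conj {l : L} {x y : Ω} (hx : x ∈ S) (hy : y ∈ S)
    (h : c.phi y = π l * c.phi x * (π l)⁻¹) :
    ∃ y' ∈ S, c.Eq3 y' y ∧ jmap ι y' = l * jmap ι x * l⁻¹ := by
  obtain ⟨z, hz, hzl⟩ := hE.ker ((jmap ι y)⁻¹ * (l * jmap ι x * l⁻¹)) (by
    rw [map_mul, map_mul, map_mul, map_inv, map_inv, hE.π_jmap hy, hE.π_jmap hx, h,
      inv_mul_cancel])
  exact ⟨y * z, S.mul_mem hy hz.1, c.eq3_mul_axis hy hz,
    by rw [jmap_mul ι hy hz.1, hzl, mul_inv_cancel_left]⟩

theorem axis_commute {x z : Ω} (hx : x ∈ S) (hz : z ∈ c.axis) :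
    jmap ι z * jmap ι x = jmap ι x * jmap ι z := by
  rw [← jmap_mul ι hz.1 hx, ← jmap_mul ι hx hz.1]
  exact congrArg _ (Subgroup.mem_centralizer_iff.1 (c.axis_central hz).2 x hx).symm

/-- The scalars of determinant one act trivially. -/
theorem scal_acts {l : L} {ζ : Kˣ} (hζ : ζ ^ 3 = 1) (hl : π l = scal ζ) : Acts ι l S id := by
  intro x hx
  refine ⟨hx, ?_⟩
  obtain ⟨y, hy, hyx, hyl⟩ := hE.exists_conj (l := l) hx hx (by
    rw [hl, scal_comm, mul_inv_cancel_right])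
  set z := x⁻¹ * y with hz0
  have hz : z ∈ c.axis := c.inv_mul_mem_axis hx hy ⟨hyx.1.symm, hyx.2.1.symm, hyx.2.2.symm⟩
  have hd : (π l).1.det = 1 := by
    rw [hl, det_scal, ← Units.val_pow_eq_pow_val, hζ, Units.val_one]
  have hzfix : l * jmap ι z * l⁻¹ = jmap ι z :=
    hE.conj_axis l z hz z hz (by rw [hd, inv_one, one_mul])
  have hstep : l * jmap ι x * l⁻¹ = jmap ι x * jmap ι z := by
    rw [← hyl, ← jmap_mul ι hx hz.1, hz0, mul_inv_cancel_left]
  have h3 : l ^ 3 * jmap ι x * (l ^ 3)⁻¹ = jmap ι x * (jmap ι z * jmap ι z * jmap ι z) := by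
    calc l ^ 3 * jmap ι x * (l ^ 3)⁻¹ = l * (l * (l * jmap ι x * l⁻¹) * l⁻¹) * l⁻¹ := by
          rw [pow_succ, pow_two]; group
      _ = l * (l * (jmap ι x * jmap ι z) * l⁻¹) * l⁻¹ := by rw [hstep]
      _ = l * (l * jmap ι x * l⁻¹ * (l * jmap ι z * l⁻¹)) * l⁻¹ := by group
      _ = l * (jmap ι x * jmap ι z * jmap ι z) * l⁻¹ := by rw [hzfix, hstep]
      _ = l * jmap ι x * l⁻¹ * (l * jmap ι z * l⁻¹) * (l * jmap ι z * l⁻¹) := by group
      _ = jmap ι x * jmap ι z * jmap ι z * jmap ι z := by rw [hzfix, hstep]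
      _ = _ := by group
  obtain ⟨z1, hz1, hz1l⟩ := hE.ker (l ^ 3) (by rw [map_pow, hl, ← map_pow, hζ, map_one])
  rw [← hz1l, hE.axis_commute hx hz1, mul_inv_cancel_right, left_eq_mul, ← jmap_mul ι hz.1 hz.1,
    c.axis_sq hz, jmap_one, one_mul] at h3
  rw [hstep, h3, mul_one, id]

/-- Composing with an automorphism of `S` which is trivial modulo the axis and on it. -/
theorem twist {φ : S →* S} (h h' : K →+ K)
    (hφ : ∀ x : S, c.Eq3 (φ x : Ω) x ∧ c.w (φ x : Ω) = c.w x + (h (c.u x) + h' (c.t x)))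
    (hφ2 : ∀ x, φ (φ x) = x) : IsExt F c (ι.comp φ) π := by
  have hax : ∀ (z : Ω) (hz : z ∈ c.axis), (φ ⟨z, hz.1⟩ : Ω) = z := fun z hz => by
    obtain ⟨⟨a, b, e⟩, f⟩ := hφ ⟨z, hz.1⟩
    refine c.ext (φ _).2 hz.1 a b e ?_
    rw [f]
    show c.w z + (h (c.u z) + h' (c.t z)) = c.w z
    rw [hz.2.1, hz.2.2.1, map_zero, map_zero, add_zero, add_zero]
  have hj : ∀ z ∈ c.axis, jmap (ι.comp φ) z = jmap ι z := fun z hz => by
    rw [jmap_eq _ hz.1, jmap_eq ι hz.1]
    exact congrArg ι (Subtype.ext (hax z hz))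
  refine ⟨hE.inj.comp (Function.Involutive.injective hφ2), fun x => ?_, fun l hl => ?_,
    fun l z hz y hy e => ?_, hE.surj, hE.det_mem⟩
  · rw [MonoidHom.comp_apply, hE.comp, c.phi_eq_iff]
    exact (hφ x).1
  · obtain ⟨z, hz, hzl⟩ := hE.ker l hl
    exact ⟨z, hz, (hj z hz).trans hzl⟩
  · rw [hj z hz, hj y hy]
    exact hE.conj_axis l z hz y hy e

end IsExt

namespace TwoData

variable {c : Coord S K} (hd : TwoData F c)

include hd

theorem axisMul_inv (hS : IsPGroup 2 S) (hF : F.IsSaturated 2) {δ : Kˣ} (hδ : δ ∈ axisMul F c) :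
    δ⁻¹ ∈ axisMul F c := by
  have h3 : δ ^ 3 = 1 := Units.ext (by
    rw [Units.val_pow_eq_pow_val, (hd.exists_torus hS hF δ.ne_zero).1, Units.val_one])
  rw [inv_eq_of_mul_eq_one_right (show δ * (δ * δ) = 1 by rw [← h3, pow_succ, pow_two, mul_assoc])]
  exact mul_mem hδ hδ

theorem exists_ext (hS : IsPGroup 2 S) (hF : F.IsSaturated 2) :
    ∃ (L : Type (max u v)) (_ : Group L) (_ : Finite L) (ι : S →* L) (π : L →* GL3(K)),
      IsExt F c ι π ∧ Odd ι.range.index := by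
  haveI := finite_field c
  haveI : Fintype K := Fintype.ofFinite K
  let X : Subgroup GL3(K) :=
    { carrier := {g | Matrix.GeneralLinearGroup.det g ∈ axisMul F c}
      one_mem' := by
        show Matrix.GeneralLinearGroup.det (1 : GL3(K)) ∈ axisMul F c
        rw [map_one]; exact one_mem _
      mul_mem' := fun {g k} hg hk => by
        show Matrix.GeneralLinearGroup.det (g * k) ∈ axisMul F c
        rw [map_mul]; exact mul_mem hg hk
      inv_mem' := fun {g} hg => by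
        show Matrix.GeneralLinearGroup.det g⁻¹ ∈ axisMul F c
        rw [map_inv]; exact hd.axisMul_inv hS hF hg }
  have hone : ∀ x : S, c.phiHom x ∈ X := fun x => by
    show Matrix.GeneralLinearGroup.det _ ∈ axisMul F c
    rw [show Matrix.GeneralLinearGroup.det (c.phiHom x) = 1 from Units.ext (c.det_phi x)]
    exact one_mem _
  let c0 : S →* X := c.phiHom.codRestrict X hone
  have hker : ∀ z : S, z ∈ c0.ker ↔ (z : Ω) ∈ c.axis := fun z => by
    rw [MonoidHom.mem_ker, ← c.phi_eq_one z.2, Subtype.ext_iff]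
    rfl
  choose zf hzS hzt hzu hzv hzw using fun a : K => c.surj 0 0 0 a
  have hzax : ∀ a, zf a ∈ c.axis := fun a => ⟨hzS a, hzt a, hzu a, hzv a⟩
  let e : c0.ker ≃ K :=
    { toFun := fun z => c.w (z : S)
      invFun := fun a => ⟨⟨zf a, hzS a⟩, (hker _).2 (hzax a)⟩
      left_inv := fun z => Subtype.ext (Subtype.ext
        (c.axis_ext (hzax _) ((hker z).1 z.2) (hzw _)))
      right_inv := hzw }
  have he : ∀ a b : c0.ker, e (a * b) = e a + e b := fun a b =>
    c.w_mul_axis (a : S).2 ((hker b).1 b.2)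
  have hdn : ∀ g : X, (g : GL3(K)).1.det ≠ 0 := fun g =>
    (Matrix.GeneralLinearGroup.det (g : GL3(K))).ne_zero
  let actFun : X → MulAut c0.ker := fun g =>
    { toFun := fun z => e.symm (((g : GL3(K)).1.det)⁻¹ * e z)
      invFun := fun z => e.symm (((g : GL3(K)).1.det) * e z)
      left_inv := fun z => by
        show e.symm (_ * e (e.symm _)) = z
        rw [e.apply_symm_apply, ← mul_assoc, mul_inv_cancel₀ (hdn g),
          one_mul, e.symm_apply_apply]
      right_inv := fun z => by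
        show e.symm (_ * e (e.symm _)) = z
        rw [e.apply_symm_apply, ← mul_assoc, inv_mul_cancel₀ (hdn g),
          one_mul, e.symm_apply_apply]
      map_mul' := fun a b => e.injective (by
        simp only [he, Equiv.apply_symm_apply, mul_add]) }
  let act : X →* MulAut c0.ker := MonoidHom.mk' actFun fun g k => MulEquiv.ext fun z => e.injective (by
    show e (e.symm _) = e (e.symm (_ * e (e.symm _)))
    rw [e.apply_symm_apply, e.apply_symm_apply, e.apply_symm_apply, Subgroup.coe_mul, Units.val_mul,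
      Matrix.det_mul, mul_inv]
    ring)
  have hact : ∀ (g : X) (z : c0.ker), e (act g z) = ((g : GL3(K)).1.det)⁻¹ * e z :=
    fun g z => e.apply_symm_apply _
  have hrange : ∀ g : X, g ∈ c0.range ↔ (g : GL3(K)) ∈ c.phiHom.range := fun g =>
    ⟨fun ⟨x, hx⟩ => ⟨x, congrArg Subtype.val hx⟩, fun ⟨x, hx⟩ => ⟨x, Subtype.ext hx⟩⟩
  -- the index
  have hcard : Nat.card c0.range = Fintype.card K ^ 3 := by
    have hb : Function.Bijective (fun a : K × K × K =>
        (⟨⟨uniThree a.1 a.2.1 a.2.2, by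
          obtain ⟨x, hx, x1, x2, x3, -⟩ := c.surj a.1 a.2.1 a.2.2 0
          have := hone ⟨x, hx⟩
          rwa [Coord.phiHom_apply, Coord.phi, x1, x2, x3] at this⟩, by
          obtain ⟨x, hx, x1, x2, x3, -⟩ := c.surj a.1 a.2.1 a.2.2 0
          exact ⟨⟨x, hx⟩, Subtype.ext (show uniThree (c.t x) (c.u x) (c.v x) = uniThree a.1 a.2.1 a.2.2 by rw [x1, x2, x3])⟩⟩ : c0.range)) := by
      constructor
      · intro a b h
        obtain ⟨h1, h2, h3⟩ := uniThree_inj (congrArg Subtype.val (congrArg Subtype.val h))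
        exact Prod.ext h1 (Prod.ext h2 h3)
      · rintro ⟨_, x, rfl⟩
        exact ⟨(c.t x, c.u x, c.v x), rfl⟩
    rw [← Nat.card_congr (Equiv.ofBijective _ hb)]
    simp [Nat.card_eq_fintype_card]
    ring
  have hodd : Odd c0.range.index := by
    obtain ⟨n, -, hq⟩ := FiniteField.card K 2
    have hX := (Subgroup.card_mul_index c0.range)
    have hG := (Subgroup.card_mul_index X)
    rw [Matrix.card_GL_field, Fin.prod_univ_three, ← hX, hcard] at hG
    set q := Fintype.card K with hq0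
    have hqe : Even q := by
      rw [hq]; exact Nat.even_pow.2 ⟨even_two, n.pos.ne'⟩
    have hq1 : 1 ≤ q := Fintype.card_pos
    simp only [Fin.val_zero, Fin.val_one, Fin.val_two, pow_zero, pow_one] at hG
    have h2 : q ^ 3 - q = q * (q ^ 2 - 1) := by rw [Nat.mul_sub, mul_one]; ring_nf
    have h3 : q ^ 3 - q ^ 2 = q ^ 2 * (q - 1) := by rw [Nat.mul_sub, mul_one]; ring_nf
    rw [h2, h3] at hG
    have h4 : c0.range.index * X.index = (q ^ 3 - 1) * (q ^ 2 - 1) * (q - 1) := by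
      refine Nat.eq_of_mul_eq_mul_left (pow_pos hq1 3) ?_
      rw [← mul_assoc, hG]
      ring
    have ho : ∀ k, k ≠ 0 → Odd (q ^ k - 1) := fun k hk =>
      Nat.Even.sub_odd (Nat.one_le_pow _ _ hq1) (Nat.even_pow.2 ⟨hqe, hk⟩) odd_one
    have : Odd (c0.range.index * X.index) := by
      rw [h4]
      exact ((ho 3 (by norm_num)).mul (ho 2 two_ne_zero)).mul (by simpa using ho 1 one_ne_zero)
    exact (Nat.odd_mul.1 this).1
  have hcop : (Nat.card c0.ker).Coprime c0.range.index := by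
    obtain ⟨k, hk⟩ := (hS.to_subgroup c0.ker).exists_card_eq
    rw [hk]
    exact Nat.Coprime.pow_left _ hodd.coprime_two_left
  obtain ⟨L, hL, hLfin, ι, π, hinj, hsur, hπι, hπk, hidx, hconj⟩ :=
    KerMon.exists_extension c0 act
      (fun a b => Subtype.ext (Subtype.ext
        (Subgroup.mem_centralizer_iff.1 (c.axis_central ((hker b).1 b.2)).2 _ (a : S).2)))
      (fun x z => congrArg Subtype.val (e.injective (show e (act (c0 x) z) =
          e ⟨x * (z : S) * x⁻¹, (inferInstance : c0.ker.Normal).conj_mem _ z.2 x⟩ by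
        rw [hact, show ((c0 x : X) : GL3(K)).1.det = 1 from c.det_phi x, inv_one, one_mul]
        show c.w (z : S) = c.w ((x : Ω) * ((z : S) : Ω) * (x : Ω)⁻¹)
        rw [c.conj_axis x.2 ((hker z).1 z.2)])))
      hcop (fun g => by
        obtain ⟨f, hf, hfphi, hfax⟩ := hd.exists_over hS hF (g := ((g⁻¹ : X) : GL3(K))) (g⁻¹).2
        have hmem : ∀ x : S, g⁻¹ * c0 x * g ∈ c0.range ↔ (x : Ω) ∈ c.dom ((g⁻¹ : X) : GL3(K)) :=
          fun x => by
            rw [hrange, Coord.mem_dom]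
            simp only [x.2, true_and, Subgroup.coe_mul, Subgroup.coe_inv, inv_inv]
            rfl
        refine ⟨fun x => if h : (x : Ω) ∈ c.dom ((g⁻¹ : X) : GL3(K)) then ⟨f x, hf.mem_S h⟩ else 1,
          fun x y hx hy => ?_, fun x hx => ?_, fun z => ?_⟩
        · rw [hmem] at hx hy
          rw [dif_pos hx, dif_pos hy, dif_pos (show ((x * y : S) : Ω) ∈ _ from mul_mem hx hy)]
          exact Subtype.ext (hf.map_mul hx hy)
        · rw [hmem] at hx
          rw [dif_pos hx]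
          refine Subtype.ext ?_
          show c.phi (f x) = _
          rw [hfphi _ hx]
          simp only [Subgroup.coe_mul, Subgroup.coe_inv, inv_inv]
          rfl
        · have hz := (hker z).1 z.2
          have hzd : ((z : S) : Ω) ∈ c.dom ((g⁻¹ : X) : GL3(K)) := by
            rw [Coord.mem_dom, (c.phi_eq_one (z : S).2).2 hz, mul_one, mul_inv_cancel]
            exact ⟨(z : S).2, one_mem _⟩
          rw [dif_pos hzd]
          refine Subtype.ext (c.axis_ext ?_ ((hker _).1 (act g⁻¹ z).2) ?_)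
          · rw [← c.phi_eq_one (hf.mem_S hzd), hfphi _ hzd, (c.phi_eq_one (z : S).2).2 hz, mul_one,
              mul_inv_cancel]
          · exact (hfax _ hzd hz).trans (hact g⁻¹ z).symm)
  refine ⟨L, hL, hLfin, ι, X.subtype.comp π, ⟨hinj, fun x => congrArg Subtype.val (hπι x), fun l hl => ?_,
    fun l z hz y hy hw => ?_, fun g hg => ?_, fun l => (π l).2⟩, hidx ▸ hodd⟩
  · have hl' : l ∈ π.ker := Subtype.ext hl
    rw [hπk] at hl'
    obtain ⟨z, hz, rfl⟩ := hl'
    exact ⟨z, (hker z).1 hz, jmap_eq ι z.2⟩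
  · rw [jmap_eq ι hz.1, jmap_eq ι hy.1,
      show ι ⟨z, hz.1⟩ = ι ((⟨⟨z, hz.1⟩, (hker _).2 hz⟩ : c0.ker) : S) from rfl, hconj]
    refine congrArg ι (Subtype.ext (c.axis_ext ((hker _).1 (act (π l) _).2) hy ?_))
    exact (hact _ _).trans hw.symm
  · obtain ⟨l, hl⟩ := hsur ⟨g, hg⟩
    exact ⟨l, congrArg Subtype.val hl⟩

end TwoData

end CfsgLib.SylowLie.SpFour
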