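import Cfsg.Agent.Lib.SylowLie.SpFour.TwoShape

/-!
# Characteristic two: conjugations in `GL₃` lift to the system

`S` modulo the axis is the unitriangular group of `GL₃`; the conjugations by matrices whose
determinant occurs on the axis lift to maps of the system.
-/

set_option autoImplicit false
set_option linter.style.haveILetI false
set_option maxHeartbeats 1600000

open Subgroup Matrix
open scoped Classical

namespace CfsgLib.SylowLie.SpFour

open CfsgLib.Fusion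
open Cfsg (FusionSystem autInducedBy pElementClosure)
open Cfsg.FusionSystem (normalizerIn centralizerIn)

local notation "GL3(" F ")" => GL (Fin 3) F

variable {Ω : Type*} [Group Ω] {S : Subgroup Ω} [Finite S] {K : Type*} [Field K] [CharP K 2]
  {F : FusionSystem S}

/-- A unitriangular matrix. -/
noncomputable def uniThree (a b d : K) : GL3(K) :=
  Matrix.GeneralLinearGroup.mkOfDetNeZero !![1, a, d; 0, 1, b; 0, 0, 1]
    (by simp [Matrix.det_fin_three])

omit [CharP K 2] in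
theorem uniThree_val (a b d : K) : (uniThree a b d).1 = !![1, a, d; 0, 1, b; 0, 0, 1] := rfl

omit [CharP K 2] in
theorem uniThree_mul (a b d a' b' d' : K) :
    uniThree a b d * uniThree a' b' d' = uniThree (a + a') (b + b') (d + d' + a * b') := by
  refine Units.ext ?_
  rw [Units.val_mul, uniThree_val, uniThree_val, uniThree_val]
  ext i j
  fin_cases i <;> fin_cases j <;> simp [Matrix.mul_apply, Fin.sum_univ_three] <;> ring

omit [CharP K 2] in
theorem uniThree_inj {a b d a' b' d' : K} (h : uniThree a b d = uniThree a' b' d') :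
    a = a' ∧ b = b' ∧ d = d' := by
  have h' := congrArg Units.val h
  rw [uniThree_val, uniThree_val] at h'
  exact ⟨by simpa using congrFun (congrFun h' 0) 1, by simpa using congrFun (congrFun h' 1) 2,
    by simpa using congrFun (congrFun h' 0) 2⟩

omit [CharP K 2] in
theorem uniThree_zero : uniThree (0 : K) 0 0 = 1 := by
  refine Units.ext ?_
  rw [uniThree_val, Units.val_one]
  ext i j
  fin_cases i <;> fin_cases j <;> simp

namespace Coord

variable (c : Coord S K)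

/-- The map to `GL₃`. -/
noncomputable def phi (x : Ω) : GL3(K) := uniThree (c.t x) (c.u x) (c.v x)

theorem phi_mul {x y : Ω} (hx : x ∈ S) (hy : y ∈ S) : c.phi (x * y) = c.phi x * c.phi y := by
  rw [phi, phi, phi, uniThree_mul, c.t_mul hx hy, c.u_mul hx hy, c.v_mul hx hy]

/-- The homomorphism to `GL₃`. -/
noncomputable def phiHom : S →* GL3(K) :=
  MonoidHom.mk' (fun x => c.phi x) fun x y => c.phi_mul x.2 y.2

theorem phiHom_apply (x : S) : c.phiHom x = c.phi x := rfl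

theorem phi_mem (x : Ω) (hx : x ∈ S) : c.phi x ∈ c.phiHom.range := ⟨⟨x, hx⟩, rfl⟩

theorem phi_eq_one {x : Ω} (hx : x ∈ S) : c.phi x = 1 ↔ x ∈ c.axis := by
  rw [← uniThree_zero]
  constructor
  · exact fun h => ⟨hx, (uniThree_inj h).1, (uniThree_inj h).2.1, (uniThree_inj h).2.2⟩
  · rintro ⟨-, a, b, e⟩
    rw [phi, a, b, e]

/-- The elements carried into the unitriangular group by `g`. -/
noncomputable def dom (g : GL3(K)) : Subgroup Ω :=
  (c.phiHom.range.comap ((MulAut.conj g).toMonoidHom.comp c.phiHom)).map S.subtype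

theorem mem_dom {g : GL3(K)} {x : Ω} :
    x ∈ c.dom g ↔ x ∈ S ∧ g * c.phi x * g⁻¹ ∈ c.phiHom.range := by
  constructor
  · rintro ⟨y, hy, rfl⟩
    exact ⟨y.2, hy⟩
  · rintro ⟨hx, h⟩
    exact ⟨⟨x, hx⟩, h, rfl⟩

theorem dom_le (g : GL3(K)) : c.dom g ≤ S := fun _ h => (c.mem_dom.1 h).1

/-- The conjugation equation in matrices. -/
theorem conj_eq_iff (g : GL3(K)) (x y : Ω) :
    c.phi y = g * c.phi x * g⁻¹ ↔ g.1 * (c.phi x).1 = (c.phi y).1 * g.1 := by
  rw [eq_mul_inv_iff_mul_eq, eq_comm, Units.ext_iff, Units.val_mul, Units.val_mul]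

end Coord

/-- Multipliers of the automizer of `S` on the axis. -/
def axisMul (F : FusionSystem S) (c : Coord S K) : Submonoid Kˣ where
  carrier := {δ | ∃ M ∈ F.autGroup S, (∀ z ∈ c.axis, autFun M z ∈ c.axis) ∧
    ∀ z ∈ c.axis, c.w (autFun M z) = δ * c.w z}
  one_mem' := ⟨1, one_mem _, fun z hz => by rw [autFun_one hz.1]; exact hz,
    fun z hz => by rw [autFun_one hz.1, Units.val_one, one_mul]⟩
  mul_mem' := fun {δ ε} ⟨M, hM, hMa, hMw⟩ ⟨N, hN, hNa, hNw⟩ => ⟨M * N, mul_mem hM hN,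
    fun z hz => by rw [autFun_mul _ _ hz.1]; exact hMa _ (hNa z hz),
    fun z hz => by rw [autFun_mul _ _ hz.1, hMw _ (hNa z hz), hNw z hz, Units.val_mul, mul_assoc]⟩

/-- A map of the system over the conjugation by `g`. -/
def IsOver (F : FusionSystem S) (c : Coord S K) (g : GL3(K)) (Q : Subgroup Ω) (f : Ω → Ω) : Prop :=
  IsMap F Q f ∧ (∀ x ∈ Q, c.phi (f x) = g * c.phi x * g⁻¹) ∧
    ∀ z ∈ Q, z ∈ c.axis → c.w (f z) = g.1.det⁻¹ * c.w z

theorem IsOver.mono {c : Coord S K} {g : GL3(K)} {Q R : Subgroup Ω} {f : Ω → Ω}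
    (h : IsOver F c g Q f) (hR : R ≤ Q) : IsOver F c g R f :=
  ⟨h.1.mono hR, fun x hx => h.2.1 x (hR hx), fun z hz => h.2.2 z (hR hz)⟩

theorem IsOver.comp {c : Coord S K} {g h : GL3(K)} {Q R : Subgroup Ω} {f f' : Ω → Ω}
    (hf : IsOver F c h Q f) (hf' : IsOver F c g R f') (hQR : ∀ x ∈ Q, f x ∈ R) :
    IsOver F c (g * h) Q (f' ∘ f) := by
  refine ⟨hf.1.comp hf'.1 hQR, fun x hx => ?_, fun z hz hza => ?_⟩
  · rw [Function.comp_apply, hf'.2.1 _ (hQR x hx), hf.2.1 x hx]; group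
  · have hax : f z ∈ c.axis := by
      rw [← c.phi_eq_one (hf.1.mem_S hz), hf.2.1 z hz, (c.phi_eq_one hza.1).2 hza]; group
    rw [Function.comp_apply, hf'.2.2 _ (hQR z hz) hax, hf.2.2 z hz hza, Units.val_mul,
      Matrix.det_mul, mul_inv]
    ring

namespace TwoData

variable {c : Coord S K} (hd : TwoData F c)

include hd

/-- The matrices considered. -/
theorem exists_over_borel (hS : IsPGroup 2 S) (hF : F.IsSaturated 2) {g : GL3(K)}
    (hg : Matrix.GeneralLinearGroup.det g ∈ axisMul F c) (h10 : g.1 1 0 = 0) (h20 : g.1 2 0 = 0)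
    (h21 : g.1 2 1 = 0) :
    ∃ M ∈ F.autGroup S, IsOver F c g S (autFun M) := by
  have hcube : ∀ {x : K}, x ≠ 0 → x ^ 3 = 1 := fun {x} hx => (hd.exists_torus hS hF hx).1
  have hdet : g.1.det = g.1 0 0 * g.1 1 1 * g.1 2 2 := by
    rw [Matrix.det_fin_three, h10, h20, h21]; ring
  have hne : g.1.det ≠ 0 := (Matrix.GeneralLinearGroup.det g).ne_zero
  obtain ⟨d1, hd1⟩ : ∃ d, g.1 0 0 = d := ⟨_, rfl⟩
  obtain ⟨d2, hd2⟩ : ∃ d, g.1 1 1 = d := ⟨_, rfl⟩
  obtain ⟨d3, hd3⟩ : ∃ d, g.1 2 2 = d := ⟨_, rfl⟩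
  rw [hd1, hd2, hd3] at hdet
  have n1 : d1 ≠ 0 := fun h => hne (by rw [hdet, h]; ring)
  have n2 : d2 ≠ 0 := fun h => hne (by rw [hdet, h]; ring)
  have n3 : d3 ≠ 0 := fun h => hne (by rw [hdet, h]; ring)
  -- an element with the inverse multiplier on the axis
  have hinvmem : (Matrix.GeneralLinearGroup.det g)⁻¹ ∈ axisMul F c := by
    have : (Matrix.GeneralLinearGroup.det g)⁻¹ =
        Matrix.GeneralLinearGroup.det g * Matrix.GeneralLinearGroup.det g := by
      refine inv_eq_of_mul_eq_one_right (Units.ext ?_)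
      rw [Units.val_mul, Units.val_mul, Units.val_one, ← hcube (Matrix.GeneralLinearGroup.det g).ne_zero]
      ring
    rw [this]
    exact mul_mem hg hg
  obtain ⟨M₀, hM₀, hM₀a, hM₀w⟩ := hinvmem
  obtain ⟨a₀, g₀, r₀, r₀', ha₀, hg₀, hM₀c, hM₀z⟩ := hd.aut_shape hS hF hM₀
  set a := d1 / d2 with ha
  set b := d2 / d3 with hb
  have ha0 : a ≠ 0 := div_ne_zero n1 n2
  have hb0 : b ≠ 0 := div_ne_zero n2 n3
  obtain ⟨z₁, hz₁, z₁t, z₁u, z₁v, z₁w⟩ := c.surj 0 0 0 1
  have hδ : a₀ ^ 2 * g₀ = g.1.det⁻¹ := by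
    have e := hM₀w z₁ ⟨hz₁, z₁t, z₁u, z₁v⟩
    rw [hM₀z z₁ ⟨hz₁, z₁t, z₁u, z₁v⟩, z₁w, mul_one, mul_one, Units.val_inv_eq_inv_val] at e
    exact e
  have hab : a ^ 2 * b = g.1.det⁻¹ := by
    rw [hdet, ha, hb]
    field_simp
    linear_combination hcube n1
  set κ := a / a₀ with hκ
  have hκ0 : κ ≠ 0 := div_ne_zero ha0 ha₀
  have hκb : κ * g₀ = b := by
    refine mul_left_cancel₀ (pow_ne_zero 2 ha0) ?_
    rw [hab, ← hδ]
    have e3 := hcube hκ0
    rw [hκ] at e3 ⊢
    field_simp at e3 ⊢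
    linear_combination e3
  obtain ⟨-, N, hN, hNz, hNc⟩ := hd.exists_torus hS hF (μ := κ ^ 2) (pow_ne_zero 2 hκ0)
  have hκ4 : (κ ^ 2) ^ 2 = κ := by linear_combination κ * hcube hκ0
  -- the correcting element
  set r1 := (g.1 0 1 / d3 - κ ^ 2 * r₀') / b with hr1
  set r2 := (κ ^ 2 * r₀ + a * g.1 1 2 / d3) / a with hr2
  obtain ⟨s, hs, st, su, -⟩ := c.surj r1 r2 0 0
  have hsn : s ∈ Subgroup.normalizer (S : Set Ω) := Subgroup.le_normalizer hs
  have hMfin : conjAut s hsn * N * M₀ ∈ F.autGroup S :=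
    mul_mem (mul_mem (autInducedBy_le_autGroup le_rfl (conjAut_mem hs _)) hN) hM₀
  refine ⟨_, hMfin, (mem_autGroup_iff le_rfl).1 hMfin, fun x hx => ?_, fun z hz hza => ?_⟩
  · have m1 := autFun_mem M₀ hx
    have m2 := autFun_mem N m1
    obtain ⟨e1, e2, e3⟩ := hM₀c x hx
    obtain ⟨f1, f2, f3⟩ := hNc _ m1
    rw [Coord.conj_eq_iff, autFun_mul _ _ hx, autFun_mul _ _ m1, autFun_conjAut _ m2]
    have kt : c.t (s * autFun N (autFun M₀ x) * s⁻¹) = a * c.t x := by
      rw [c.t_conj hs m2, f1, e1, hκ4, hκ]; field_simp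
    have ku : c.u (s * autFun N (autFun M₀ x) * s⁻¹) = b * c.u x := by
      rw [c.u_conj hs m2, f2, e2, hκ4, ← hκb]; ring
    have kv : c.v (s * autFun N (autFun M₀ x) * s⁻¹) =
        a * b * c.v x + g.1 0 1 / d3 * c.u x - a * g.1 1 2 / d3 * c.t x := by
      rw [c.v_conj hs m2, f1, f2, f3, e1, e2, e3, hκ4, st, su]
      have x1 : κ ^ 2 * (a₀ * g₀) = a * b := by
        rw [← hκb, hκ]; field_simp
      have x2 : r1 * (κ * g₀) = g.1 0 1 / d3 - κ ^ 2 * r₀' := by
        rw [hκb, hr1, div_mul_cancel₀ _ hb0]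
      have x3 : κ * a₀ * r2 = κ ^ 2 * r₀ + a * g.1 1 2 / d3 := by
        rw [show κ * a₀ = a by rw [hκ]; field_simp, hr2, mul_div_cancel₀ _ ha0]
      linear_combination (c.v x) * x1 + (c.u x) * x2 - (c.t x) * x3
    simp only [Coord.phi, uniThree_val, kt, ku, kv]
    ext i j
    fin_cases i <;> fin_cases j <;>
      simp [Matrix.mul_apply, Fin.sum_univ_three, h10, h20, h21, hd1, hd2, hd3, ha, hb] <;>
      field_simp <;> ring
  · have hzS := hza.1
    rw [autFun_mul _ _ hzS, autFun_mul _ _ (autFun_mem M₀ hzS), hNz _ (hM₀a z hza),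
      autFun_conjAut _ (hM₀a z hza).1, c.conj_axis hs (hM₀a z hza), hM₀w z hza,
      Units.val_inv_eq_inv_val]
    rfl

/-- A matrix of determinant one fixing the last two rows' pattern lifts on `A`. -/
theorem exists_over_grpA {g : GL3(K)} (hdet : g.1.det = 1) (hS : IsPGroup 2 S)
    (hF : F.IsSaturated 2) (h20 : g.1 2 0 = 0) (h21 : g.1 2 1 = 0) :
    ∃ f, IsOver F c g c.grpA f := by
  have hcube : ∀ {x : K}, x ≠ 0 → x ^ 3 = 1 := fun {x} hx => (hd.exists_torus hS hF hx).1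
  obtain ⟨d3, hd3⟩ : ∃ d, g.1 2 2 = d := ⟨_, rfl⟩
  have e : d3 * (g.1 0 0 * g.1 1 1 - g.1 0 1 * g.1 1 0) = 1 := by
    rw [← hdet, Matrix.det_fin_three, h20, h21, hd3]; ring
  have n3 : d3 ≠ 0 := left_ne_zero_of_mul_eq_one e
  obtain ⟨α, hαK, hα⟩ := hd.linA.2 ⟨!![g.1 0 0 / d3, g.1 0 1 / d3; g.1 1 0 / d3, g.1 1 1 / d3], by
    rw [Matrix.det_fin_two]
    simp
    field_simp
    linear_combination d3 ^ 2 * e - (g.1 0 0 * g.1 1 1 - g.1 0 1 * g.1 1 0) * hcube n3⟩
  have hαA := CfsgLib.LS.Amal.pElementClosure_le _ hαK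
  refine ⟨autFun α, (mem_autGroup_iff c.grpA_le).1 hαA, fun x hx => ?_, fun z hz hza => ?_⟩
  · have hαx := autFun_mem α hx
    have h0 := congrFun (hα x hx) 0
    have h1 := congrFun (hα x hx) 1
    simp [Matrix.mulVec, dotProduct, Fin.sum_univ_two] at h0 h1
    rw [Coord.conj_eq_iff]
    simp only [Coord.phi, uniThree_val, hx.2, hαx.2, h0, h1]
    ext i j
    fin_cases i <;> fin_cases j <;>
      simp [Matrix.mul_apply, Fin.sum_univ_three, h20, h21, hd3] <;> field_simp <;> ring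
  · rw [hd.closureA_fix hαK hza, hdet, inv_one, one_mul]

/-- A matrix of determinant one fixing the first line lifts on `B`. -/
theorem exists_over_line {g : GL3(K)} (hdet : g.1.det = 1) (hS : IsPGroup 2 S)
    (hF : F.IsSaturated 2) (h10 : g.1 1 0 = 0) (h20 : g.1 2 0 = 0) :
    ∃ f, IsOver F c g (c.line 0) f := by
  have hcube : ∀ {x : K}, x ≠ 0 → x ^ 3 = 1 := fun {x} hx => (hd.exists_torus hS hF hx).1
  obtain ⟨d1, hd1⟩ : ∃ d, g.1 0 0 = d := ⟨_, rfl⟩
  have e : d1 * (g.1 1 1 * g.1 2 2 - g.1 1 2 * g.1 2 1) = 1 := by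
    rw [← hdet, Matrix.det_fin_three, h10, h20, hd1]; ring
  have n1 : d1 ≠ 0 := left_ne_zero_of_mul_eq_one e
  obtain ⟨α, hαK, hα⟩ := hd.linB.2 ⟨!![d1 ^ 2 * g.1 1 1, -(d1 ^ 2 * g.1 1 2);
      -(d1 ^ 2 * g.1 2 1), d1 ^ 2 * g.1 2 2], by
    rw [Matrix.det_fin_two]
    simp
    linear_combination d1 ^ 3 * e + hcube n1⟩
  have hαA := CfsgLib.LS.Amal.pElementClosure_le _ hαK
  refine ⟨autFun α, (mem_autGroup_iff (c.line_le 0)).1 hαA, fun x hx => ?_, fun z hz hza => ?_⟩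
  · have hαx := autFun_mem α hx
    have h0 := congrFun (hα x hx) 0
    have h1 := congrFun (hα x hx) 1
    simp [Matrix.mulVec, dotProduct, Fin.sum_univ_two] at h0 h1
    have u0 : c.u x = 0 := by rw [hx.2, zero_mul]
    have u1 : c.u (autFun α x) = 0 := by rw [hαx.2, zero_mul]
    rw [Coord.conj_eq_iff]
    simp only [Coord.phi, uniThree_val, u0, u1, h0, h1]
    ext i j
    fin_cases i <;> fin_cases j <;>
      simp [Matrix.mul_apply, Fin.sum_univ_three, h10, h20, hd1]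
    · linear_combination (-(d1 * c.t x)) * e
    · linear_combination (-(d1 * c.v x)) * e
  · rw [hd.closureB_fix hαK hza, hdet, inv_one, one_mul]

/-- Matrices fixing the first line lift on their domain. -/
theorem exists_over_p1 (hS : IsPGroup 2 S) (hF : F.IsSaturated 2) {g : GL3(K)}
    (hg : Matrix.GeneralLinearGroup.det g ∈ axisMul F c) (h10 : g.1 1 0 = 0) (h20 : g.1 2 0 = 0) :
    ∃ f, IsOver F c g (c.dom g) f := by
  have hne : g.1.det ≠ 0 := (Matrix.GeneralLinearGroup.det g).ne_zero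
  set δ := g.1.det with hδ
  let D : GL3(K) := Matrix.GeneralLinearGroup.mkOfDetNeZero !![δ, 0, 0; 0, 1, 0; 0, 0, 1]
    (by simp [Matrix.det_fin_three, hne])
  have hDv : D.1 = !![δ, 0, 0; 0, 1, 0; 0, 0, 1] := rfl
  have hDdet : D.1.det = δ := by rw [hDv]; simp [Matrix.det_fin_three]
  have hDmem : Matrix.GeneralLinearGroup.det D ∈ axisMul F c := by
    rwa [show Matrix.GeneralLinearGroup.det D = Matrix.GeneralLinearGroup.det g from Units.ext hDdet]
  obtain ⟨M, -, hMo⟩ := hd.exists_over_borel hS hF hDmem (by simp [hDv]) (by simp [hDv])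
    (by simp [hDv])
  set g1 := g * D⁻¹ with hg1
  have hg1det : g1.1.det = 1 := by
    have e : g1.1.det * D.1.det = g.1.det := by
      rw [← Matrix.det_mul, ← Units.val_mul, hg1, inv_mul_cancel_right]
    rw [hDdet, ← hδ] at e
    exact (mul_eq_right₀ hne).1 e
  have hg1D : g1.1 * D.1 = g.1 := by rw [← Units.val_mul, hg1, inv_mul_cancel_right]
  have k1 : g1.1 1 0 = 0 := by
    have e := congrFun (congrFun hg1D 1) 0
    rw [h10, hDv] at e
    simp [Matrix.mul_apply, Fin.sum_univ_three] at e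
    exact e.resolve_right hne
  have k2 : g1.1 2 0 = 0 := by
    have e := congrFun (congrFun hg1D 2) 0
    rw [h20, hDv] at e
    simp [Matrix.mul_apply, Fin.sum_univ_three] at e
    exact e.resolve_right hne
  have hgg : g1 * D = g := inv_mul_cancel_right g D
  obtain ⟨f1, hf1, hdomle⟩ : ∃ f1 : Ω → Ω, ∃ Q, IsOver F c g1 Q f1 ∧ c.dom g1 ≤ Q := by
    by_cases hall : c.dom g1 ≤ c.line 0
    · obtain ⟨f1, hf1⟩ := hd.exists_over_line hg1det hS hF k1 k2
      exact ⟨f1, _, hf1, hall⟩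
    · obtain ⟨x, hx, hxB⟩ := SetLike.not_le_iff_exists.1 hall
      obtain ⟨hxS, ⟨y, hy⟩, hye⟩ : x ∈ S ∧ ∃ y : S, c.phiHom y = g1 * c.phi x * g1⁻¹ := c.mem_dom.1 hx
      have e := congrFun (congrFun ((c.conj_eq_iff g1 x y).1 hye) 2) 2
      simp [Coord.phi, uniThree_val, Matrix.mul_apply, Fin.sum_univ_three, k2] at e
      have k3 : g1.1 2 1 = 0 := e.resolve_right fun h => hxB ⟨hxS, by rw [h, zero_mul]⟩
      have hg1mem : Matrix.GeneralLinearGroup.det g1 ∈ axisMul F c := by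
        rw [show Matrix.GeneralLinearGroup.det g1 = 1 from Units.ext hg1det]
        exact one_mem _
      obtain ⟨M1, -, hM1⟩ := hd.exists_over_borel hS hF hg1mem k1 k2 k3
      exact ⟨_, _, hM1, c.dom_le g1⟩
  obtain ⟨hQ, hle⟩ := hdomle
  refine ⟨_, hgg ▸ (hMo.mono (c.dom_le g)).comp (hQ.mono hle) fun x hx => ?_⟩
  have hMx := hMo.1.mem_S (c.dom_le g hx)
  rw [Coord.mem_dom]
  refine ⟨hMx, ?_⟩
  rw [hMo.2.1 x (c.dom_le g hx),
    show g1 * (D * c.phi x * D⁻¹) * g1⁻¹ = g1 * D * c.phi x * (g1 * D)⁻¹ by group, hgg]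
  exact (c.mem_dom.1 hx).2

/-- Every conjugation lifts. -/
theorem exists_over (hS : IsPGroup 2 S) (hF : F.IsSaturated 2) {g : GL3(K)}
    (hg : Matrix.GeneralLinearGroup.det g ∈ axisMul F c) :
    ∃ f, IsOver F c g (c.dom g) f := by
  have h2 : (2 : K) = 0 := CharTwo.two_eq_zero
  -- elements of the domain fix the preimage of the first vector
  have hfix : ∀ (g : GL3(K)), ∀ x ∈ c.dom g,
      c.t x * (g⁻¹).1 1 0 + c.v x * (g⁻¹).1 2 0 = 0 ∧ c.u x * (g⁻¹).1 2 0 = 0 := by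
    intro g x hx
    obtain ⟨-, ⟨y, hy⟩, hye⟩ : x ∈ S ∧ ∃ y : S, c.phiHom y = g * c.phi x * g⁻¹ := c.mem_dom.1 hx
    have e : c.phi x * g⁻¹ = g⁻¹ * c.phi y := by
      rw [show c.phi y = g * c.phi x * g⁻¹ from hye]; group
    have e' := congrArg Units.val e
    rw [Units.val_mul, Units.val_mul] at e'
    have e0 := congrFun (congrFun e' 0) 0
    have e1 := congrFun (congrFun e' 1) 0
    simp [-Matrix.coe_units_inv, Coord.phi, uniThree_val, Matrix.mul_apply, Fin.sum_univ_three]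
      at e0 e1
    exact ⟨by linear_combination e0, by simpa [mul_eq_zero] using e1⟩
  -- the first line
  have hline : ∀ g : GL3(K), (g⁻¹).1 1 0 = 0 → (g⁻¹).1 2 0 = 0 → g.1 1 0 = 0 ∧ g.1 2 0 = 0 := by
    intro g a b
    have e := congrArg Units.val (mul_inv_cancel g)
    rw [Units.val_mul, Units.val_one] at e
    have e0 := congrFun (congrFun e 0) 0
    have e1 := congrFun (congrFun e 1) 0
    have e2 := congrFun (congrFun e 2) 0
    simp [-Matrix.coe_units_inv, Matrix.mul_apply, Fin.sum_univ_three, a, b] at e0 e1 e2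
    have hn : (g⁻¹).1 0 0 ≠ 0 := fun h => by simp [h] at e0
    exact ⟨e1.resolve_right hn, e2.resolve_right hn⟩
  have case2 : ∀ g : GL3(K), Matrix.GeneralLinearGroup.det g ∈ axisMul F c → (g⁻¹).1 2 0 = 0 →
      ∃ f, IsOver F c g (c.dom g) f := by
    intro g hg hc
    by_cases hb : (g⁻¹).1 1 0 = 0
    · exact hd.exists_over_p1 hS hF hg (hline g hb hc).1 (hline g hb hc).2
    set p := (g⁻¹).1 0 0
    set q := (g⁻¹).1 1 0 with hq
    have hA : c.dom g ≤ c.grpA := fun x hx => by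
      have e := (hfix g x hx).1
      rw [hc, mul_zero, add_zero] at e
      exact ⟨c.dom_le g hx, (mul_eq_zero.1 e).resolve_right hb⟩
    have hdh : (!![0, 1, 0; 1, p / q, 0; 0, 0, 1] : Matrix (Fin 3) (Fin 3) K).det = 1 := by
      simp [Matrix.det_fin_three, CharTwo.neg_eq]
    let h : GL3(K) := Matrix.GeneralLinearGroup.mkOfDetNeZero !![0, 1, 0; 1, p / q, 0; 0, 0, 1]
      (by rw [hdh]; exact one_ne_zero)
    have hhv : h.1 = !![0, 1, 0; 1, p / q, 0; 0, 0, 1] := rfl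
    obtain ⟨f, hf⟩ := hd.exists_over_grpA (g := h) (by rw [hhv, hdh]) hS hF (by simp [hhv])
      (by simp [hhv])
    set g' := g * h⁻¹ with hg'
    have hg'mem : Matrix.GeneralLinearGroup.det g' ∈ axisMul F c := by
      rw [hg', map_mul, map_inv, show Matrix.GeneralLinearGroup.det h = 1 from Units.ext (by
        show h.1.det = 1; rw [hhv, hdh]), inv_one, mul_one]
      exact hg
    have hinv' : (g'⁻¹).1 = h.1 * (g⁻¹).1 := by
      rw [hg', _root_.mul_inv_rev, inv_inv, Units.val_mul]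
    obtain ⟨f', hf'⟩ := hd.exists_over_p1 hS hF hg'mem
      (hline g' (by
          rw [hinv', hhv]
          simp [-Matrix.coe_units_inv, Matrix.mul_apply, Fin.sum_univ_three]
          rw [← hq, show (g⁻¹).1 0 0 = p from rfl, div_mul_cancel₀ _ hb]
          linear_combination p * h2)
        (by rw [hinv', hhv]; simp [-Matrix.coe_units_inv, Matrix.mul_apply, Fin.sum_univ_three, hc])).1
      (hline g' (by
          rw [hinv', hhv]
          simp [-Matrix.coe_units_inv, Matrix.mul_apply, Fin.sum_univ_three]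
          rw [← hq, show (g⁻¹).1 0 0 = p from rfl, div_mul_cancel₀ _ hb]
          linear_combination p * h2)
        (by rw [hinv', hhv]; simp [-Matrix.coe_units_inv, Matrix.mul_apply, Fin.sum_univ_three, hc])).2
    have hgh : g' * h = g := inv_mul_cancel_right g h
    refine ⟨_, hgh ▸ (hf.mono hA).comp hf' fun x hx => ?_⟩
    rw [Coord.mem_dom, hf.2.1 x (hA hx),
      show g' * (h * c.phi x * h⁻¹) * g'⁻¹ = g' * h * c.phi x * (g' * h)⁻¹ by group, hgh]
    exact ⟨hf.1.mem_S (hA hx), (c.mem_dom.1 hx).2⟩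
  by_cases hc : (g⁻¹).1 2 0 = 0
  · exact case2 g hg hc
  set q := (g⁻¹).1 1 0
  set r := (g⁻¹).1 2 0 with hr
  have hB : c.dom g ≤ c.line 0 := fun x hx =>
    ⟨c.dom_le g hx, by rw [zero_mul]; exact (mul_eq_zero.1 (hfix g x hx).2).resolve_right hc⟩
  have hdh : (!![1, 0, 0; 0, 0, 1; 0, 1, q / r] : Matrix (Fin 3) (Fin 3) K).det = 1 := by
    simp [Matrix.det_fin_three, CharTwo.neg_eq]
  let h : GL3(K) := Matrix.GeneralLinearGroup.mkOfDetNeZero !![1, 0, 0; 0, 0, 1; 0, 1, q / r]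
    (by rw [hdh]; exact one_ne_zero)
  have hhv : h.1 = !![1, 0, 0; 0, 0, 1; 0, 1, q / r] := rfl
  obtain ⟨f, hf⟩ := hd.exists_over_line (g := h) (by rw [hhv, hdh]) hS hF (by simp [hhv])
    (by simp [hhv])
  set g' := g * h⁻¹ with hg'
  have hg'mem : Matrix.GeneralLinearGroup.det g' ∈ axisMul F c := by
    rw [hg', map_mul, map_inv, show Matrix.GeneralLinearGroup.det h = 1 from Units.ext (by
      show h.1.det = 1; rw [hhv, hdh]), inv_one, mul_one]
    exact hg
  obtain ⟨f', hf'⟩ := case2 g' hg'mem (by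
    rw [hg', _root_.mul_inv_rev, inv_inv, Units.val_mul, hhv]
    simp [-Matrix.coe_units_inv, Matrix.mul_apply, Fin.sum_univ_three]
    rw [← hr, show (g⁻¹).1 1 0 = q from rfl, div_mul_cancel₀ _ hc]
    linear_combination q * h2)
  have hgh : g' * h = g := inv_mul_cancel_right g h
  refine ⟨_, hgh ▸ (hf.mono hB).comp hf' fun x hx => ?_⟩
  rw [Coord.mem_dom, hf.2.1 x (hB hx),
    show g' * (h * c.phi x * h⁻¹) * g'⁻¹ = g' * h * c.phi x * (g' * h)⁻¹ by group, hgh]
  exact ⟨hf.1.mem_S (hB hx), (c.mem_dom.1 hx).2⟩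

end TwoData

end CfsgLib.SylowLie.SpFour
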