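import Cfsg.Agent.Lib.SylowLie.SpFour.TwoCoord

/-!
# Characteristic two: the module at `A`

The fixed vectors of the automizer form one of the two coordinate axes of the centre; when it is the
`w`-axis, the quotient is the natural module in suitable coordinates.
-/

set_option autoImplicit false
set_option linter.style.haveILetI false
set_option maxHeartbeats 1600000

open Subgroup Matrix
open scoped Classical

namespace CfsgLib.SylowLie.SpFour

open CfsgLib.Fusion
open Cfsg (FusionSystem autInducedBy pElementClosure)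
open Cfsg.FusionSystem (normalizerIn centralizerIn)

local notation "SL2(" F ")" => Matrix.SpecialLinearGroup (Fin 2) F

/-- Fixed vectors of a nontrivial element of `SL₂` are proportional. -/
theorem fixed_proportional {F : Type*} [Field F] {g : SL2(F)} (hg : g ≠ 1) {a x : Fin 2 → F}
    (ha : a ≠ 0) (hga : g.1.mulVec a = a) (hgx : g.1.mulVec x = x) : ∃ r : F, x = r • a := by
  by_cases hd : a 0 * x 1 - a 1 * x 0 = 0
  · by_cases h0 : a 0 = 0
    · have h1 : a 1 ≠ 0 := fun h1 => ha (by ext i; fin_cases i <;> simp [h0, h1])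
      rw [h0, zero_mul, zero_sub, neg_eq_zero] at hd
      refine ⟨x 1 / a 1, ?_⟩
      ext i
      fin_cases i <;> simp [h0, (mul_eq_zero.1 hd).resolve_left h1, h1]
    · refine ⟨x 0 / a 0, ?_⟩
      ext i
      fin_cases i <;> simp [h0]
      field_simp
      linear_combination hd
  · exfalso
    have e0 := congrFun hga 0
    have e1 := congrFun hga 1
    have f0 := congrFun hgx 0
    have f1 := congrFun hgx 1
    simp only [Matrix.mulVec, dotProduct, Fin.sum_univ_two] at e0 e1 f0 f1
    refine hg (Subtype.ext (Matrix.ext fun i j => ?_))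
    fin_cases i <;> fin_cases j <;> simp only [Fin.zero_eta, Fin.mk_one,
      Matrix.SpecialLinearGroup.coe_one, Matrix.one_apply_eq, Matrix.one_apply,
      Fin.one_eq_zero_iff, OfNat.ofNat_ne_one, zero_ne_one, one_ne_zero, if_false] <;>
      apply mul_right_cancel₀ hd
    · linear_combination x 1 * e0 - a 1 * f0
    · linear_combination a 0 * f0 - x 0 * e0
    · linear_combination x 1 * e1 - a 1 * f1
    · linear_combination a 0 * f1 - x 0 * e1

variable {Ω : Type*} [Group Ω] {S : Subgroup Ω} [Finite S] {K : Type*} [Field K] [CharP K 2]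
  {F : FusionSystem S} (c : Coord S K)

/-- The vectors of `A` fixed by the elements of odd index of the automizer. -/
def fixA (F : FusionSystem S) (c : Coord S K) : Subgroup Ω where
  carrier := {x | x ∈ c.grpA ∧ ∀ α ∈ pElementClosure 2 (F.autGroup c.grpA), autFun α x = x}
  one_mem' := ⟨one_mem _, fun α _ => autFun_map_one α⟩
  mul_mem' := fun {x y} hx hy => ⟨mul_mem hx.1 hy.1, fun α hα => by
    rw [autFun_map_mul α hx.1 hy.1, hx.2 α hα, hy.2 α hα]⟩
  inv_mem' := fun {x} hx => ⟨inv_mem hx.1, fun α hα => by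
    refine eq_inv_of_mul_eq_one_left ?_
    conv_lhs => arg 2; rw [← hx.2 α hα]
    rw [← autFun_map_mul α (inv_mem hx.1) hx.1, inv_mul_cancel, autFun_map_one]⟩

theorem fixA_le : fixA F c ≤ c.grpA := fun _ h => h.1

include c in
theorem fixA_invariant {α : MulAut c.grpA} (hα : α ∈ F.autGroup c.grpA) {x : Ω}
    (hx : x ∈ fixA F c) : autFun α x ∈ fixA F c := by
  refine ⟨autFun_mem α hx.1, fun β hβ => ?_⟩
  have h := hx.2 (α⁻¹ * β * α) (by
    have := (Subgroup.mem_normalizer_iff.1 (CfsgLib.LS.Amal.le_normalizer_pElementClosure (p := 2)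
      (F.autGroup c.grpA) (inv_mem hα)) β).1 hβ
    rwa [inv_inv] at this)
  rw [autFun_mul _ _ hx.1, autFun_mul _ _ (autFun_mem α hx.1)] at h
  have h' := congrArg (autFun α) h
  rwa [autFun_inv_apply α (autFun_mem β (autFun_mem α hx.1))] at h'

include c in
/-- An automorphism trivial on the fixed vectors and modulo them is trivial. -/
theorem eq_one_of_mod_fixA (hS : IsPGroup 2 S) (hE : F.IsEssential 2 c.grpA)
    {α : MulAut c.grpA} (hα : α ∈ F.autGroup c.grpA)
    (h1 : ∀ x ∈ c.grpA, x⁻¹ * autFun α x ∈ fixA F c) (h2 : ∀ x ∈ fixA F c, autFun α x = x) :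
    α = 1 := by
  haveI := finite_of_le c.grpA_le
  haveI := finite_mulAut (P := c.grpA)
  have hinv : ∀ a ∈ F.autGroup c.grpA, ∀ x ∈ fixA F c, autFun a x ∈ fixA F c :=
    fun a ha x hx => fixA_invariant c ha hx
  have hbot : ∀ a ∈ F.autGroup c.grpA, ∀ x ∈ (⊥ : Subgroup Ω), autFun a x ∈ (⊥ : Subgroup Ω) :=
    fun a _ x hx => by
      rw [Subgroup.mem_bot] at hx ⊢
      subst hx
      exact autFun_map_one a
  let N : Subgroup (F.autGroup c.grpA) :=
    relStab (F.autGroup c.grpA) c.grpA (fixA F c) hinv le_rfl (fixA_le c)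
        (fun a _ x hx => autFun_mem a hx) ⊓
      relStab (F.autGroup c.grpA) (fixA F c) ⊥ hbot (fixA_le c) bot_le hinv
  have hNn : N.Normal := by
    haveI h1 := relStab_normal (X := F.autGroup c.grpA) (L := c.grpA) (M := fixA F c)
      (hM := hinv) (hLP := le_rfl) (hMP := fixA_le c) (hL := fun a _ x hx => autFun_mem a hx)
    haveI h2 := relStab_normal (X := F.autGroup c.grpA) (L := fixA F c) (M := ⊥)
      (hM := hbot) (hLP := fixA_le c) (hMP := bot_le) (hL := hinv)
    exact Subgroup.normal_inf_normal _ _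
  have hNp : IsPGroup 2 N := by
    intro β
    refine ⟨1, Subtype.ext (Subtype.ext (autFun_ext fun x hx => ?_))⟩
    obtain ⟨b1, b2⟩ := Subgroup.mem_inf.1 β.2
    have hr := mem_relStab.1 b1 x hx
    set r := x⁻¹ * autFun ((β : F.autGroup c.grpA) : MulAut c.grpA) x with hr'
    have hrfix : autFun ((β : F.autGroup c.grpA) : MulAut c.grpA) r = r := by
      have := mem_relStab.1 b2 r hr
      rw [Subgroup.mem_bot, inv_mul_eq_one] at this
      exact this.symm
    have e : autFun ((β : F.autGroup c.grpA) : MulAut c.grpA) x = x * r := by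
      rw [hr', mul_inv_cancel_left]
    simp only [pow_one, Subgroup.coe_pow, Subgroup.coe_one]
    rw [pow_two, autFun_mul _ _ hx, autFun_one hx, e, autFun_map_mul _ hx (fixA_le c hr), e, hrfix,
      mul_assoc, (c.sq_eq_one_iff_two (fixA_le c hr).1).2 (by rw [(fixA_le c hr).2, zero_mul]),
      mul_one]
  have hmem : (⟨α, hα⟩ : F.autGroup c.grpA) ∈ Cfsg.pCore 2 (F.autGroup c.grpA) := by
    refine CfsgLib.Coprime.le_pCore (hN := hNn) hNp (Subgroup.mem_inf.2 ⟨?_, ?_⟩)
    · rw [mem_relStab]; exact h1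
    · rw [mem_relStab]
      intro z hz
      rw [Subgroup.mem_bot, inv_mul_eq_one]
      exact (h2 z hz).symm
  obtain ⟨b, hb⟩ : α ∈ Cfsg.Inn c.grpA := by
    rw [← (isEssential_centric_radical hS hE).2.2]
    exact ⟨_, hmem, rfl⟩
  refine autFun_ext fun x hx => ?_
  rw [← hb, autFun_apply _ hx, autFun_one hx]
  show (b : Ω) * x * (b : Ω)⁻¹ = x
  rw [(c.commute_grpA b.2 hx).eq, mul_inv_cancel_right]

include c in
theorem natural_two (hS : IsPGroup 2 S) (hF : F.IsSaturated 2) (hE : F.IsEssential 2 c.grpA) :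
    ∃ (Fk : Type) (_ : Field Fk) (_ : Fintype Fk), Fintype.card Fk = Nat.card K ∧
      ∃ ψ : K × K × K →+ (Fin 2 → Fk), Function.Surjective ψ ∧
        (∀ x ∈ c.grpA, ψ (c.u x, c.v x, c.w x) = 0 ↔ x ∈ fixA F c) ∧
        Nat.card (fixA F c) = Nat.card K ∧
        (∀ α ∈ pElementClosure 2 (F.autGroup c.grpA), ∃ g : SL2(Fk), ∀ x ∈ c.grpA,
          ψ (c.u (autFun α x), c.v (autFun α x), c.w (autFun α x)) =
            g.1.mulVec (ψ (c.u x, c.v x, c.w x))) ∧
        ∀ g : SL2(Fk), ∃ α ∈ pElementClosure 2 (F.autGroup c.grpA), ∀ x ∈ c.grpA,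
          ψ (c.u (autFun α x), c.v (autFun α x), c.w (autFun α x)) =
            g.1.mulVec (ψ (c.u x, c.v x, c.w x)) := by
  haveI := finite_field c
  set A := c.grpA with hA
  have hN : normalizerIn S A = S :=
    le_antisymm inf_le_left (c.le_normalizerIn_of_grpD_le c.grpA_le c.grpD_le_grpA)
  have h2 : (2 : K) = 0 := CharTwo.two_eq_zero
  let L : Layer F A (K × K × K) :=
    { f := fun x => (c.u x, c.v x, c.w x)
      f_mul := fun {x y} hx hy => by
        refine Prod.ext (c.u_mul hx.1 hy.1) (Prod.ext ?_ ?_)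
        · show c.v (x * y) = c.v x + c.v y
          rw [c.v_mul hx.1 hy.1, hx.2]; ring
        · show c.w (x * y) = c.w x + c.w y
          rw [c.w_mul hx.1 hy.1, hx.2]; ring
      surj := fun ⟨a, b, d⟩ => by
        obtain ⟨x, hx, e1, e2, e3, e4⟩ := c.surj 0 a b d
        exact ⟨x, ⟨hx, e1⟩, by rw [e2, e3, e4]⟩
      inv := fun α _ x hx h => by
        simp only [Prod.mk_eq_zero] at h ⊢
        have : x = 1 := (c.eq_one_iff hx.1).2 ⟨hx.2, h.1, h.2.1, h.2.2⟩
        subst this
        rw [autFun_map_one, c.u_one, c.v_one, c.w_one]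
        simp }
  have hfinj : ∀ x ∈ A, ∀ y ∈ A, L.f x = L.f y → x = y := fun x hx y hy h => by
    simp only [L, Prod.mk.injEq] at h
    exact c.ext hx.1 hy.1 (hx.2.trans hy.2.symm) h.1 h.2.1 h.2.2
  have hsA : ∀ s ∈ S, ∀ x ∈ A, s * x * s⁻¹ ∈ A := fun s hs x hx =>
    ⟨c.conj_mem hs hx.1, by rw [c.t_conj hs hx.1, hx.2]⟩
  have hconj : ∀ s ∈ S, ∀ x ∈ A,
      L.f (s * x * s⁻¹) = L.f x + (0, c.t s * c.u x, c.t s ^ 2 * c.u x) := fun s hs x hx => by
    simp only [L]
    rw [c.u_conj hs hx.1, c.v_conj hs hx.1, c.w_conj hs hx.1, hx.2, h2]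
    refine Prod.ext (by simp) (Prod.ext ?_ ?_) <;> simp
  have hrel : A.relIndex S = Nat.card K := by
    refine relIndex_eq_card c.t (fun a ha b hb => c.t_mul ha hb) (fun m => ?_) fun x hx => ?_
    · obtain ⟨x, hx, e, -⟩ := c.surj m 0 0 0
      exact ⟨x, hx, e⟩
    · exact ⟨fun h => ⟨hx, h⟩, fun h => h.2⟩
  obtain ⟨Fk, iFk, iFkf, hcard, ψ, hψs, hψ0, hcl, hlift⟩ := exists_natural_layer hS hF hE L
    (fun v => by rw [nsmul_eq_mul]; ext <;> simp [h2])
    (fun n hn x hx => by rw [(c.commute_grpA hn hx).eq, mul_inv_cancel_right])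
    (fun α _ h => by
      have : α = 1 := autFun_ext fun x hx => by
        rw [autFun_one hx]; exact hfinj _ (autFun_mem α hx) _ hx (h x hx)
      subst this
      exact one_mem _)
    (fun s hs r hr x hx => by
      rw [hconj s hs.1 _ (hsA r hr.1 x hx), hconj r hr.1 x hx, hconj r hr.1 _ (hsA s hs.1 x hx),
        hconj s hs.1 x hx, c.u_conj hr.1 hx.1, c.u_conj hs.1 hx.1, add_right_comm])
    (by
      rw [hN, hrel, Nat.card_prod]
      refine Nat.mul_le_mul_left _ (Nat.card_le_card_of_injective (fun b => ⟨(0, b), ?_⟩) ?_)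
      · intro s hs x hx hxv
        have hu : c.u x = 0 := congrArg Prod.fst hxv
        rw [hconj s hs x hx, hxv, hu]
        simp
      · intro a b h
        simpa using h)
  rw [hN, hrel] at hcard
  have hker : ∀ x ∈ A, ψ (L.f x) = 0 ↔ x ∈ fixA F c := fun x hx => by
    rw [hψ0]
    constructor
    · exact fun h => ⟨hx, fun α hα => hfinj _ (autFun_mem α hx) _ hx (h α hα x hx rfl)⟩
    · intro h α hα y hy he
      rw [hfinj y hy x hx he, h.2 α hα]
  refine ⟨Fk, iFk, iFkf, hcard, ψ, hψs, hker, ?_, hcl, hlift⟩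
  have hK : Nat.card ψ.ker = Nat.card K := by
    have h := AddSubgroup.card_eq_card_quotient_mul_card_addSubgroup ψ.ker
    rw [Nat.card_congr (QuotientAddGroup.quotientKerEquivOfSurjective ψ hψs).toEquiv, Nat.card_fun,
      Nat.card_fin, Nat.card_eq_fintype_card (α := Fk), hcard, Nat.card_prod, Nat.card_prod] at h
    have hpos : 0 < Nat.card K ^ 2 := pow_pos Nat.card_pos 2
    exact (Nat.eq_of_mul_eq_mul_left hpos (by rw [← h]; ring)).symm
  rw [← hK]
  exact Nat.card_congr (Equiv.ofBijective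
    (fun x : fixA F c => (⟨L.f x, (hker x x.2.1).2 x.2⟩ : ψ.ker))
    ⟨fun x y h => Subtype.ext (hfinj _ x.2.1 _ y.2.1 (congrArg Subtype.val h)), fun v => by
      obtain ⟨x, hx, hxv⟩ := L.surj v.1
      exact ⟨⟨x, (hker x hx).1 (by rw [hxv]; exact v.2)⟩, Subtype.ext hxv⟩⟩)

end CfsgLib.SylowLie.SpFour
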