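import Cfsg.Agent.Lib.SylowLie.SpFour.TwoSide
import Cfsg.Agent.Lib.Fusion.System.MaxClassWitness
import Mathlib.Algebra.Group.Shrink
import Mathlib.Algebra.Group.TransferInstance

/-!
# Characteristic two: a system with central core is realized by the extension
-/

set_option autoImplicit false
set_option linter.style.haveILetI false
set_option maxHeartbeats 1600000

open Subgroup Matrix
open scoped Classical

namespace CfsgLib.SylowLie.SpFour

open CfsgLib.Fusion
open Cfsg (FusionSystem autInducedBy pElementClosure)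
open Cfsg.FusionSystem (normalizerIn centralizerIn)
open CfsgLib.Fusion.MaxClassWitness (pulled pulled_isRealizedBy)

universe u v

local notation "GL3(" F ")" => GL (Fin 3) F
local notation "SL2(" F ")" => Matrix.SpecialLinearGroup (Fin 2) F

section Pulled

variable {Ω : Type u} [Group Ω] {S : Subgroup Ω} {L : Type*} [Group L] {ι : S →* L}

/-- The maps of a pulled back system. -/
theorem isMap_pulled_iff_acts (hι : Function.Injective ι) {P : Subgroup Ω} {f : Ω → Ω} :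
    IsMap (pulled ι hι) P f ↔ P ≤ S ∧ ∃ l, Acts ι l P f := by
  constructor
  · rintro ⟨φ, ⟨hP, hφ, g, hg⟩, he⟩
    refine ⟨hP, g, fun x hx => ?_⟩
    have h : f x ∈ S := he ⟨x, hx⟩ ▸ hφ ⟨x, hx⟩
    refine ⟨h, ?_⟩
    rw [jmap_eq ι h, jmap_eq ι (hP hx), ← hg ⟨x, hx⟩]
    exact congrArg ι (Subtype.ext (he ⟨x, hx⟩).symm)
  · rintro ⟨hP, g, h⟩
    have hmul : ∀ x y : P, f ((x * y : P) : Ω) = f x * f y := fun x y => by
      obtain ⟨hx, ex⟩ := h x x.2
      obtain ⟨hy, ey⟩ := h y y.2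
      obtain ⟨hxy, exy⟩ := h _ (x * y).2
      have e : jmap ι (f ((x * y : P) : Ω)) = jmap ι (f x * f y) := by
        rw [exy, jmap_mul ι hx hy, ex, ey, Subgroup.coe_mul, jmap_mul ι (hP x.2) (hP y.2)]
        group
      rw [jmap_eq ι hxy, jmap_eq ι (S.mul_mem hx hy)] at e
      exact congrArg Subtype.val (hι e)
    refine ⟨MonoidHom.mk' (fun x : P => f x) hmul, ⟨hP, fun x => (h x x.2).1, g, fun x => ?_⟩,
      fun x => rfl⟩
    exact (jmap_eq ι (h x x.2).1).symm.trans ((h x x.2).2.trans (by rw [jmap_eq ι (hP x.2)]))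

theorem mem_autGroup_pulled_iff (hι : Function.Injective ι) {P : Subgroup Ω} (hP : P ≤ S)
    {α : MulAut P} : α ∈ (pulled ι hι).autGroup P ↔ ∃ l, Acts ι l P (autFun α) := by
  rw [mem_autGroup_iff hP, isMap_pulled_iff_acts hι]
  exact ⟨fun h => h.2, fun h => ⟨hP, h⟩⟩

end Pulled

variable {Ω : Type u} [Group Ω] {S : Subgroup Ω} [Finite S] {K : Type v} [Field K] [CharP K 2]
  {F : FusionSystem S} {c : Coord S K}

/-- Commutators only depend on the classes modulo the axis. -/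
theorem comm_congr {s x z z' : Ω} (hs : s ∈ S) (hx : x ∈ S) (hz : z ∈ c.axis) (hz' : z' ∈ c.axis) :
    (x * z')⁻¹ * (s * z * (x * z') * (s * z)⁻¹) = x⁻¹ * (s * x * s⁻¹) := by
  have c1 : ∀ {a b}, a ∈ S → b ∈ c.axis → b * a = a * b := fun {a b} ha hb =>
    (Subgroup.mem_centralizer_iff.1 (c.axis_central hb).2 a ha).symm
  have e1 : s * z * (x * z') * (s * z)⁻¹ = s * x * s⁻¹ * z' := by
    rw [_root_.mul_inv_rev, mul_assoc s z (x * z'), c1 (S.mul_mem hx hz'.1) hz]
    calc s * (x * z' * z) * (z⁻¹ * s⁻¹) = s * x * (z' * s⁻¹) := by group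
      _ = s * x * s⁻¹ * z' := by rw [c1 (S.inv_mem hs) hz']; group
  rw [e1, _root_.mul_inv_rev]
  calc z'⁻¹ * x⁻¹ * (s * x * s⁻¹ * z') = z'⁻¹ * (x⁻¹ * (s * x * s⁻¹)) * z' := by group
    _ = x⁻¹ * (s * x * s⁻¹) := by
      rw [mul_assoc z'⁻¹, ← c1 (S.mul_mem (S.inv_mem hx) (c.conj_mem hs hx)) hz', inv_mul_cancel_left]

namespace TwoData

variable (hd : TwoData F c)

include hd

/-- An element of the automizer of `S` lies over a Borel matrix. -/
theorem exists_isOver_of_aut (hS : IsPGroup 2 S) (hF : F.IsSaturated 2) {M : MulAut S}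
    (hM : M ∈ F.autGroup S) :
    ∃ g : GL3(K), Matrix.GeneralLinearGroup.det g ∈ axisMul F c ∧ IsOver F c g S (autFun M) := by
  obtain ⟨a, m, r, r', ha, hm, hMc, hMw⟩ := hd.aut_shape hS hF hM
  have hcube : ∀ {x : K}, x ≠ 0 → x ^ 3 = 1 := fun {x} hx => (hd.exists_torus hS hF hx).1
  let g : GL3(K) := Matrix.GeneralLinearGroup.mkOfDetNeZero !![a * m, r', 0; 0, m, r / a; 0, 0, 1]
    (by rw [Matrix.det_fin_three]; simp [ha, hm])
  have hgv : g.1 = !![a * m, r', 0; 0, m, r / a; 0, 0, 1] := rfl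
  have hdet : g.1.det = a * m * m := by rw [hgv, Matrix.det_fin_three]; simp
  have hinv : g.1.det⁻¹ = a ^ 2 * m := inv_eq_of_mul_eq_one_right (by
    rw [hdet]; linear_combination m ^ 3 * hcube ha + hcube hm)
  refine ⟨g, ?_, (mem_autGroup_iff le_rfl).1 hM, fun x hx => ?_, fun z _ hz => by rw [hinv, hMw z hz]⟩
  · have h : (Matrix.GeneralLinearGroup.det g)⁻¹ ∈ axisMul F c :=
      ⟨M, hM, fun z hz => hd.autFun_axis hS hF hM hz, fun z hz => by
        rw [hMw z hz, Units.val_inv_eq_inv_val]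
        show _ = g.1.det⁻¹ * _
        rw [hinv]⟩
    have h' := hd.axisMul_inv hS hF h
    rwa [inv_inv] at h'
  · obtain ⟨e1, e2, e3⟩ := hMc x hx
    rw [Coord.conj_eq_iff]
    simp only [Coord.phi, uniThree_val, e1, e2, e3, hgv]
    ext i j
    fin_cases i <;> fin_cases j <;> simp [Matrix.mul_apply, Fin.sum_univ_three] <;>
      (try field_simp) <;>
      first | linear_combination (-(r * c.t x)) * CharTwo.two_eq_zero (R := K) | linear_combination (r * c.t x) * CharTwo.two_eq_zero (R := K) | ring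

variable {L : Type*} [Group L] {ι : S →* L} {π : L →* GL3(K)}

/-- Agreement on one side. -/
theorem side_agree (hS : IsPGroup 2 S) (hE : IsExt F c ι π) (sd : Side F c) (hag : sd.Agree ι π)
    {M : MulAut S} (hM : M ∈ F.autGroup S) {l : L} (hl : IsOver F c (π l) S (autFun M))
    (hD : Acts ι l c.grpD (autFun M)) : Acts ι l sd.P (autFun M) := by
  have hag' := hag
  obtain ⟨α, hαK, hαc, l0, hl0, hla⟩ := hag'
  obtain ⟨μ, hμ, hμM⟩ := exists_res sd.le hM fun x hx => sd.invariant hM hx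
  set α' := μ * α * μ⁻¹ with hα'0
  have hα'K : α' ∈ pElementClosure 2 (F.autGroup sd.P) :=
    (Subgroup.mem_normalizer_iff.1
      (CfsgLib.LS.Amal.le_normalizer_pElementClosure (p := 2) _ hμ) _).1 hαK
  have hα'μ : ∀ x ∈ sd.P, autFun α' (autFun M x) = autFun M (autFun α x) := fun x hx => by
    rw [← hμM x hx, ← hμM _ (autFun_mem α hx), hα'0, autFun_mul _ _ (autFun_mem μ hx),
      autFun_apply_inv μ hx, autFun_mul _ _ hx]
  set l' := l * l0 * l⁻¹ with hl'0
  have hphi : ∀ x ∈ sd.P, c.phi (autFun α' x) = π l' * c.phi x * (π l')⁻¹ := by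
    intro x hx
    have hy := autFun_mem μ⁻¹ hx
    have hxe : autFun M (autFun μ⁻¹ x) = x := by rw [← hμM _ hy, autFun_inv_apply μ hx]
    have e := hl.2.1 _ (sd.le hy)
    rw [hxe] at e
    have e2 := hα'μ _ hy
    rw [hxe] at e2
    rw [e2, hl.2.1 _ (sd.le (autFun_mem α hy)), sd.phi_of_coords hαc hy, ← hl0, e, hl'0, map_mul,
      map_mul, map_inv]
    group
  obtain ⟨β, hβ, hβa⟩ := sd.det_one_acts hS hE hag (l := l') (by
    rw [hl'0, map_mul, map_mul, Units.val_mul, Units.val_mul, Matrix.det_mul_right_comm,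
      ← Units.val_mul, ← map_mul, mul_inv_cancel, map_one, Units.val_one, one_mul, hl0, sd.det_blk])
    fun x hx => ⟨_, autFun_mem α' hx, hphi x hx⟩
  have hβα : β = α' := by
    refine sd.unique (sd.closure_le hβ) (sd.closure_le hα'K) (fun x hx => ?_) (sd.fix hβ) (sd.fix hα'K)
    have e := c.phi_eq_iff.1 ((hE.acts_phi sd.le hβa hx).trans (hphi x hx).symm)
    exact ⟨sd.q_congr e, e.2.2⟩
  intro x hx
  obtain ⟨x1, hx1, x1v, x1q⟩ := sd.surjP 0 (sd.q x)
  have hd' : x1⁻¹ * x ∈ c.grpD := by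
    refine sd.mem_grpD (mul_mem (inv_mem hx1) hx) ?_
    have e := sd.mul_q hx1 (mul_mem (inv_mem hx1) hx)
    rw [mul_inv_cancel_left, x1q] at e
    exact left_eq_add.1 e
  have hax1 : autFun α x1 ∈ c.grpD := sd.mem_grpD (autFun_mem α hx1) (by
    have e := congrFun (hαc x1 hx1) 1
    simpa [swp, Matrix.mulVec, dotProduct, Fin.sum_univ_two, x1v] using e)
  have hMx1 := sd.invariant hM hx1
  obtain ⟨y, hyS, hy3, hyl⟩ := hE.exists_conj (l := l) (sd.le hx1) (sd.le hMx1)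
    (hl.2.1 x1 (sd.le hx1))
  have hyP := sd.mem_of_eq3 hyS hMx1 hy3
  have e1 : jmap ι (autFun β y) = jmap ι (autFun M (autFun α x1)) := by
    rw [(hβa y hyP).2, (hD _ hax1).2, (hla x1 hx1).2, hyl, hl'0]
    group
  have e2 := hE.jmap_inj (hβa y hyP).1 (hD _ hax1).1 e1
  rw [← hα'μ x1 hx1, ← hβα] at e2
  have e3 := congrArg (autFun β⁻¹) e2
  rw [autFun_apply_inv β hyP, autFun_apply_inv β hMx1] at e3
  have h1 : jmap ι (autFun M x1) = l * jmap ι x1 * l⁻¹ := e3 ▸ hyl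
  refine ⟨(sd.le (sd.invariant hM hx)), ?_⟩
  conv_lhs => rw [show x = x1 * (x1⁻¹ * x) by rw [mul_inv_cancel_left]]
  conv_rhs => rw [show x = x1 * (x1⁻¹ * x) by rw [mul_inv_cancel_left]]
  rw [autFun_map_mul M (sd.le hx1) hd'.1, jmap_mul ι (autFun_mem M (sd.le hx1)) (autFun_mem M hd'.1),
    h1, (hD _ hd').2, jmap_mul ι (sd.le hx1) hd'.1]
  group

variable (hS : IsPGroup 2 S) (hF : F.IsSaturated 2) (hE : IsExt F c ι π)
  (hA : (hd.sideA hS hF).Agree ι π) (hB : (hd.sideB hS hF).Agree ι π)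

include hS hF hE hA hB

/-- An element of the automizer of `S` and a conjugation over the same matrix agree. -/
theorem acts_of_isOver {M : MulAut S} (hM : M ∈ F.autGroup S) {l : L}
    (hl : IsOver F c (π l) S (autFun M)) : Acts ι l S (autFun M) := by
  have hax : ∀ z ∈ c.axis, jmap ι (autFun M z) = l * jmap ι z * l⁻¹ := fun z hz =>
    (hE.conj_axis l z hz _ (hd.autFun_axis hS hF hM hz) (hl.2.2 z hz.1 hz)).symm
  have hD : Acts ι l c.grpD (autFun M) := by
    intro d hd'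
    refine ⟨autFun_mem M hd'.1, ?_⟩
    obtain ⟨s, hs, st, su, -⟩ := c.surj (c.v d) 0 0 0
    obtain ⟨x, hx, xt, xu, -⟩ := c.surj 0 1 0 0
    set k := x⁻¹ * (s * x * s⁻¹) with hk
    have hkS : k ∈ S := S.mul_mem (S.inv_mem hx) (c.conj_mem hs hx)
    have hz : k⁻¹ * d ∈ c.axis := by
      obtain ⟨k1, k2, k3⟩ := c.comm_coords hs hx
      refine c.inv_mul_mem_axis hkS hd'.1 ⟨k1.trans hd'.2.1.symm, k2.trans hd'.2.2.symm, ?_⟩
      rw [hk, k3, st, su, xt, xu]; ring
    obtain ⟨s', hs', s3, sl⟩ := hE.exists_conj (l := l) hs (autFun_mem M hs) (hl.2.1 s hs)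
    obtain ⟨x', hx', x3, xl⟩ := hE.exists_conj (l := l) hx (autFun_mem M hx) (hl.2.1 x hx)
    have hzs := c.inv_mul_mem_axis (autFun_mem M hs) hs' ⟨s3.1.symm, s3.2.1.symm, s3.2.2.symm⟩
    have hzx := c.inv_mul_mem_axis (autFun_mem M hx) hx' ⟨x3.1.symm, x3.2.1.symm, x3.2.2.symm⟩
    have e := comm_congr (c := c) (autFun_mem M hs) (autFun_mem M hx) hzs hzx
    rw [mul_inv_cancel_left, mul_inv_cancel_left] at e
    have hMk : autFun M k = x'⁻¹ * (s' * x' * s'⁻¹) := by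
      rw [e, hk, autFun_map_mul M (S.inv_mem hx) (c.conj_mem hs hx), autFun_map_conj M hs hx,
        show autFun M x⁻¹ = (autFun M x)⁻¹ from eq_inv_of_mul_eq_one_left (by
          rw [← autFun_map_mul M (S.inv_mem hx) hx, inv_mul_cancel, autFun_map_one])]
    have hjk : jmap ι (autFun M k) = l * jmap ι k * l⁻¹ := by
      rw [hMk, hk, jmap_mul ι (S.inv_mem hx') (c.conj_mem hs' hx'),
        jmap_mul ι (S.mul_mem hs' hx') (S.inv_mem hs'), jmap_mul ι hs' hx', jmap_inv ι hx',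
        jmap_inv ι hs', jmap_mul ι (S.inv_mem hx) (c.conj_mem hs hx),
        jmap_mul ι (S.mul_mem hs hx) (S.inv_mem hs), jmap_mul ι hs hx, jmap_inv ι hx,
        jmap_inv ι hs, sl, xl]
      group
    conv_lhs => rw [show d = k * (k⁻¹ * d) by rw [mul_inv_cancel_left]]
    conv_rhs => rw [show d = k * (k⁻¹ * d) by rw [mul_inv_cancel_left]]
    rw [autFun_map_mul M hkS hz.1, jmap_mul ι (autFun_mem M hkS) (autFun_mem M hz.1), hjk,
      hax _ hz, jmap_mul ι hkS hz.1]
    group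
  have hgA : Acts ι l c.grpA (autFun M) := hd.side_agree hS hE (hd.sideA hS hF) hA hM hl hD
  have hgB : Acts ι l (c.line 0) (autFun M) := hd.side_agree hS hE (hd.sideB hS hF) hB hM hl hD
  intro x hx
  refine ⟨autFun_mem M hx, ?_⟩
  obtain ⟨s, hs, st, su, -⟩ := c.surj (c.t x) 0 0 0
  have hsB : s ∈ c.line 0 := ⟨hs, by rw [su, zero_mul]⟩
  have ha : s⁻¹ * x ∈ c.grpA := ⟨S.mul_mem (S.inv_mem hs) hx,
    by rw [c.t_mul (S.inv_mem hs) hx, c.t_inv hs, st, neg_add_cancel]⟩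
  conv_lhs => rw [show x = s * (s⁻¹ * x) by rw [mul_inv_cancel_left]]
  conv_rhs => rw [show x = s * (s⁻¹ * x) by rw [mul_inv_cancel_left]]
  rw [autFun_map_mul M hs ha.1, jmap_mul ι (autFun_mem M hs) (autFun_mem M ha.1), (hgA _ ha).2,
    (hgB s hsB).2, jmap_mul ι hs ha.1]
  group

theorem autGroup_top_acts {M : MulAut S} (hM : M ∈ F.autGroup S) : ∃ l, Acts ι l S (autFun M) := by
  obtain ⟨g, hg, hgo⟩ := hd.exists_isOver_of_aut hS hF hM
  obtain ⟨l, hl⟩ := hE.surj g hg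
  exact ⟨l, hd.acts_of_isOver hS hF hE hA hB hM (hl.symm ▸ hgo)⟩

theorem autGroup_top_of_acts {α : MulAut S} {l : L} (hl : Acts ι l S (autFun α)) :
    α ∈ F.autGroup S := by
  set g := π l with hg
  have hrow : ∀ x ∈ S, g.1 * (c.phi x).1 = (c.phi (autFun α x)).1 * g.1 := fun x hx =>
    (c.conj_eq_iff g x _).1 (hE.acts_phi le_rfl hl hx)
  obtain ⟨x1, hx1, x1t, x1u, x1v, -⟩ := c.surj 1 0 0 0
  obtain ⟨x2, hx2, x2t, x2u, x2v, -⟩ := c.surj 0 0 1 0
  obtain ⟨x3, hx3, x3t, x3u, x3v, -⟩ := c.surj 0 1 0 0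
  have k1 := congrFun (congrFun (hrow x1 hx1) 2) 1
  have k2 := congrFun (congrFun (hrow x3 hx3) 2) 2
  have k3 := congrFun (congrFun (hrow x1 hx1) 1) 1
  simp [Coord.phi, uniThree_val, Matrix.mul_apply, Fin.sum_univ_three, x1t, x1u, x1v] at k1
  simp [Coord.phi, uniThree_val, Matrix.mul_apply, Fin.sum_univ_three, x3t, x3u, x3v] at k2
  simp [Coord.phi, uniThree_val, Matrix.mul_apply, Fin.sum_univ_three, x1t, x1u, x1v, k1, k2] at k3
  obtain ⟨M, hM, hMo⟩ := hd.exists_over_borel hS hF (hE.det_mem l) k3 k1 k2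
  have hla := hd.acts_of_isOver hS hF hE hA hB hM hMo
  rwa [autFun_ext fun x hx => hE.acts_unique hl hla hx]

/-- Automizers of a side go into the extension. -/
theorem autGroup_side_acts (sd : Side F c) (hag : sd.Agree ι π) {α : MulAut sd.P}
    (hα : α ∈ F.autGroup sd.P) : ∃ l, Acts ι l sd.P (autFun α) := by
  haveI := finite_of_le sd.le
  haveI := finite_mulAut (P := sd.P)
  haveI : Fact (Nat.Prime 2) := ⟨Nat.prime_two⟩
  have hn := sd.essP.2.1
  set A := F.autGroup sd.P with hA0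
  obtain ⟨R, hR⟩ : ∃ R : Sylow 2 A, (R : Subgroup A) = (autInducedBy S sd.P).subgroupOf A :=
    (IsSaturated.automized_receptive hS hF hn).1.2
  set N := (pElementClosure 2 A).subgroupOf A with hN
  haveI : N.Normal := ⟨fun n hn' g => by
    rw [hN, Subgroup.mem_subgroupOf] at hn' ⊢
    exact (Subgroup.mem_normalizer_iff.1
      (CfsgLib.LS.Amal.le_normalizer_pElementClosure (p := 2) _ g.2) _).1 hn'⟩
  have hRN : (R : Subgroup A) ≤ N := fun r hr => by
    rw [hR, Subgroup.mem_subgroupOf] at hr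
    exact CfsgLib.LS.Amal.isPGroup_le_pElementClosure (isPGroup_autInducedBy hS)
      (autInducedBy_le_autGroup sd.le) hr
  have htop := Sylow.normalizer_sup_eq_top' R hRN
  obtain ⟨n, hnn, m, hm, hnm⟩ := Subgroup.mem_sup_of_normal_right.1
    (htop.ge (Subgroup.mem_top (⟨α, hα⟩ : A)))
  have hext : S ≤ extSub S sd.P (autFun (n : MulAut sd.P)) := by
    intro s hs
    have hsA : conjAut s (sd.normal hs) ∈ A := autInducedBy_le_autGroup sd.le (conjAut_mem hs _)
    have hsR : (⟨_, hsA⟩ : A) ∈ (R : Subgroup A) := by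
      rw [hR, Subgroup.mem_subgroupOf]
      exact conjAut_mem hs _
    have h' := (Subgroup.mem_normalizer_iff.1 hnn _).1 hsR
    rw [hR, Subgroup.mem_subgroupOf] at h'
    obtain ⟨r, hr, hre⟩ := mem_autInducedBy_iff.1 h'
    refine ⟨⟨hs, sd.normal hs⟩, r, hr, fun x hx => ?_⟩
    have hy := autFun_mem (n : MulAut sd.P) hx
    have e := hre _ hy
    rwa [Subgroup.coe_mul, Subgroup.coe_mul, Subgroup.coe_inv, autFun_mul _ _ hy,
      autFun_apply_inv _ hx, autFun_mul _ _ hx, autFun_conjAut _ hx] at e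
  obtain ⟨f, hf, hfe⟩ := (isReceptive_iff.1 (IsSaturated.automized_receptive hS hF hn).2).2 sd.P
    (autFun (n : MulAut sd.P)) ((mem_autGroup_iff sd.le).1 n.2) (img_autFun _)
  have hfS := hf.mono hext
  have himg : img S f = S := eq_of_le_of_card_le le_rfl hfS.img_le hfS.card_img.ge
  obtain ⟨l, hl⟩ := hd.autGroup_top_acts hS hF hE hA hB (autOf_mem hfS himg)
  have hln : Acts ι l sd.P (autFun (n : MulAut sd.P)) := fun x hx => by
    have h := hl x (sd.le hx)
    rw [autFun_autOf hfS himg (sd.le hx), hfe x hx] at h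
    exact h
  obtain ⟨lm, hlm⟩ := sd.closure_acts hS hE hag (Subgroup.mem_subgroupOf.1 hm)
  refine ⟨l * lm, ?_⟩
  have := hln.mul hlm
  rwa [show (n : MulAut sd.P) * (m : MulAut sd.P) = α from congrArg Subtype.val hnm] at this

theorem autGroup_side_of_acts (sd : Side F c) (hag : sd.Agree ι π) {α : MulAut sd.P} {l : L}
    (hl : Acts ι l sd.P (autFun α)) : α ∈ F.autGroup sd.P := by
  have hne : (π l).1.det ≠ 0 := (Matrix.GeneralLinearGroup.det (π l)).ne_zero
  let D : GL3(K) := Matrix.GeneralLinearGroup.mkOfDetNeZero !![(π l).1.det, 0, 0; 0, 1, 0; 0, 0, 1]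
    (by
      generalize (π l).1.det = δ at hne ⊢
      simp [Matrix.det_fin_three, hne])
  have hDv : D.1 = !![(π l).1.det, 0, 0; 0, 1, 0; 0, 0, 1] := rfl
  have hDd : Matrix.GeneralLinearGroup.det D = Matrix.GeneralLinearGroup.det (π l) :=
    Units.ext (show D.1.det = (π l).1.det by rw [hDv, Matrix.det_fin_three]; simp)
  obtain ⟨M, hM, hMo⟩ := hd.exists_over_borel hS hF (g := D) (hDd ▸ hE.det_mem l) (by simp [hDv])
    (by simp [hDv]) (by simp [hDv])
  obtain ⟨l0, hl0⟩ := hE.surj D (hDd ▸ hE.det_mem l)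
  have hMa := hd.acts_of_isOver hS hF hE hA hB hM (l := l0) (hl0.symm ▸ hMo)
  obtain ⟨μ, hμ, hμM⟩ := exists_res sd.le hM fun x hx => sd.invariant hM hx
  have hμa : Acts ι l0 sd.P (autFun μ) :=
    Acts.congr (f := autFun M) (fun x hx => hMa x (sd.le hx)) hμM
  have hcomb := hl.mul (hμa.inv sd.le)
  obtain ⟨β, hβ, hβa⟩ := sd.det_one_acts hS hE hag (l := l * l0⁻¹) (by
    rw [map_mul, map_inv, hl0]
    show ((Matrix.GeneralLinearGroup.det (π l * D⁻¹) : Kˣ) : K) = 1
    rw [map_mul, map_inv, hDd, mul_inv_cancel, Units.val_one])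
    fun x hx => ⟨_, autFun_mem _ hx, hE.acts_phi sd.le hcomb hx⟩
  have e : α * μ⁻¹ = β := autFun_ext fun x hx => hE.acts_unique hcomb hβa hx
  rw [show α = β * μ by rw [← e, inv_mul_cancel_right]]
  exact mul_mem (sd.closure_le hβ) hμ

end TwoData

/-- Characteristic two: the system is realizable or core free. -/
theorem realizable_two (c : Coord S K) (hS : IsPGroup 2 S) (hF : F.IsSaturated 2) :
    F.IsRealizable 2 ∨ F.core = ⊥ := by
  haveI : Fact (Nat.Prime 2) := ⟨Nat.prime_two⟩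
  by_cases hQ : F.core = ⊥
  · exact Or.inr hQ
  rcases realizable_or_core_le c hS hF with hR | hQZ
  · exact Or.inl hR
  refine Or.inl ?_
  obtain ⟨c', hd⟩ := exists_twoData c hS hF hQZ hQ
  obtain ⟨L, hL, hLf, ι, π, hE, hodd⟩ := hd.exists_ext hS hF
  -- adapt the embedding on `A`
  obtain ⟨h, hh⟩ := (hd.sideA hS hF).exists_twist_agree hE
  obtain ⟨φ, hφ, hφ2⟩ := c'.exists_twist h 0
  have hE1 := hE.twist h 0 hφ hφ2
  have hA1 : (hd.sideA hS hF).Agree (ι.comp φ) π := hh φ fun x hx =>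
    ⟨(hφ _).1, (hφ _).2.trans (by rw [AddMonoidHom.zero_apply, add_zero]; rfl)⟩
  -- and on `B`
  obtain ⟨h', hh'⟩ := (hd.sideB hS hF).exists_twist_agree hE1
  obtain ⟨ψ, hψ, hψ2⟩ := c'.exists_twist 0 h'
  have hE2 := hE1.twist 0 h' hψ hψ2
  have hB : (hd.sideB hS hF).Agree ((ι.comp φ).comp ψ) π := hh' ψ fun x hx =>
    ⟨(hψ _).1, (hψ _).2.trans (by rw [AddMonoidHom.zero_apply, zero_add]; rfl)⟩
  have hA : (hd.sideA hS hF).Agree ((ι.comp φ).comp ψ) π := by
    obtain ⟨α, hα, hαc, l, hl, hla⟩ := hA1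
    refine ⟨α, hα, hαc, l, hl, ?_⟩
    have hfix : ∀ x ∈ c'.grpA, jmap ((ι.comp φ).comp ψ) x = jmap (ι.comp φ) x := by
      intro x hx
      obtain ⟨e3, ew⟩ := hψ ⟨x, hx.1⟩
      rw [jmap_eq _ hx.1, jmap_eq (ι.comp φ) hx.1, MonoidHom.comp_apply]
      refine congrArg _ (Subtype.ext (c'.ext (ψ _).2 hx.1 e3.1 e3.2.1 e3.2.2 ?_))
      rw [ew]
      show c'.w x + ((0 : K →+ K) (c'.u x) + h' (c'.t x)) = c'.w x
      rw [hx.2, map_zero, AddMonoidHom.zero_apply, add_zero, add_zero]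
    intro x hx
    refine ⟨(hla x hx).1, ?_⟩
    rw [hfix _ (autFun_mem α hx), hfix x hx]
    exact (hla x hx).2
  set ι2 := (ι.comp φ).comp ψ with hι2
  have hrange : ι2.range = ι.range := by
    refine le_antisymm (fun _ ⟨x, hx⟩ => ⟨_, hx⟩) fun _ ⟨x, hx⟩ => ⟨ψ (φ x), ?_⟩
    show ι (φ (ψ (ψ (φ x)))) = _
    rw [hψ2, hφ2, hx]
  have hnd : ¬ 2 ∣ ι2.range.index := by rw [hrange]; exact hodd.not_two_dvd_nat
  have h2g : IsPGroup 2 ι2.range := hS.of_surjective ι2.rangeRestrict ι2.rangeRestrict_surjective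
  have hreal := pulled_isRealizedBy ι2 hE2.inj
  have hsat : (pulled ι2 hE2.inj).IsSaturated 2 :=
    isSaturated_of_realized hreal hS (T := h2g.toSylow hnd) (h2g.toSylow_coe hnd)
  have h2K : (2 : K) = 0 := CharTwo.two_eq_zero
  have hFE : F ≤ pulled ι2 hE2.inj := le_of_autGroup_le hS hF fun P hP α hα => by
    rcases hP with rfl | hP
    · exact (mem_autGroup_pulled_iff _ le_rfl).2 (hd.autGroup_top_acts hS hF hE2 hA hB hα)
    · rcases essential_two c' hS hF h2K hP with rfl | rfl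
      · exact (mem_autGroup_pulled_iff _ c'.grpA_le).2
          (hd.autGroup_side_acts hS hF hE2 hA hB (hd.sideA hS hF) hA hα)
      · exact (mem_autGroup_pulled_iff _ (c'.line_le 0)).2
          (hd.autGroup_side_acts hS hF hE2 hA hB (hd.sideB hS hF) hB hα)
  have hEF : pulled ι2 hE2.inj ≤ F := le_of_autGroup_le hS hsat fun P hP α hα => by
    rcases hP with rfl | hP
    · obtain ⟨l, hl⟩ := (mem_autGroup_pulled_iff _ le_rfl).1 hα
      exact hd.autGroup_top_of_acts hS hF hE2 hA hB hl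
    · rcases essential_two c' hS hsat h2K hP with rfl | rfl
      · obtain ⟨l, hl⟩ := (mem_autGroup_pulled_iff _ c'.grpA_le).1 hα
        exact hd.autGroup_side_of_acts hS hF hE2 hA hB (hd.sideA hS hF) hA hl
      · obtain ⟨l, hl⟩ := (mem_autGroup_pulled_iff _ (c'.line_le 0)).1 hα
        exact hd.autGroup_side_of_acts hS hF hE2 hA hB (hd.sideB hS hF) hB hl
  -- into the universe of the ambient group
  haveI : Small.{u} L := inferInstance
  let e : Shrink.{u} L ≃* L := (equivShrink L).symm.mulEquiv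
  let ι' : S →* Shrink.{u} L := e.symm.toMonoidHom.comp ι2
  have hι' : ∀ x, e (ι' x) = ι2 x := fun x => e.apply_symm_apply _
  haveI : Finite (Shrink.{u} L) := Finite.of_equiv L e.symm.toEquiv
  have hr : F.IsRealizedBy ι' := by
    refine ⟨e.symm.injective.comp hE2.inj, fun P hP φ' hφ' => ⟨fun hm => ?_, fun ⟨g, hg⟩ => ?_⟩⟩
    · obtain ⟨g, hg⟩ := (hreal.2 P hP φ' hφ').1 (hFE P hm)
      exact ⟨e.symm g, fun x => e.injective (by
        rw [map_mul, map_mul, map_inv, hι', hι', e.apply_symm_apply]; exact hg x)⟩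
    · refine hEF P ((hreal.2 P hP φ' hφ').2 ⟨e g, fun x => ?_⟩)
      rw [← hι', hg x, map_mul, map_mul, map_inv, hι']
  have h2g' : IsPGroup 2 ι'.range := hS.of_surjective ι'.rangeRestrict ι'.rangeRestrict_surjective
  have hnd' : ¬ 2 ∣ ι'.range.index := by
    rw [show ι'.range = ι2.range.map e.symm.toMonoidHom from MonoidHom.range_comp _ _,
      show e.symm.toMonoidHom = (e.symm : L →* Shrink.{u} L) from rfl, Subgroup.index_map_equiv]
    exact hnd
  exact ⟨_, inferInstance, inferInstance, ι', hr, h2g'.toSylow hnd', h2g'.toSylow_coe hnd'⟩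

end CfsgLib.SylowLie.SpFour
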