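import Cfsg.Agent.Lib.SylowLie.SpFour.TwoAxis

/-!
# Characteristic two: normalised coordinates

Both essential subgroups fix the `w`-axis and act linearly modulo it.
-/

set_option autoImplicit false
set_option linter.style.haveILetI false
set_option maxHeartbeats 1600000

open Subgroup Matrix
open scoped Classical

namespace CfsgLib.SylowLie.SpFour

open CfsgLib.Fusion
open Cfsg (FusionSystem autInducedBy pElementClosure)
open Cfsg.FusionSystem (normalizerIn centralizerIn)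

local notation "SL2(" F ")" => Matrix.SpecialLinearGroup (Fin 2) F

variable {Ω : Type*} [Group Ω] {S : Subgroup Ω} [Finite S] {K : Type*} [Field K] [CharP K 2]
  {F : FusionSystem S}

/-- Normalised coordinates for a system with central core. -/
structure TwoData (F : FusionSystem S) (c : Coord S K) : Prop where
  essA : F.IsEssential 2 c.grpA
  essB : F.IsEssential 2 (c.line 0)
  fixA : ∀ x, x ∈ fixA F c ↔ x ∈ c.grpA ∧ c.u x = 0 ∧ c.v x = 0
  fixB : ∀ x, (x ∈ c.line 0 ∧ ∀ α ∈ pElementClosure 2 (F.autGroup (c.line 0)), autFun α x = x) ↔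
    x ∈ c.line 0 ∧ c.t x = 0 ∧ c.v x = 0
  linA : LinAt F c.grpA c.v c.u
  linB : LinAt F (c.line 0) c.v c.t

theorem exists_twoData (c : Coord S K) (hS : IsPGroup 2 S) (hF : F.IsSaturated 2)
    (hQZ : F.core ≤ centralizerIn S S) (hQ : F.core ≠ ⊥) : ∃ c' : Coord S K, TwoData F c' := by
  haveI := finite_field c
  haveI : Fintype K := Fintype.ofFinite K
  obtain ⟨q, hq, hq1⟩ := exists_ne_one_core hQ
  have hqfix : ∀ d : Coord S K, q ∈ fixA F d := fun d => by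
    have hE := essential_grpA_two d hS hF hQZ
    have hqA : q ∈ d.grpA := d.center_le_grpA (hQZ hq)
    exact ⟨hqA, fun α hα => fix_core hS hF hQZ hE.2.1 hα hqA hq⟩
  have hqw : ∀ d : Coord S K, d.v q = 0 → d.w q = 0 → False := fun d h1 h2 => by
    obtain ⟨hqS, qt, qu, -⟩ := d.mem_center.1 (hQZ hq)
    exact hq1 ((d.eq_one_iff hqS).2 ⟨qt, qu, h1, h2⟩)
  have hax : ∀ d : Coord S K, (∀ x, x ∈ fixA F d ↔ x ∈ S ∧ d.t x = 0 ∧ d.u x = 0 ∧ d.v x = 0) ∨
      (∀ x, x ∈ fixA F d ↔ x ∈ S ∧ d.t x = 0 ∧ d.u x = 0 ∧ d.w x = 0) :=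
    fun d => fixA_axis d hS hF (essential_grpA_two d hS hF hQZ)
  obtain ⟨hqS, qt, qu, -⟩ := c.mem_center.1 (hQZ hq)
  -- choose the orientation
  obtain ⟨d, hd1, hd2⟩ : ∃ d : Coord S K,
      (∀ x, x ∈ fixA F d ↔ x ∈ S ∧ d.t x = 0 ∧ d.u x = 0 ∧ d.v x = 0) ∧
      ∀ x, x ∈ fixA F (Coord.swap d) ↔
        x ∈ S ∧ (Coord.swap d).t x = 0 ∧ (Coord.swap d).u x = 0 ∧ (Coord.swap d).w x = 0 := by
    have case1 : ∀ d : Coord S K,
        (∀ x, x ∈ fixA F d ↔ x ∈ S ∧ d.t x = 0 ∧ d.u x = 0 ∧ d.v x = 0) →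
        ∀ x, x ∈ fixA F (Coord.swap d) ↔
          x ∈ S ∧ (Coord.swap d).t x = 0 ∧ (Coord.swap d).u x = 0 ∧ (Coord.swap d).w x = 0 := by
      intro d hd
      refine (hax (Coord.swap d)).resolve_left fun h => ?_
      obtain ⟨-, dt, du, dv⟩ := (hd q).1 (hqfix d)
      have h' := ((h q).1 (hqfix _)).2.2.2
      change d.w q + d.t q ^ 2 * d.u q = 0 at h'
      exact hqw d dv (by simpa [dt] using h')
    rcases hax c with h | h
    · exact ⟨c, h, case1 c h⟩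
    · have h' : ∀ x, x ∈ fixA F (Coord.swap c) ↔ x ∈ S ∧ (Coord.swap c).t x = 0 ∧
          (Coord.swap c).u x = 0 ∧ (Coord.swap c).v x = 0 := by
        refine (hax (Coord.swap c)).resolve_right fun h' => ?_
        have cw := ((h q).1 (hqfix c)).2.2.2
        have hh := ((h' q).1 (hqfix _)).2.2.2
        change (c.v q + c.t q * c.u q) ^ 2 = 0 at hh
        exact hqw c (by simpa [qt] using hh) cw
      exact ⟨_, h', case1 _ h'⟩
  have hEA := essential_grpA_two d hS hF hQZ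
  have hEB := essential_grpA_two (Coord.swap d) hS hF hQZ
  have hfixA : ∀ x, x ∈ fixA F d ↔ x ∈ d.grpA ∧ d.u x = 0 ∧ d.v x = 0 := fun x =>
    (hd1 x).trans ⟨fun ⟨a, b, e, f⟩ => ⟨⟨a, b⟩, e, f⟩, fun ⟨⟨a, b⟩, e, f⟩ => ⟨a, b, e, f⟩⟩
  obtain ⟨ηA, hA⟩ := exists_linAt d hS hF hEA d.v
    (fun x hx y hy => by rw [d.v_mul hx.1 hy.1, hx.2]; ring)
    (fun u a => by
      obtain ⟨x, hx, e1, e2, e3, -⟩ := d.surj 0 u a 0
      exact ⟨x, ⟨hx, e1⟩, e2, e3⟩)
    (fun τ => by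
      obtain ⟨s, hs, st, -⟩ := d.surj τ 0 0 0
      exact ⟨s, hs, fun x hx => by rw [d.v_conj hs hx.1, hx.2, st]; ring⟩)
    hfixA
  set e := Coord.swap d with he
  obtain ⟨ηB, hB⟩ := exists_linAt e hS hF hEB e.w
    (fun x hx y hy => by rw [e.w_mul hx.1 hy.1, hx.2]; ring)
    (fun u a => by
      obtain ⟨x, hx, e1, e2, -, e4⟩ := e.surj 0 u 0 a
      exact ⟨x, ⟨hx, e1⟩, e2, e4⟩)
    (fun τ => by
      obtain ⟨r, hr⟩ := d.exists_sqrt τ
      obtain ⟨s, hs, st, -⟩ := e.surj r 0 0 0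
      exact ⟨s, hs, fun x hx => by
        rw [e.w_conj hs hx.1, hx.2, st, ← hr, CharTwo.two_eq_zero]; ring⟩)
    (fun x => (hd2 x).trans ⟨fun ⟨a, b, g, f⟩ => ⟨⟨a, b⟩, g, f⟩, fun ⟨⟨a, b⟩, g, f⟩ => ⟨a, b, g, f⟩⟩)
  let σ : K ≃+* K := (frobeniusEquiv K 2).symm
  have hσ : ∀ a : K, σ (a ^ 2) = a := fun a => by
    show (frobeniusEquiv K 2).symm (a ^ 2) = a
    exact frobeniusEquiv_symm_apply_frobenius K 2 a
  let η' : K →+ K := AddMonoidHom.mk' (fun t => σ (ηB (t ^ 2))) fun a b => by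
    rw [CharTwo.add_sq, map_add, map_add]
  refine ⟨Coord.shift d ηA η', ⟨hEA, ?_, fun x => ?_, fun x => ?_, ?_, ?_⟩⟩
  · rw [Coord.swap_grpA d] at hEB
    exact hEB
  · show x ∈ fixA F d ↔ x ∈ d.grpA ∧ d.u x = 0 ∧ d.v x + ηA (d.u x) + η' (d.t x) = 0
    rw [hfixA]
    constructor
    · rintro ⟨a, b, f⟩
      exact ⟨a, b, by rw [f, b, a.2, map_zero, map_zero]; simp⟩
    · rintro ⟨a, b, f⟩
      exact ⟨a, b, by rw [b, a.2, map_zero, map_zero, add_zero, add_zero] at f; exact f⟩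
  · show (x ∈ d.line 0 ∧ ∀ α ∈ pElementClosure 2 (F.autGroup (d.line 0)), autFun α x = x) ↔
      x ∈ d.line 0 ∧ d.t x = 0 ∧ d.v x + ηA (d.u x) + η' (d.t x) = 0
    rw [← Coord.swap_grpA d]
    refine (hd2 x).trans ⟨?_, ?_⟩
    · rintro ⟨a, b, g, f⟩
      have g' : d.t x = 0 := pow_eq_zero_iff two_ne_zero |>.1 g
      have b' : d.u x = 0 := b
      have f' : d.v x + d.t x * d.u x = 0 := pow_eq_zero_iff two_ne_zero |>.1 f
      refine ⟨⟨a, b⟩, g', ?_⟩
      rw [g', b'] at f' ⊢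
      simpa using f'
    · rintro ⟨⟨a, b⟩, g', f⟩
      have b' : d.u x = 0 := b
      refine ⟨a, b, show d.t x ^ 2 = 0 by rw [g']; simp, show (d.v x + d.t x * d.u x) ^ 2 = 0 from ?_⟩
      rw [g', b'] at f ⊢
      simp only [map_zero, add_zero] at f
      rw [f]; simp
  · exact hA.map (RingEquiv.refl K) (fun x hx => by
      show d.v x + ηA (d.u x) + η' (d.t x) = _
      rw [hx.2, map_zero, add_zero]; rfl) fun x _ => rfl
  · show LinAt F (d.line 0) (fun x => d.v x + ηA (d.u x) + η' (d.t x)) d.t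
    rw [← Coord.swap_grpA d]
    refine hB.map σ (fun x hx => ?_) fun x _ => (hσ _).symm
    have hu : d.u x = 0 := hx.2
    show _ = σ ((d.v x + d.t x * d.u x) ^ 2 + ηB (d.t x ^ 2))
    simp only [map_add, hσ, hu, map_zero, mul_zero, add_zero]
    rfl

end CfsgLib.SylowLie.SpFour
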