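import Cfsg.Agent.Lib.SylowLie.SpFour.TwoTorus

/-!
# Characteristic two: the automizer of `S`

Its elements are linear on the layers; on the axis they multiply by `a²g`.
-/

set_option autoImplicit false
set_option linter.style.haveILetI false
set_option maxHeartbeats 1600000

open Subgroup Matrix
open scoped Classical

namespace CfsgLib.SylowLie.SpFour

open CfsgLib.Fusion
open Cfsg (FusionSystem autInducedBy pElementClosure)
open Cfsg.FusionSystem (normalizerIn centralizerIn)

variable {Ω : Type*} [Group Ω] {S : Subgroup Ω} [Finite S] {K : Type*} [Field K] [CharP K 2]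
  {F : FusionSystem S}

/-- A subgroup invariant under `M` carries a restriction of `M`. -/
theorem exists_res {P : Subgroup Ω} (hP : P ≤ S) {M : MulAut S} (hM : M ∈ F.autGroup S)
    (h : ∀ x ∈ P, autFun M x ∈ P) :
    ∃ β ∈ F.autGroup P, ∀ x ∈ P, autFun β x = autFun M x := by
  have hm := ((mem_autGroup_iff le_rfl).1 hM).mono hP
  have himg : img P (autFun M) = P := img_eq_of_map_le hP hm le_rfl h
  exact ⟨autOf hm himg, autOf_mem hm himg, fun x hx => autFun_autOf hm himg hx⟩

namespace TwoData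

variable {c : Coord S K} (hd : TwoData F c)

include hd

theorem autFun_grpA' (hS : IsPGroup 2 S) (hF : F.IsSaturated 2) {M : MulAut S}
    (hM : M ∈ F.autGroup S) {x : Ω} (hx : x ∈ c.grpA) : autFun M x ∈ c.grpA :=
  autFun_grpA_two c hS hF hM hx

theorem autFun_line' (hS : IsPGroup 2 S) (hF : F.IsSaturated 2) {M : MulAut S}
    (hM : M ∈ F.autGroup S) {x : Ω} (hx : x ∈ c.line 0) : autFun M x ∈ c.line 0 := by
  rw [← Coord.swap_grpA c] at hx ⊢
  exact autFun_grpA_two (Coord.swap c) hS hF hM hx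

theorem autFun_axis (hS : IsPGroup 2 S) (hF : F.IsSaturated 2) {M : MulAut S}
    (hM : M ∈ F.autGroup S) {x : Ω} (hx : x ∈ c.axis) : autFun M x ∈ c.axis := by
  obtain ⟨β, hβ, hβM⟩ := exists_res c.grpA_le hM fun y hy => hd.autFun_grpA' hS hF hM hy
  rw [← hβM x (hd.axis_le_grpA hx), ← hd.fixA_eq]
  exact fixA_invariant c hβ (hd.fixA_eq.symm ▸ hx)

/-- Roots of `X² + X + 1`. -/
theorem root_quad (hS : IsPGroup 2 S) (hF : F.IsSaturated 2) {t : K} (h0 : t ≠ 0) (h1 : t ≠ 1) :
    t ^ 2 + t + 1 = 0 := by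
  have h3 := (hd.exists_torus hS hF h0).1
  exact (mul_eq_zero.1 (show (t - 1) * (t ^ 2 + t + 1) = 0 by linear_combination h3)).resolve_left
    (sub_ne_zero.2 h1)

theorem aut_shape (hS : IsPGroup 2 S) (hF : F.IsSaturated 2) {M : MulAut S}
    (hM : M ∈ F.autGroup S) :
    ∃ a g r r' : K, a ≠ 0 ∧ g ≠ 0 ∧
      (∀ x ∈ S, c.t (autFun M x) = a * c.t x ∧ c.u (autFun M x) = g * c.u x ∧
        c.v (autFun M x) = a * g * c.v x + r * c.t x + r' * c.u x) ∧
      ∀ z ∈ c.axis, c.w (autFun M z) = a ^ 2 * g * c.w z := by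
  haveI := finite_field c
  haveI := finite_mulAut (P := S)
  haveI := inn_subgroupOf_normal (Ω := Ω) S (F.autGroup S)
  haveI := finite_of_le c.grpA_le
  haveI := finite_of_le (c.line_le 0)
  have h2 : (2 : K) = 0 := CharTwo.two_eq_zero
  choose T hT using fun τ : K => c.surj τ 0 0 0
  choose U hU using fun μ : K => c.surj 0 μ 0 0
  choose V hV using fun β : K => c.surj 0 0 β 0
  have hTB : ∀ τ, T τ ∈ c.line 0 := fun τ => ⟨(hT τ).1, by rw [(hT τ).2.2.1, zero_mul]⟩
  have hUA : ∀ μ, U μ ∈ c.grpA := fun μ => ⟨(hU μ).1, (hU μ).2.1⟩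
  -- structure maps of an element of the automizer
  set τ : MulAut S → K → K := fun N t => c.t (autFun N (T t)) with hτ
  set μ : MulAut S → K → K := fun N u => c.u (autFun N (U u)) with hμ
  set β : MulAut S → K → K := fun N v => c.v (autFun N (V v)) with hβ
  have hDA : ∀ {N}, N ∈ F.autGroup S → ∀ {d}, d ∈ c.grpD → autFun N d ∈ c.grpD := fun {N} hN {d} hd' =>
    ⟨autFun_mem N hd'.1, (hd.autFun_grpA' hS hF hN (c.grpD_le_grpA hd')).2, by
      have := (hd.autFun_line' hS hF hN (c.grpD_le_line 0 hd')).2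
      rw [zero_mul] at this
      exact this⟩
  have htS : ∀ {N}, N ∈ F.autGroup S → ∀ x ∈ S, c.t (autFun N x) = τ N (c.t x) := by
    intro N hN x hx
    obtain ⟨hS', ht, -⟩ := hT (c.t x)
    have ha : (T (c.t x))⁻¹ * x ∈ c.grpA := ⟨S.mul_mem (S.inv_mem hS') hx,
      by rw [c.t_mul (S.inv_mem hS') hx, c.t_inv hS', ht, neg_add_cancel]⟩
    conv_lhs => rw [show x = T (c.t x) * ((T (c.t x))⁻¹ * x) by rw [mul_inv_cancel_left]]
    rw [autFun_map_mul N hS' ha.1, c.t_mul (autFun_mem N hS') (autFun_mem N ha.1),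
      (hd.autFun_grpA' hS hF hN ha).2, add_zero]
  have huS : ∀ {N}, N ∈ F.autGroup S → ∀ x ∈ S, c.u (autFun N x) = μ N (c.u x) := by
    intro N hN x hx
    obtain ⟨hS', ht, hu, -⟩ := hU (c.u x)
    have ha : (U (c.u x))⁻¹ * x ∈ c.line 0 := ⟨S.mul_mem (S.inv_mem hS') hx,
      by rw [c.u_mul (S.inv_mem hS') hx, c.u_inv hS', hu, neg_add_cancel, zero_mul]⟩
    conv_lhs => rw [show x = U (c.u x) * ((U (c.u x))⁻¹ * x) by rw [mul_inv_cancel_left]]
    rw [autFun_map_mul N hS' ha.1, c.u_mul (autFun_mem N hS') (autFun_mem N ha.1),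
      (hd.autFun_line' hS hF hN ha).2, zero_mul, add_zero]
  have hvD : ∀ {N}, N ∈ F.autGroup S → ∀ x ∈ c.grpD, c.v (autFun N x) = β N (c.v x) := by
    intro N hN x hx
    obtain ⟨hS', ht, hu, hv, -⟩ := hV (c.v x)
    have hax : (V (c.v x))⁻¹ * x ∈ c.axis :=
      c.inv_mul_mem_axis hS' hx.1 ⟨ht.trans hx.2.1.symm, hu.trans hx.2.2.symm, hv⟩
    conv_lhs => rw [show x = V (c.v x) * ((V (c.v x))⁻¹ * x) by rw [mul_inv_cancel_left]]
    rw [autFun_map_mul N hS' hax.1, c.v_mul (autFun_mem N hS') (autFun_mem N hax.1),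
      (hd.autFun_axis hS hF hN hax).2.2.2, (hd.autFun_axis hS hF hN hax).2.2.1, mul_zero, add_zero,
      add_zero]
  have hcomm : ∀ (N : MulAut S) {s x}, s ∈ S → x ∈ S → autFun N (x⁻¹ * (s * x * s⁻¹)) =
      (autFun N x)⁻¹ * (autFun N s * autFun N x * (autFun N s)⁻¹) := by
    intro N s x hs hx
    rw [autFun_map_mul N (S.inv_mem hx) (c.conj_mem hs hx), autFun_map_conj N hs hx]
    congr 1
    exact eq_inv_of_mul_eq_one_left (by
      rw [← autFun_map_mul N (S.inv_mem hx) hx, inv_mul_cancel, autFun_map_one])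
  have r1 : ∀ {N}, N ∈ F.autGroup S → ∀ t u, β N (t * u) = τ N t * μ N u := by
    intro N hN t u
    obtain ⟨hs, st, su, -⟩ := hT t
    obtain ⟨hx, xt, xu, -⟩ := hU u
    have hNx := hd.autFun_grpA' hS hF hN (hUA u)
    have e := hvD hN _ (c.comm_mem_grpD hs hx)
    rw [(c.comm_coords hs hx).2.2, st, xu, xt, zero_mul, sub_zero, hcomm N hs hx,
      (c.comm_coords (autFun_mem N hs) (autFun_mem N hx)).2.2, hNx.2, zero_mul, sub_zero,
      htS hN _ hs, huS hN _ hx, st, xu] at e
    exact e.symm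
  have haddt : ∀ {N}, N ∈ F.autGroup S → ∀ s t, τ N (s + t) = τ N s + τ N t := by
    intro N hN s t
    obtain ⟨hs, st, -⟩ := hT s
    obtain ⟨hx, xt, -⟩ := hT t
    rw [← st, ← xt, ← htS hN _ hs, ← htS hN _ hx, ← c.t_mul hs hx, ← htS hN _ (S.mul_mem hs hx),
      autFun_map_mul N hs hx, c.t_mul (autFun_mem N hs) (autFun_mem N hx)]
  have hne : ∀ {N}, N ∈ F.autGroup S → τ N 1 ≠ 0 ∧ μ N 1 ≠ 0 := by
    intro N hN
    constructor <;> intro h0
    · obtain ⟨hs, st, -⟩ := hT 1
      have h' := hd.autFun_grpA' hS hF (inv_mem hN) (x := autFun N (T 1)) ⟨autFun_mem N hs, h0⟩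
      rw [autFun_apply_inv N hs] at h'
      exact one_ne_zero (st.symm.trans h'.2)
    · obtain ⟨hs, st, su, -⟩ := hU 1
      have h' := hd.autFun_line' hS hF (inv_mem hN) (x := autFun N (U 1))
        ⟨autFun_mem N hs, by rw [zero_mul]; exact h0⟩
      rw [autFun_apply_inv N hs] at h'
      exact one_ne_zero (su.symm.trans (by rw [h'.2, zero_mul]))
  -- multiplicative
  have hμτ : ∀ {N}, N ∈ F.autGroup S → ∀ u, μ N u = τ N u * μ N 1 / τ N 1 := fun {N} hN u => by
    rw [eq_div_iff (hne hN).1, mul_comm]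
    have h1 := r1 hN 1 u
    have h2' := r1 hN u 1
    rw [one_mul] at h1
    rw [mul_one] at h2'
    rw [← h1, h2']
  have hmul : ∀ {N}, N ∈ F.autGroup S → ∀ t u, τ N (t * u) = τ N t * τ N u / τ N 1 :=
    fun {N} hN t u => by
      have h := r1 hN t u
      have h' := r1 hN (t * u) 1
      rw [mul_one, h, hμτ hN] at h'
      refine mul_right_cancel₀ (hne hN).2 ?_
      rw [← h']
      ring
  have hsq : ∀ t, τ M (τ M t / τ M 1) / τ M 1 = t := by
    let σ : K →+* K :=
      { toFun := fun s => τ M s / τ M 1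
        map_one' := div_self (hne hM).1
        map_zero' := by
          have h := haddt hM 0 0
          rw [add_zero] at h
          rw [add_eq_left.1 h.symm, zero_div]
        map_add' := fun s t => by rw [haddt hM, add_div]
        map_mul' := fun s t => by
          rw [hmul hM]
          have := (hne hM).1
          field_simp }
    intro t
    show σ (σ t) = t
    by_cases h0 : t = 0
    · rw [h0, map_zero, map_zero]
    by_cases h1 : t = 1
    · rw [h1, map_one, map_one]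
    have e := hd.root_quad hS hF h0 h1
    have e' := congrArg σ e
    rw [map_add, map_add, map_pow, map_one, map_zero] at e'
    rcases mul_eq_zero.1 (show (σ t - t) * (σ t + t + 1) = 0 by linear_combination e' - e) with h | h
    · rw [sub_eq_zero.1 h, sub_eq_zero.1 h]
    · have e1 : σ t = t + 1 := by linear_combination h - (t + 1) * h2
      rw [e1, map_add, map_one, e1]
      linear_combination h2
  have hlin : ∀ t, τ M t = τ M 1 * t := by
    let L : Subgroup (MulAut S) :=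
      { carrier := {N | N ∈ F.autGroup S ∧ ∀ t, τ N t = τ N 1 * t}
        one_mem' := ⟨one_mem _, fun t => by
          simp only [hτ, autFun_one (hT _).1, (hT t).2.1, (hT 1).2.1, one_mul]⟩
        mul_mem' := fun {N N'} hN hN' => ⟨mul_mem hN.1 hN'.1, fun t => by
          have e : ∀ t, τ (N * N') t = τ N (τ N' t) := fun t => by
            show c.t _ = _
            rw [autFun_mul _ _ (hT t).1, htS hN.1 _ (autFun_mem _ (hT t).1)]
          rw [e, e, hN.2 (τ N' t), hN.2 (τ N' 1), hN'.2 t, mul_assoc]⟩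
        inv_mem' := fun {N} hN => ⟨inv_mem hN.1, fun t => by
          have e : ∀ t, τ N 1 * τ N⁻¹ t = t := fun t => by
            rw [← hN.2]
            show c.t (autFun N (T (c.t (autFun N⁻¹ (T t))))) = t
            rw [← (hT t).2.1]
            conv_rhs => rw [← autFun_inv_apply N (hT t).1, htS hN.1 _ (autFun_mem _ (hT t).1)]
            rw [(hT t).2.1]
          refine mul_left_cancel₀ (hne hN.1).1 ?_
          rw [← mul_assoc, e, e, one_mul]⟩ }
    have hM2 : M ^ 2 ∈ L := by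
      have e : ∀ t, τ (M ^ 2) t = τ M (τ M t) := fun t => by
        show c.t _ = _
        rw [pow_two, autFun_mul _ _ (hT t).1, htS hM _ (autFun_mem _ (hT t).1)]
      refine ⟨pow_mem hM 2, fun t => ?_⟩
      rw [e, e]
      have key : ∀ t, τ M (τ M t) = τ M (τ M 1) * t := fun t => by
        have h1 := hsq t
        have hne' := (hne hM).1
        rw [show τ M t = τ M 1 * (τ M t / τ M 1) by field_simp, hmul hM]
        rw [show τ M (τ M t / τ M 1) = τ M 1 * t by
          rw [div_eq_iff hne'] at h1; rw [h1, mul_comm]]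
        field_simp
      exact key t
    have hpow := ((Cfsg.Inn S).subgroupOf (F.autGroup S)).pow_index_mem (⟨M, hM⟩ : F.autGroup S)
    obtain ⟨b, hb⟩ : M ^ ((Cfsg.Inn S).subgroupOf (F.autGroup S)).index ∈ Cfsg.Inn S :=
      Subgroup.mem_subgroupOf.1 hpow
    have hidx := ((isFullyAutomized_iff hS).1
      (IsSaturated.automized_receptive hS hF isFullyNormalized_self).1).2
    rw [← inn_eq_autInducedBy] at hidx
    obtain ⟨l, hl⟩ : Odd ((Cfsg.Inn S).subgroupOf (F.autGroup S)).index :=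
      Nat.not_even_iff_odd.1 fun h => hidx h.two_dvd
    have hinn : M ^ ((Cfsg.Inn S).subgroupOf (F.autGroup S)).index ∈ L := by
      refine ⟨pow_mem hM _, fun t => ?_⟩
      simp only [hτ, ← hb]
      have e : ∀ x (hx : x ∈ S), c.t (autFun (MulAut.conj b) x) = c.t x := fun x hx => by
        rw [autFun_apply _ hx]
        exact c.t_conj b.2 hx
      rw [e _ (hT t).1, e _ (hT 1).1, (hT t).2.1, (hT 1).2.1, one_mul]
    rw [hl, pow_succ, pow_mul] at hinn
    have hMl := L.mul_mem (L.inv_mem (L.pow_mem hM2 l)) hinn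
    rw [inv_mul_cancel_left] at hMl
    exact hMl.2
  set a := τ M 1
  set g := μ M 1
  have ha : a ≠ 0 := (hne hM).1
  have hg : g ≠ 0 := (hne hM).2
  have hu' : ∀ u, μ M u = g * u := fun u => by
    rw [hμτ hM, hlin]
    show a * u * g / a = g * u
    field_simp
  have hβ' : ∀ v, β M v = a * g * v := fun v => by
    have h := r1 hM 1 v
    rw [one_mul] at h
    rw [h, hu']; ring
  -- linearity of the off-diagonal parts
  obtain ⟨r', hr'⟩ : ∃ r', ∀ u, c.v (autFun M (U u)) = r' * u := by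
    obtain ⟨γ, hγ, hγM⟩ := exists_res c.grpA_le hM fun y hy => hd.autFun_grpA' hS hF hM hy
    haveI := finite_mulAut (P := c.grpA)
    obtain ⟨lam, hlK, hl⟩ := hd.linA.2 ⟨!![1, 0; 1, 1], by simp [Matrix.det_fin_two]⟩
    obtain ⟨D, hD⟩ := hd.linA.1 _ ((Subgroup.mem_normalizer_iff.1
      (CfsgLib.LS.Amal.le_normalizer_pElementClosure (p := 2) _ hγ) _).1 hlK)
    refine ⟨(1 - D.1 1 1) * (a * g), fun u => ?_⟩
    have key : ∀ v : K, g * (v + u) =
        D.1 1 0 * (a * g * v + c.v (autFun M (U u))) + D.1 1 1 * (g * u) := by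
      intro v
      obtain ⟨hx, xt, xu, xv, -⟩ := hU u
      obtain ⟨hy, yt, yu, yv, -⟩ := hV v
      have hyD : V v ∈ c.grpD := ⟨hy, yt, yu⟩
      have hm : V v * U u ∈ c.grpA := mul_mem (c.grpD_le_grpA hyD) (hUA u)
      have hy1 := autFun_mem lam hm
      have e := congrFun (hD _ (autFun_mem γ hm)) 1
      rw [autFun_mul _ _ (autFun_mem γ hm), autFun_apply_inv γ hm, autFun_mul _ _ hm,
        hγM _ hy1, hγM _ hm, huS hM _ hy1.1, hu', huS hM _ hm.1, hu',
        show c.v (autFun M (V v * U u)) = a * g * v + c.v (autFun M (U u)) by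
          rw [autFun_map_mul M hy hx, c.v_mul (autFun_mem M hy) (autFun_mem M hx), hvD hM _ hyD,
            hβ', yv, (hd.autFun_grpA' hS hF hM (c.grpD_le_grpA hyD)).2, zero_mul, add_zero]] at e
      have el := congrFun (hl _ hm) 1
      simp [Matrix.mulVec, dotProduct, Fin.sum_univ_two] at e el
      rw [el, c.v_mul hy hx, c.u_mul hy hx, yv, yu, xv, xu, yt] at e
      simpa using e
    have k0 := key 0
    have k1 := key 1
    have hc : D.1 1 0 * (a * g) = g := by linear_combination -(k1 - k0)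
    refine mul_left_cancel₀ hg ?_
    linear_combination (-(a * g)) * k0 - c.v (autFun M (U u)) * hc
  obtain ⟨r, hr⟩ : ∃ r, ∀ t, c.v (autFun M (T t)) = r * t := by
    obtain ⟨γ, hγ, hγM⟩ := exists_res (c.line_le 0) hM fun y hy => hd.autFun_line' hS hF hM hy
    haveI := finite_mulAut (P := c.line 0)
    obtain ⟨lam, hlK, hl⟩ := hd.linB.2 ⟨!![1, 0; 1, 1], by simp [Matrix.det_fin_two]⟩
    obtain ⟨D, hD⟩ := hd.linB.1 _ ((Subgroup.mem_normalizer_iff.1
      (CfsgLib.LS.Amal.le_normalizer_pElementClosure (p := 2) _ hγ) _).1 hlK)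
    refine ⟨(1 - D.1 1 1) * (a * g), fun t => ?_⟩
    have key : ∀ v : K, a * (v + t) =
        D.1 1 0 * (a * g * v + c.v (autFun M (T t))) + D.1 1 1 * (a * t) := by
      intro v
      obtain ⟨hx, xt, xu, xv, -⟩ := hT t
      obtain ⟨hy, yt, yu, yv, -⟩ := hV v
      have hyD : V v ∈ c.grpD := ⟨hy, yt, yu⟩
      have hm : V v * T t ∈ c.line 0 := mul_mem (c.grpD_le_line 0 hyD) (hTB t)
      have hy1 := autFun_mem lam hm
      have e := congrFun (hD _ (autFun_mem γ hm)) 1
      rw [autFun_mul _ _ (autFun_mem γ hm), autFun_apply_inv γ hm, autFun_mul _ _ hm,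
        hγM _ hy1, hγM _ hm, htS hM _ hy1.1, hlin, htS hM _ hm.1, hlin,
        show c.v (autFun M (V v * T t)) = a * g * v + c.v (autFun M (T t)) by
          rw [autFun_map_mul M hy hx, c.v_mul (autFun_mem M hy) (autFun_mem M hx), hvD hM _ hyD,
            hβ', yv, (hd.autFun_grpA' hS hF hM (c.grpD_le_grpA hyD)).2, zero_mul, add_zero]] at e
      have el := congrFun (hl _ hm) 1
      simp [Matrix.mulVec, dotProduct, Fin.sum_univ_two] at e el
      rw [el, c.v_mul hy hx, c.t_mul hy hx, yv, yt, xv, xt] at e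
      simpa using e
    have k0 := key 0
    have k1 := key 1
    have hc : D.1 1 0 * (a * g) = a := by linear_combination -(k1 - k0)
    refine mul_left_cancel₀ ha ?_
    linear_combination (-(a * g)) * k0 - c.v (autFun M (T t)) * hc
  refine ⟨a, g, r, r', ha, hg, fun x hx => ?_, ?_⟩
  · refine ⟨by rw [htS hM x hx, hlin], by rw [huS hM x hx, hu'], ?_⟩
    obtain ⟨hs, st, su, sv, -⟩ := hT (c.t x)
    obtain ⟨hy, yt, yu, yv, -⟩ := hU (c.u x)
    have hd1 : (T (c.t x) * U (c.u x))⁻¹ * x ∈ c.grpD := by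
      refine ⟨S.mul_mem (S.inv_mem (S.mul_mem hs hy)) hx, ?_, ?_⟩
      · rw [c.t_mul (S.inv_mem (S.mul_mem hs hy)) hx, c.t_inv (S.mul_mem hs hy), c.t_mul hs hy, st, yt]
        ring
      · rw [c.u_mul (S.inv_mem (S.mul_mem hs hy)) hx, c.u_inv (S.mul_mem hs hy), c.u_mul hs hy, su, yu]
        ring
    set d := (T (c.t x) * U (c.u x))⁻¹ * x with hd0
    have hxe : x = T (c.t x) * U (c.u x) * d := by rw [hd0, mul_inv_cancel_left]
    have hdv : c.v x = c.t x * c.u x + c.v d := by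
      conv_lhs => rw [hxe]
      rw [c.v_mul (S.mul_mem hs hy) hd1.1, c.v_mul hs hy, hd1.2.2, sv, yv, st, yu]
      ring
    have hMd := hDA hM hd1
    conv_lhs => rw [hxe]
    rw [autFun_map_mul M (S.mul_mem hs hy) hd1.1, autFun_map_mul M hs hy,
      c.v_mul (S.mul_mem (autFun_mem M hs) (autFun_mem M hy)) hMd.1,
      c.v_mul (autFun_mem M hs) (autFun_mem M hy), hMd.2.2, htS hM _ hs, huS hM _ hy, hr, hr',
      hvD hM _ hd1, hβ', st, yu, hlin, hu', hdv]
    ring
  · -- the axis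
    have hz : ∀ σ : K, σ ≠ 0 → ∃ z ∈ S, c.t z = 0 ∧ c.u z = 0 ∧ c.v z = 1 ∧ c.w z = σ ∧
        c.w (autFun M z) = a ^ 2 * g * σ := by
      intro σ hσ
      obtain ⟨hx, xt, xu, -⟩ := hU σ⁻¹
      obtain ⟨hs, st, -⟩ := hT σ
      have hMx := hd.autFun_grpA' hS hF hM (hUA σ⁻¹)
      have hMs := autFun_mem M hs
      have hw : ∀ {s y}, s ∈ S → y ∈ c.grpA →
          c.w (y⁻¹ * (s * y * s⁻¹)) = c.t s ^ 2 * c.u y := fun {s y} hs hy => by
        rw [c.w_mul (S.inv_mem hy.1) (c.conj_mem hs hy.1), c.w_conj hs hy.1, c.t_inv hy.1,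
          c.w_inv hy.1, hy.2, h2]
        ring
      refine ⟨(U σ⁻¹)⁻¹ * (T σ * U σ⁻¹ * (T σ)⁻¹), S.mul_mem (S.inv_mem hx) (c.conj_mem hs hx),
        (c.comm_coords hs hx).1, (c.comm_coords hs hx).2.1, ?_, ?_, ?_⟩
      · rw [(c.comm_coords hs hx).2.2, st, xu, xt, zero_mul, sub_zero, mul_inv_cancel₀ hσ]
      · rw [hw hs (hUA _), st, xu]; field_simp
      · rw [hcomm M hs hx, hw hMs hMx, htS hM _ hs, huS hM _ hx, st, xu, hlin, hu']
        field_simp
    intro z hz0
    obtain ⟨hzS, zt, zu, zv⟩ := hz0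
    by_cases h0 : c.w z = 0
    · have : z = 1 := (c.eq_one_iff hzS).2 ⟨zt, zu, zv, h0⟩
      rw [this, autFun_map_one, c.w_one, mul_zero]
    -- a product of two elements with `v = 1`
    have hpair : ∀ σ : K, σ ≠ 0 → σ ≠ 1 → ∀ z, z ∈ c.axis → c.w z = 1 + σ →
        c.w (autFun M z) = a ^ 2 * g * (1 + σ) := by
      intro σ hσ0 hσ1 z hz' hzw
      obtain ⟨z1, m1, a1, b1, c1, d1, e1⟩ := hz 1 one_ne_zero
      obtain ⟨z2, m2, a2, b2, c2, d2, e2⟩ := hz σ hσ0
      have hze : z = z1 * z2 := c.ext hz'.1 (S.mul_mem m1 m2)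
        (by rw [hz'.2.1, c.t_mul m1 m2, a1, a2, add_zero])
        (by rw [hz'.2.2.1, c.u_mul m1 m2, b1, b2, add_zero])
        (by rw [hz'.2.2.2, c.v_mul m1 m2, c1, c2, a1]; linear_combination -h2)
        (by rw [hzw, c.w_mul m1 m2, d1, d2, a1]; ring)
      rw [hze, autFun_map_mul M m1 m2, c.w_mul (autFun_mem M m1) (autFun_mem M m2), e1, e2,
        htS hM _ m1, a1, hlin]
      ring
    by_cases h1 : c.w z = 1
    · by_cases hsmall : ∀ σ : K, σ = 0 ∨ σ = 1
      · have hsa : a = 1 := (hsmall a).resolve_left ha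
        have hsg : g = 1 := (hsmall g).resolve_left hg
        rw [hsa, hsg, h1]
        simp only [one_pow, one_mul]
        refine (hsmall _).resolve_left fun h => ?_
        have hzz := hd.autFun_axis hS hF hM (show z ∈ c.axis from ⟨hzS, zt, zu, zv⟩)
        have h' : autFun M z = 1 := (c.eq_one_iff hzz.1).2 ⟨hzz.2.1, hzz.2.2.1, hzz.2.2.2, h⟩
        have h'' := congrArg (autFun M⁻¹) h'
        rw [autFun_apply_inv M hzS, autFun_map_one] at h''
        rw [h'', c.w_one] at h0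
        exact h0 rfl
      push Not at hsmall
      obtain ⟨σ, hσ0, hσ1⟩ := hsmall
      obtain ⟨z1, m1, a1, b1, c1, d1⟩ := c.surj 0 0 0 (1 + σ)
      obtain ⟨z2, m2, a2, b2, c2, d2⟩ := c.surj 0 0 0 σ
      have hze : z = z1 * z2 := c.ext hzS (S.mul_mem m1 m2)
        (by rw [zt, c.t_mul m1 m2, a1, a2, add_zero])
        (by rw [zu, c.u_mul m1 m2, b1, b2, add_zero])
        (by rw [zv, c.v_mul m1 m2, c1, c2, a1]; ring)
        (by rw [h1, c.w_mul m1 m2, d1, d2, a1]; linear_combination -σ * h2)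
      have f1 := hpair σ hσ0 hσ1 z1 ⟨m1, a1, b1, c1⟩ d1
      have hσ2 : σ + 1 ≠ 0 := fun h => hσ1 (by linear_combination h - h2)
      have f2 := hpair (σ + 1) hσ2 (fun h => hσ0 (by linear_combination h)) z2
        ⟨m2, a2, b2, c2⟩ (by rw [d2]; linear_combination -h2)
      rw [hze, autFun_map_mul M m1 m2, c.w_mul (autFun_mem M m1) (autFun_mem M m2), f1, f2,
        htS hM _ m1, a1, hlin, c.w_mul m1 m2, d1, d2, a1]
      linear_combination (a ^ 2 * g) * h2
    · have f := hpair (c.w z + 1) (fun h => h1 (by linear_combination h - h2))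
        (fun h => h0 (by linear_combination h)) z ⟨hzS, zt, zu, zv⟩ (by linear_combination -h2)
      rw [f]
      linear_combination (a ^ 2 * g) * h2

end TwoData

end CfsgLib.SylowLie.SpFour
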