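import Cfsg.Agent.Lib.SylowLie.SpFour.TwoExt

/-!
# Characteristic two: the two sides

A side is one of the two elementary abelian subgroups with the block of `GL₃` acting on it.
-/

set_option autoImplicit false
set_option linter.style.haveILetI false
set_option maxHeartbeats 1600000

open Subgroup Matrix
open scoped Classical

namespace CfsgLib.SylowLie.SpFour

open CfsgLib.Fusion
open Cfsg (FusionSystem autInducedBy pElementClosure)
open Cfsg.FusionSystem (normalizerIn centralizerIn)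

universe u v

local notation "GL3(" F ")" => GL (Fin 3) F
local notation "SL2(" F ")" => Matrix.SpecialLinearGroup (Fin 2) F

variable {Ω : Type u} [Group Ω] {S : Subgroup Ω} [Finite S] {K : Type v} [Field K] [CharP K 2]
  {F : FusionSystem S}

omit [CharP K 2] in
theorem scal_val' (ζ : Kˣ) : (scal ζ).1 = !![(ζ : K), 0, 0; 0, ζ, 0; 0, 0, ζ] := by
  rw [scal_val, Matrix.scalar_apply]
  ext i j
  fin_cases i <;> fin_cases j <;> simp

/-- An upper unitriangular `2 × 2` matrix. -/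
def upp (τ : K) : SL2(K) := ⟨!![1, τ; 0, 1], by simp [Matrix.det_fin_two]⟩

/-- The exchange of the two vectors. -/
def swp : SL2(K) := ⟨!![0, 1; 1, 0], by simp [Matrix.det_fin_two, CharTwo.neg_eq]⟩

theorem swp_sq : (swp : SL2(K)) * swp = 1 := by
  refine Subtype.ext ?_
  show (!![0, 1; 1, 0] : Matrix (Fin 2) (Fin 2) K) * !![0, 1; 1, 0] = 1
  ext i j
  fin_cases i <;> fin_cases j <;> simp [Matrix.mul_apply, Fin.sum_univ_two]

/-- Upper unitriangular matrices and the exchange generate. -/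
theorem sl_two_top {H : Subgroup SL2(K)} (hu : ∀ τ, upp τ ∈ H) (hw : swp ∈ H) : H = ⊤ := by
  have h2 : (2 : K) = 0 := CharTwo.two_eq_zero
  have hl : ∀ τ : K, (⟨!![1, 0; τ, 1], by simp [Matrix.det_fin_two]⟩ : SL2(K)) ∈ H := fun τ => by
    have e : (⟨!![1, 0; τ, 1], by simp [Matrix.det_fin_two]⟩ : SL2(K)) = swp * upp τ * swp := by
      refine Subtype.ext ?_
      show !![1, 0; τ, 1] = (!![0, 1; 1, 0] : Matrix (Fin 2) (Fin 2) K) * !![1, τ; 0, 1] * !![0, 1; 1, 0]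
      ext i j
      fin_cases i <;> fin_cases j <;> simp [Matrix.mul_apply, Fin.sum_univ_two]
    rw [e]
    exact H.mul_mem (H.mul_mem hw (hu τ)) hw
  have key : ∀ D : SL2(K), D.1 1 0 ≠ 0 → D ∈ H := by
    intro D hc
    have hdet := D.2
    rw [Matrix.det_fin_two] at hdet
    have e : D = upp ((D.1 0 0 + 1) / D.1 1 0) * ⟨!![1, 0; D.1 1 0, 1], by simp [Matrix.det_fin_two]⟩ *
        upp ((D.1 1 1 + 1) / D.1 1 0) := by
      refine Subtype.ext ?_
      show D.1 = (!![1, (D.1 0 0 + 1) / D.1 1 0; 0, 1] : Matrix (Fin 2) (Fin 2) K) *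
        !![1, 0; D.1 1 0, 1] * !![1, (D.1 1 1 + 1) / D.1 1 0; 0, 1]
      ext i j
      fin_cases i <;> fin_cases j <;> simp [Matrix.mul_apply, Fin.sum_univ_two] <;> field_simp
      · linear_combination (-1 : K) * h2
      · linear_combination (-1 : K) * hdet - (D.1 0 0 + D.1 1 1 + 2) * h2
      · linear_combination (-1 : K) * h2
    rw [e]
    exact H.mul_mem (H.mul_mem (hu _) (hl _)) (hu _)
  refine eq_top_iff.2 fun D _ => ?_
  by_cases hc : D.1 1 0 = 0
  · let l1 : SL2(K) := ⟨!![1, 0; 1, 1], by simp [Matrix.det_fin_two]⟩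
    have h' : l1 * D ∈ H := key _ (by
      show ((!![1, 0; 1, 1] : Matrix (Fin 2) (Fin 2) K) * D.1) 1 0 ≠ 0
      simp [Matrix.mul_apply, Fin.sum_univ_two, hc]
      intro h
      have hdet := D.2
      rw [Matrix.det_fin_two, h, hc] at hdet
      simp at hdet)
    exact (H.mul_mem_cancel_left (hl 1)).1 h'
  · exact key D hc

/-- `α` acts on the coordinates `(v, q)` by `D`. -/
def Coords (c : Coord S K) {P : Subgroup Ω} (q : Ω → K) (α : MulAut P) (D : SL2(K)) : Prop :=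
  ∀ x ∈ P, ![c.v (autFun α x), q (autFun α x)] = D.1.mulVec ![c.v x, q x]

/-- One of the two elementary abelian subgroups, with its block. -/
structure Side (F : FusionSystem S) (c : Coord S K) where
  /-- the subgroup -/
  P : Subgroup Ω
  /-- the simple coordinate on it -/
  q : Ω → K
  /-- the block -/
  blk : SL2(K) →* GL3(K)
  le : P ≤ S
  axis_le : c.axis ≤ P
  grpD_le : c.grpD ≤ P
  essP : F.IsEssential 2 P
  lin : LinAt F P c.v q
  comm : ∀ {x y}, x ∈ P → y ∈ P → Commute x y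
  mul_v : ∀ {x y}, x ∈ P → y ∈ P → c.v (x * y) = c.v x + c.v y
  mul_q : ∀ {x y}, x ∈ P → y ∈ P → q (x * y) = q x + q y
  surjP : ∀ a b : K, ∃ x ∈ P, c.v x = a ∧ q x = b
  eq3 : ∀ {x y}, x ∈ P → y ∈ P → c.v x = c.v y → q x = q y → c.Eq3 x y
  q_congr : ∀ {x y}, c.Eq3 x y → q x = q y
  mem_grpD : ∀ {x}, x ∈ P → q x = 0 → x ∈ c.grpD
  det_blk : ∀ D, (blk D).1.det = 1
  lifts : ∀ (D : SL2(K)) {x y}, x ∈ P → y ∈ P → ![c.v y, q y] = D.1.mulVec ![c.v x, q x] →
    c.phi y = blk D * c.phi x * (blk D)⁻¹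
  up : ∀ τ, ∃ s ∈ S, c.phi s = blk (upp τ)
  fix : ∀ {α : MulAut P}, α ∈ pElementClosure 2 (F.autGroup P) → ∀ z ∈ c.axis, autFun α z = z
  unique : ∀ {α β : MulAut P}, α ∈ F.autGroup P → β ∈ F.autGroup P →
    (∀ x ∈ P, q (autFun α x) = q (autFun β x) ∧ c.v (autFun α x) = c.v (autFun β x)) →
    (∀ z ∈ c.axis, autFun α z = z) → (∀ z ∈ c.axis, autFun β z = z) → α = β
  invariant : ∀ {M : MulAut S}, M ∈ F.autGroup S → ∀ {x}, x ∈ P → autFun M x ∈ P
  dec : ∀ g : GL3(K), g.1.det = 1 → (∀ x ∈ P, ∃ y ∈ P, c.phi y = g * c.phi x * g⁻¹) →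
    ∃ a ∈ P, ∃ ζ : Kˣ, ζ ^ 3 = 1 ∧ ∃ D, g = c.phi a * scal ζ * blk D

namespace Side

variable {c : Coord S K} (sd : Side F c)

theorem normal {s : Ω} (hs : s ∈ S) : s ∈ Subgroup.normalizer (sd.P : Set Ω) :=
  (c.le_normalizerIn_of_grpD_le sd.le sd.grpD_le hs).2

theorem mem_of_eq3 {x y : Ω} (hx : x ∈ S) (hy : y ∈ sd.P) (h : c.Eq3 x y) : x ∈ sd.P := by
  have hz := c.inv_mul_mem_axis (sd.le hy) hx ⟨h.1.symm, h.2.1.symm, h.2.2.symm⟩
  have := mul_mem hy (sd.axis_le hz)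
  rwa [mul_inv_cancel_left] at this

theorem coords_congr {x y : Ω} (h : c.Eq3 x y) : ![c.v x, sd.q x] = ![c.v y, sd.q y] := by
  rw [h.2.2, sd.q_congr h]

theorem conjAut_closure (hS : IsPGroup 2 S) {s : Ω} (hs : s ∈ S) :
    conjAut s (sd.normal hs) ∈ pElementClosure 2 (F.autGroup sd.P) :=
  CfsgLib.LS.Amal.isPGroup_le_pElementClosure (isPGroup_autInducedBy hS)
    (autInducedBy_le_autGroup sd.le) (conjAut_mem hs _)

theorem closure_le {α : MulAut sd.P} (hα : α ∈ pElementClosure 2 (F.autGroup sd.P)) :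
    α ∈ F.autGroup sd.P := CfsgLib.LS.Amal.pElementClosure_le _ hα

theorem coords_of_over {α : MulAut sd.P} {D : SL2(K)}
    (h : ∀ x ∈ sd.P, c.phi (autFun α x) = sd.blk D * c.phi x * (sd.blk D)⁻¹) :
    Coords c sd.q α D := by
  intro x hx
  obtain ⟨β, hβ, hβD⟩ := sd.lin.2 D
  have e := sd.lifts D hx (autFun_mem β hx) (hβD x hx)
  rw [← h x hx] at e
  rw [← hβD x hx, sd.coords_congr (c.phi_eq_iff.1 e)]

theorem phi_of_coords {α : MulAut sd.P} {D : SL2(K)} (h : Coords c sd.q α D) {x : Ω} (hx : x ∈ sd.P) :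
    c.phi (autFun α x) = sd.blk D * c.phi x * (sd.blk D)⁻¹ :=
  sd.lifts D hx (autFun_mem α hx) (h x hx)

theorem eq_of_coords {α β : MulAut sd.P} {D : SL2(K)}
    (hα : α ∈ pElementClosure 2 (F.autGroup sd.P)) (hβ : β ∈ pElementClosure 2 (F.autGroup sd.P))
    (h : Coords c sd.q α D) (h' : Coords c sd.q β D) : α = β := by
  refine sd.unique (sd.closure_le hα) (sd.closure_le hβ) (fun x hx => ?_) (sd.fix hα) (sd.fix hβ)
  have e := (h x hx).trans (h' x hx).symm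
  exact ⟨by simpa using congrFun e 1, by simpa using congrFun e 0⟩

variable {L : Type*} [Group L] {ι : S →* L} {π : L →* GL3(K)}

/-- The exchange is realised in the extension. -/
def Agree (ι : S →* L) (π : L →* GL3(K)) : Prop :=
  ∃ α ∈ pElementClosure 2 (F.autGroup sd.P), Coords c sd.q α swp ∧
    ∃ l, π l = sd.blk swp ∧ Acts ι l sd.P (autFun α)

/-- After composing with a suitable automorphism of `S` the exchange is realised. -/
theorem exists_twist_agree (hE : IsExt F c ι π) :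
    ∃ h : K →+ K, ∀ φ : S →* S,
      (∀ (x : Ω) (hx : x ∈ sd.P), c.Eq3 (φ ⟨x, sd.le hx⟩ : Ω) x ∧
        c.w (φ ⟨x, sd.le hx⟩ : Ω) = c.w x + h (sd.q x)) →
      sd.Agree (ι.comp φ) π := by
  have h2 : (2 : K) = 0 := CharTwo.two_eq_zero
  obtain ⟨α, hαK, hα⟩ := sd.lin.2 swp
  have hαc : ∀ x ∈ sd.P, c.v (autFun α x) = sd.q x ∧ sd.q (autFun α x) = c.v x := fun x hx => by
    have e := hα x hx
    exact ⟨by simpa [swp, Matrix.mulVec, dotProduct, Fin.sum_univ_two] using congrFun e 0,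
      by simpa [swp, Matrix.mulVec, dotProduct, Fin.sum_univ_two] using congrFun e 1⟩
  have hα2 : ∀ x ∈ sd.P, autFun α (autFun α x) = x := by
    have hc1 : Coords c sd.q (α * α) (1 : SL2(K)) := fun x hx => by
      have hy := autFun_mem α hx
      rw [autFun_mul _ _ hx, (hαc _ hy).1, (hαc _ hy).2, (hαc x hx).1, (hαc x hx).2]
      simp
    have hc2 : Coords c sd.q (1 : MulAut sd.P) (1 : SL2(K)) := fun x hx => by
      rw [autFun_one hx]; simp
    have e := sd.eq_of_coords (mul_mem hαK hαK) (one_mem _) hc1 hc2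
    exact fun x hx => by rw [← autFun_mul _ _ hx, e, autFun_one hx]
  obtain ⟨l, hl⟩ := hE.surj (sd.blk swp) (by
    rw [show Matrix.GeneralLinearGroup.det (sd.blk swp) = 1 from Units.ext (sd.det_blk swp)]
    exact one_mem _)
  have hex : ∀ x ∈ sd.P, ∃ y ∈ sd.P, c.Eq3 y (autFun α x) ∧ jmap ι y = l * jmap ι x * l⁻¹ := by
    intro x hx
    have hy := autFun_mem α hx
    obtain ⟨y, hyS, hy3, hyl⟩ := hE.exists_conj (l := l) (sd.le hx) (sd.le hy)
      (by rw [hl]; exact sd.phi_of_coords hα hx)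
    exact ⟨y, sd.mem_of_eq3 hyS hy hy3, hy3, hyl⟩
  choose! Y hYP hY3 hYl using hex
  have hYmul : ∀ {a b}, a ∈ sd.P → b ∈ sd.P → Y (a * b) = Y a * Y b := fun {a b} ha hb =>
    hE.jmap_inj (sd.le (hYP _ (mul_mem ha hb))) (sd.le (mul_mem (hYP _ ha) (hYP _ hb))) (by
      rw [hYl _ (mul_mem ha hb), jmap_mul ι (sd.le (hYP _ ha)) (sd.le (hYP _ hb)), hYl _ ha, hYl _ hb,
        jmap_mul ι (sd.le ha) (sd.le hb)]
      group)
  have hYax : ∀ z ∈ c.axis, Y z = z := fun z hz =>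
    hE.jmap_inj (sd.le (hYP _ (sd.axis_le hz))) hz.1 (by
      rw [hYl _ (sd.axis_le hz), hE.conj_axis l z hz z hz (by rw [hl, sd.det_blk, inv_one, one_mul])])
  have hY2 : ∀ x ∈ sd.P, Y (Y x) = x := fun x hx => by
    have hy := hYP x hx
    refine hE.jmap_inj (sd.le (hYP _ hy)) (sd.le hx) ?_
    rw [hYl _ hy, hYl _ hx]
    obtain ⟨z, hz, hzl⟩ := hE.ker (l * l) (by rw [map_mul, hl, ← map_mul, swp_sq, map_one])
    calc l * (l * jmap ι x * l⁻¹) * l⁻¹ = l * l * jmap ι x * (l * l)⁻¹ := by group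
      _ = jmap ι x := by rw [← hzl, hE.axis_commute (sd.le hx) hz, mul_inv_cancel_right]
  set f : Ω → K := fun x => c.w (Y x) + c.w (autFun α x) with hf
  have hfadd : ∀ {a b}, a ∈ sd.P → b ∈ sd.P → f (a * b) = f a + f b := fun {a b} ha hb => by
    obtain ⟨a1, a2, a3⟩ := hY3 a ha
    obtain ⟨b1, b2, b3⟩ := hY3 b hb
    simp only [hf]
    rw [hYmul ha hb, autFun_map_mul α ha hb, c.w_mul (sd.le (hYP _ ha)) (sd.le (hYP _ hb)),
      c.w_mul (sd.le (autFun_mem α ha)) (sd.le (autFun_mem α hb)), a1, b2, b3]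
    linear_combination (2 * c.t (autFun α a) * c.v (autFun α b) +
      c.t (autFun α a) ^ 2 * c.u (autFun α b)) * h2
  have hfax : ∀ z ∈ c.axis, f z = 0 := fun z hz => by
    simp only [hf]
    rw [hYax z hz, sd.fix hαK z hz]
    linear_combination (c.w z) * h2
  have hfc : ∀ {a b}, a ∈ sd.P → b ∈ sd.P → c.v a = c.v b → sd.q a = sd.q b → f a = f b :=
    fun {a b} ha hb e1 e2 => by
    have hz := c.inv_mul_mem_axis (sd.le ha) (sd.le hb) (sd.eq3 ha hb e1 e2)
    have e := hfadd ha (sd.axis_le hz)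
    rw [mul_inv_cancel_left, hfax _ hz, add_zero] at e
    exact e.symm
  choose Q hQP hQv hQq using fun b : K => sd.surjP 0 b
  let h : K →+ K := AddMonoidHom.mk' (fun b => f (Q b)) fun a b => by
    show f (Q (a + b)) = f (Q a) + f (Q b)
    rw [← hfadd (hQP a) (hQP b)]
    refine hfc (hQP _) (mul_mem (hQP a) (hQP b)) ?_ ?_
    · rw [sd.mul_v (hQP a) (hQP b), hQv, hQv, hQv, add_zero]
    · rw [sd.mul_q (hQP a) (hQP b), hQq, hQq, hQq]
  have hfα : ∀ x ∈ sd.P, f (autFun α x) = f x := fun x hx => by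
    have hy := autFun_mem α hx
    obtain ⟨y1, y2, y3⟩ := hY3 x hx
    have hz := c.inv_mul_mem_axis (sd.le hy) (sd.le (hYP x hx)) ⟨y1.symm, y2.symm, y3.symm⟩
    set z := (autFun α x)⁻¹ * Y x with hz0
    have hYx : Y x = autFun α x * z := by rw [hz0, mul_inv_cancel_left]
    have e1 : c.w (Y x) = c.w (autFun α x) + c.w z := by rw [hYx]; exact c.w_mul_axis (sd.le hy) hz
    have e := congrArg c.w (hY2 x hx)
    rw [hYx, hYmul hy (sd.axis_le hz), hYax z hz, c.w_mul_axis (sd.le (hYP _ hy)) hz] at e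
    simp only [hf]
    rw [hα2 x hx]
    linear_combination e - e1 + (c.w x - c.w (autFun α x) - c.w z) * h2
  have hfx : ∀ x ∈ sd.P, f x = h (sd.q x) + h (c.v x) := by
    intro x hx
    have hd' : (Q (sd.q x))⁻¹ * x ∈ sd.P := mul_mem (inv_mem (hQP _)) hx
    set d := (Q (sd.q x))⁻¹ * x with hd0
    have hxd : x = Q (sd.q x) * d := by rw [hd0, mul_inv_cancel_left]
    have ev := congrArg c.v hxd
    have eq := congrArg sd.q hxd
    rw [sd.mul_v (hQP _) hd', hQv, zero_add] at ev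
    rw [sd.mul_q (hQP _) hd', hQq, left_eq_add] at eq
    conv_lhs => rw [hxd]
    rw [hfadd (hQP _) hd', ← hfα d hd']
    refine congrArg _ (hfc (autFun_mem α hd') (hQP _) ?_ ?_)
    · rw [(hαc d hd').1, eq, hQv]
    · rw [(hαc d hd').2, hQq, ev]
  refine ⟨h, fun φ hφ => ⟨α, hαK, hα, l, hl, fun x hx => ⟨sd.le (autFun_mem α hx), ?_⟩⟩⟩
  have hy := autFun_mem α hx
  obtain ⟨e3, ew⟩ := hφ x hx
  obtain ⟨d3, dw⟩ := hφ _ hy
  set x' : Ω := (φ ⟨x, sd.le hx⟩ : Ω) with hx'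
  have hx'P : x' ∈ sd.P := sd.mem_of_eq3 (φ _).2 hx e3
  have hj : ∀ {a : Ω} (ha : a ∈ sd.P), jmap (ι.comp φ) a = jmap ι (φ ⟨a, sd.le ha⟩ : Ω) := fun {a} ha => by
    rw [jmap_eq _ (sd.le ha), jmap_eq ι (φ ⟨a, sd.le ha⟩).2, MonoidHom.comp_apply]
  rw [hj hy, hj hx, ← hx', ← hYl x' hx'P]
  congr 1
  have hz := c.inv_mul_mem_axis (sd.le hx) (sd.le hx'P) ⟨e3.1.symm, e3.2.1.symm, e3.2.2.symm⟩
  set z := x⁻¹ * x' with hz0
  have hxz : x' = x * z := by rw [hz0, mul_inv_cancel_left]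
  have hzw : c.w z = h (sd.q x) := by
    have := c.w_mul_axis (sd.le hx) hz
    rw [← hxz, ew] at this
    exact (add_left_cancel this).symm
  rw [hxz, hYmul hx (sd.axis_le hz), hYax z hz]
  obtain ⟨y1, y2, y3⟩ := hY3 x hx
  obtain ⟨k1, k2, k3⟩ := c.eq3_mul_axis (sd.le (hYP x hx)) hz
  refine c.ext (φ _).2 (S.mul_mem (sd.le (hYP x hx)) hz.1) (d3.1.trans (k1.trans y1).symm)
    (d3.2.1.trans (k2.trans y2).symm) (d3.2.2.trans (k3.trans y3).symm) ?_
  rw [dw, c.w_mul_axis (sd.le (hYP x hx)) hz, hzw, (hαc x hx).2]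
  have e := hfx x hx
  simp only [hf] at e
  linear_combination -e + (c.w (autFun α x) - h (sd.q x)) * h2

variable (hS : IsPGroup 2 S) (hE : IsExt F c ι π) (hag : sd.Agree ι π)

include hS hE hag

/-- Every element of the section is realised. -/
theorem exists_acts (D : SL2(K)) : ∃ α ∈ pElementClosure 2 (F.autGroup sd.P), Coords c sd.q α D ∧
    ∃ l, π l = sd.blk D ∧ Acts ι l sd.P (autFun α) := by
  let H : Subgroup SL2(K) :=
    { carrier := {D | ∃ α ∈ pElementClosure 2 (F.autGroup sd.P), Coords c sd.q α D ∧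
        ∃ l, π l = sd.blk D ∧ Acts ι l sd.P (autFun α)}
      one_mem' := ⟨1, one_mem _, fun x hx => by rw [autFun_one hx]; simp, 1,
        by rw [map_one, map_one], fun x hx => ⟨by rw [autFun_one hx]; exact sd.le hx,
          by rw [autFun_one hx]; simp⟩⟩
      mul_mem' := fun {D D'} ⟨α, hα, hαc, l, hl, hla⟩ ⟨β, hβ, hβc, l', hl', hla'⟩ =>
        ⟨α * β, mul_mem hα hβ, fun x hx => by
          rw [autFun_mul _ _ hx, hαc _ (autFun_mem β hx), hβc x hx, Matrix.mulVec_mulVec]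
          rfl, l * l', by rw [map_mul, hl, hl', map_mul], hla.mul hla'⟩
      inv_mem' := fun {D} ⟨α, hα, hαc, l, hl, hla⟩ => ⟨α⁻¹, inv_mem hα, fun x hx => by
          have e := hαc _ (autFun_mem α⁻¹ hx)
          rw [autFun_inv_apply α hx] at e
          rw [e, Matrix.mulVec_mulVec, ← Matrix.SpecialLinearGroup.coe_mul, inv_mul_cancel]
          simp, l⁻¹, by rw [map_inv, hl, map_inv], hla.inv sd.le⟩ }
  have hH : H = ⊤ := by
    refine sl_two_top (fun τ => ?_) ?_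
    · obtain ⟨s, hs, hsφ⟩ := sd.up τ
      refine ⟨_, sd.conjAut_closure hS hs, sd.coords_of_over fun x hx => ?_, jmap ι s,
        by rw [hE.π_jmap hs, hsφ], fun x hx => ?_⟩
      · rw [autFun_conjAut _ hx, ← hsφ, c.phi_mul (S.mul_mem hs (sd.le hx)) (S.inv_mem hs),
          c.phi_mul hs (sd.le hx), c.phi_inv hs]
      · rw [autFun_conjAut _ hx]
        refine ⟨c.conj_mem hs (sd.le hx), ?_⟩
        rw [jmap_mul ι (S.mul_mem hs (sd.le hx)) (S.inv_mem hs), jmap_mul ι hs (sd.le hx),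
          jmap_inv ι hs]
    · obtain ⟨α, hα, hαc, l, hl, hla⟩ := hag
      exact ⟨α, hα, hαc, l, hl, hla⟩
  exact (hH.ge (Subgroup.mem_top D) : D ∈ H)

theorem closure_acts {α : MulAut sd.P} (hα : α ∈ pElementClosure 2 (F.autGroup sd.P)) :
    ∃ l, Acts ι l sd.P (autFun α) := by
  obtain ⟨D, hD⟩ := sd.lin.1 α hα
  obtain ⟨β, hβ, hβc, l, -, hla⟩ := sd.exists_acts hS hE hag D
  exact ⟨l, sd.eq_of_coords hβ hα hβc hD ▸ hla⟩

/-- Elements of determinant one normalising the side act as elements of the section. -/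
theorem det_one_acts {l : L} (hd : (π l).1.det = 1)
    (hn : ∀ x ∈ sd.P, ∃ y ∈ sd.P, c.phi y = π l * c.phi x * (π l)⁻¹) :
    ∃ β ∈ pElementClosure 2 (F.autGroup sd.P), Acts ι l sd.P (autFun β) := by
  obtain ⟨a, ha, ζ, hζ, D, hg⟩ := sd.dec _ hd hn
  obtain ⟨β, hβ, -, lD, hlD, hβa⟩ := sd.exists_acts hS hE hag D
  obtain ⟨lz, hlz⟩ := hE.surj (scal ζ) (by
    rw [show Matrix.GeneralLinearGroup.det (scal ζ) = 1 from Units.ext (by
      show (scal ζ).1.det = 1
      rw [det_scal, ← Units.val_pow_eq_pow_val, hζ, Units.val_one])]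
    exact one_mem _)
  obtain ⟨z, hz, hzl⟩ := hE.ker ((jmap ι a * lz * lD)⁻¹ * l) (by
    rw [map_mul, map_inv, map_mul, map_mul, hE.π_jmap (sd.le ha), hlz, hlD, ← hg, inv_mul_cancel])
  refine ⟨β, hβ, fun x hx => ⟨sd.le (autFun_mem β hx), ?_⟩⟩
  have hy := autFun_mem β hx
  rw [show l = jmap ι a * lz * lD * jmap ι z by rw [hzl, mul_inv_cancel_left]]
  calc jmap ι (autFun β x) = jmap ι a * jmap ι (autFun β x) * (jmap ι a)⁻¹ := by
        rw [← jmap_mul ι (sd.le ha) (sd.le hy), (sd.comm ha hy).eq, jmap_mul ι (sd.le hy) (sd.le ha),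
          mul_inv_cancel_right]
    _ = jmap ι a * (lz * jmap ι (autFun β x) * lz⁻¹) * (jmap ι a)⁻¹ := by
        rw [← (hE.scal_acts hζ hlz _ (sd.le hy)).2]; rfl
    _ = jmap ι a * (lz * (lD * (jmap ι z * jmap ι x * (jmap ι z)⁻¹) * lD⁻¹) * lz⁻¹) * (jmap ι a)⁻¹ := by
        rw [hE.axis_commute (sd.le hx) hz, mul_inv_cancel_right, (hβa x hx).2]
    _ = _ := by group

end Side

/-- The block on `A`. -/
noncomputable def blkA : SL2(K) →* GL3(K) :=
  MonoidHom.mk' (fun D => Matrix.GeneralLinearGroup.mkOfDetNeZero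
    !![D.1 0 0, D.1 0 1, 0; D.1 1 0, D.1 1 1, 0; 0, 0, 1] (by
      have := D.2
      rw [Matrix.det_fin_two] at this
      rw [Matrix.det_fin_three]
      simp [this])) fun D E => Units.ext (by
    rw [Units.val_mul]
    show !![_, _, 0; _, _, 0; 0, 0, 1] = !![_, _, 0; _, _, 0; 0, 0, 1] * !![_, _, 0; _, _, 0; 0, 0, 1]
    rw [Matrix.SpecialLinearGroup.coe_mul]
    ext i j
    fin_cases i <;> fin_cases j <;> simp [Matrix.mul_apply, Fin.sum_univ_three, Fin.sum_univ_two])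

/-- The block on `B`. -/
noncomputable def blkB : SL2(K) →* GL3(K) :=
  MonoidHom.mk' (fun D => Matrix.GeneralLinearGroup.mkOfDetNeZero
    !![1, 0, 0; 0, D.1 0 0, D.1 0 1; 0, D.1 1 0, D.1 1 1] (by
      have := D.2
      rw [Matrix.det_fin_two] at this
      rw [Matrix.det_fin_three]
      simp [this])) fun D E => Units.ext (by
    rw [Units.val_mul]
    show !![1, 0, 0; 0, _, _; 0, _, _] = !![1, 0, 0; 0, _, _; 0, _, _] * !![1, 0, 0; 0, _, _; 0, _, _]
    rw [Matrix.SpecialLinearGroup.coe_mul]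
    ext i j
    fin_cases i <;> fin_cases j <;> simp [Matrix.mul_apply, Fin.sum_univ_three, Fin.sum_univ_two])

namespace TwoData

variable {c : Coord S K} (hd : TwoData F c)

include hd

/-- The side `A`. -/
noncomputable def sideA (hS : IsPGroup 2 S) (hF : F.IsSaturated 2) : Side F c where
  P := c.grpA
  q := c.u
  blk := blkA
  le := c.grpA_le
  axis_le := hd.axis_le_grpA
  grpD_le := c.grpD_le_grpA
  essP := hd.essA
  lin := hd.linA
  comm hx hy := c.commute_grpA hx hy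
  mul_v {x y} hx hy := by rw [c.v_mul hx.1 hy.1, hx.2]; ring
  mul_q hx hy := c.u_mul hx.1 hy.1
  surjP a b := by
    obtain ⟨x, hx, xt, xu, xv, -⟩ := c.surj 0 b a 0
    exact ⟨x, ⟨hx, xt⟩, xv, xu⟩
  eq3 hx hy hv hq := ⟨hx.2.trans hy.2.symm, hq, hv⟩
  q_congr h := h.2.1
  mem_grpD hx hq := ⟨hx.1, hx.2, hq⟩
  det_blk D := by
    have := D.2
    rw [Matrix.det_fin_two] at this
    show Matrix.det !![D.1 0 0, D.1 0 1, 0; D.1 1 0, D.1 1 1, 0; 0, 0, 1] = 1
    rw [Matrix.det_fin_three]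
    simp [this]
  lifts D {x y} hx hy h := by
    have h0 := congrFun h 0
    have h1 := congrFun h 1
    simp [Matrix.mulVec, dotProduct, Fin.sum_univ_two] at h0 h1
    rw [Coord.conj_eq_iff]
    show !![D.1 0 0, D.1 0 1, 0; D.1 1 0, D.1 1 1, 0; 0, 0, 1] * _ = _ *
      !![D.1 0 0, D.1 0 1, 0; D.1 1 0, D.1 1 1, 0; 0, 0, 1]
    simp only [Coord.phi, uniThree_val, hx.2, hy.2, h0, h1]
    ext i j
    fin_cases i <;> fin_cases j <;> simp [Matrix.mul_apply, Fin.sum_univ_three]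
  up τ := by
    obtain ⟨s, hs, st, su, sv, -⟩ := c.surj τ 0 0 0
    refine ⟨s, hs, Units.ext ?_⟩
    show _ = !![(upp τ).1 0 0, (upp τ).1 0 1, 0; (upp τ).1 1 0, (upp τ).1 1 1, 0; 0, 0, 1]
    simp [Coord.phi, uniThree_val, st, su, sv, upp]
  fix hα z hz := hd.closureA_fix hα hz
  unique hα hβ h := hd.uniqueA hS hα hβ h
  invariant {M} hM {x} hx := hd.autFun_grpA' hS hF hM hx
  dec g hdet hn := by
    have hcube : ∀ {x : K}, x ≠ 0 → x ^ 3 = 1 := fun {x} hx => (hd.exists_torus hS hF hx).1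
    obtain ⟨x1, hx1, x1t, x1u, x1v, -⟩ := c.surj 0 1 0 0
    obtain ⟨x2, hx2, x2t, x2u, x2v, -⟩ := c.surj 0 0 1 0
    have hrow : ∀ x ∈ c.grpA, g.1 2 0 * c.v x + g.1 2 1 * c.u x = 0 := by
      intro x hx
      obtain ⟨y, hy, e⟩ := hn x hx
      have e' := congrFun (congrFun ((c.conj_eq_iff g x y).1 e) 2) 2
      simp [Coord.phi, uniThree_val, Matrix.mul_apply, Fin.sum_univ_three, hx.2] at e'
      linear_combination e'
    have h20 : g.1 2 0 = 0 := by simpa [x2u, x2v] using hrow x2 ⟨hx2, x2t⟩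
    have h21 : g.1 2 1 = 0 := by simpa [x1u, x1v] using hrow x1 ⟨hx1, x1t⟩
    obtain ⟨d3, hd3⟩ : ∃ d, g.1 2 2 = d := ⟨_, rfl⟩
    have e : d3 * (g.1 0 0 * g.1 1 1 - g.1 0 1 * g.1 1 0) = 1 := by
      rw [← hdet, Matrix.det_fin_three, h20, h21, hd3]; ring
    have n3 : d3 ≠ 0 := left_ne_zero_of_mul_eq_one e
    obtain ⟨a, ha, at', au, av, -⟩ := c.surj 0 (g.1 1 2 / d3) (g.1 0 2 / d3) 0
    refine ⟨a, ⟨ha, at'⟩, Units.mk0 d3 n3, Units.ext (by simpa using hcube n3),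
      ⟨!![g.1 0 0 / d3, g.1 0 1 / d3; g.1 1 0 / d3, g.1 1 1 / d3], by
        rw [Matrix.det_fin_two]
        simp
        field_simp
        linear_combination d3 ^ 2 * e - (g.1 0 0 * g.1 1 1 - g.1 0 1 * g.1 1 0) * hcube n3⟩,
      Units.ext ?_⟩
    rw [Units.val_mul, Units.val_mul, scal_val']
    show g.1 = (c.phi a).1 * _ * !![_, _, 0; _, _, 0; 0, 0, 1]
    simp only [Coord.phi, uniThree_val, at', au, av, Units.val_mk0]
    ext i j
    fin_cases i <;> fin_cases j <;>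
      simp [Matrix.mul_apply, Fin.sum_univ_three, h20, h21, hd3] <;> (try field_simp)

/-- The side `B`. -/
noncomputable def sideB (hS : IsPGroup 2 S) (hF : F.IsSaturated 2) : Side F c where
  P := c.line 0
  q := c.t
  blk := blkB
  le := c.line_le 0
  axis_le := hd.axis_le_line
  grpD_le := c.grpD_le_line 0
  essP := hd.essB
  lin := hd.linB
  comm hx hy := c.commute_line_zero CharTwo.two_eq_zero hx hy
  mul_v {x y} hx hy := by rw [c.v_mul hx.1 hy.1, hy.2]; ring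
  mul_q hx hy := c.t_mul hx.1 hy.1
  surjP a b := by
    obtain ⟨x, hx, xt, xu, xv, -⟩ := c.surj b 0 a 0
    exact ⟨x, ⟨hx, by rw [xu, zero_mul]⟩, xv, xt⟩
  eq3 hx hy hv hq := ⟨hq, by rw [hx.2, hy.2, zero_mul, zero_mul], hv⟩
  q_congr h := h.1
  mem_grpD hx hq := ⟨hx.1, hq, by rw [hx.2, zero_mul]⟩
  det_blk D := by
    have := D.2
    rw [Matrix.det_fin_two] at this
    show Matrix.det !![1, 0, 0; 0, D.1 0 0, D.1 0 1; 0, D.1 1 0, D.1 1 1] = 1
    rw [Matrix.det_fin_three]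
    simp [this]
  lifts D {x y} hx hy h := by
    have h2 : (2 : K) = 0 := CharTwo.two_eq_zero
    have hD := D.2
    rw [Matrix.det_fin_two] at hD
    have h0 := congrFun h 0
    have h1 := congrFun h 1
    simp [Matrix.mulVec, dotProduct, Fin.sum_univ_two] at h0 h1
    have u0 : c.u x = 0 := by rw [hx.2, zero_mul]
    have u1 : c.u y = 0 := by rw [hy.2, zero_mul]
    rw [Coord.conj_eq_iff]
    show !![1, 0, 0; 0, D.1 0 0, D.1 0 1; 0, D.1 1 0, D.1 1 1] * _ = _ *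
      !![1, 0, 0; 0, D.1 0 0, D.1 0 1; 0, D.1 1 0, D.1 1 1]
    simp only [Coord.phi, uniThree_val, u0, u1, h0, h1]
    ext i j
    fin_cases i <;> fin_cases j <;> simp [Matrix.mul_apply, Fin.sum_univ_three]
    · linear_combination (-(c.t x)) * hD - (D.1 1 0 * D.1 0 0 * c.v x + D.1 1 0 * D.1 0 1 * c.t x) * h2
    · linear_combination (-(c.v x)) * hD - (D.1 1 1 * D.1 0 1 * c.t x + D.1 1 0 * D.1 0 1 * c.v x) * h2
  up τ := by
    obtain ⟨s, hs, st, su, sv, -⟩ := c.surj 0 τ 0 0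
    refine ⟨s, hs, Units.ext ?_⟩
    show _ = !![1, 0, 0; 0, (upp τ).1 0 0, (upp τ).1 0 1; 0, (upp τ).1 1 0, (upp τ).1 1 1]
    simp [Coord.phi, uniThree_val, st, su, sv, upp]
  fix hα z hz := hd.closureB_fix hα hz
  unique hα hβ h := hd.uniqueB hS hα hβ h
  invariant {M} hM {x} hx := hd.autFun_line' hS hF hM hx
  dec g hdet hn := by
    have hcube : ∀ {x : K}, x ≠ 0 → x ^ 3 = 1 := fun {x} hx => (hd.exists_torus hS hF hx).1
    obtain ⟨x1, hx1, x1t, x1u, x1v, -⟩ := c.surj 1 0 0 0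
    have hx1B : x1 ∈ c.line 0 := ⟨hx1, by rw [x1u, zero_mul]⟩
    obtain ⟨y1, hy1, e1⟩ := hn x1 hx1B
    have u1 : c.u y1 = 0 := by rw [hy1.2, zero_mul]
    have k1 := congrFun (congrFun ((c.conj_eq_iff g x1 y1).1 e1) 1) 1
    have k2 := congrFun (congrFun ((c.conj_eq_iff g x1 y1).1 e1) 2) 1
    simp [Coord.phi, uniThree_val, Matrix.mul_apply, Fin.sum_univ_three, x1t, x1u, x1v, u1] at k1 k2
    obtain ⟨d1, hd1⟩ : ∃ d, g.1 0 0 = d := ⟨_, rfl⟩
    have e : d1 * (g.1 1 1 * g.1 2 2 - g.1 1 2 * g.1 2 1) = 1 := by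
      rw [← hdet, Matrix.det_fin_three, k1, k2, hd1]; ring
    have n1 : d1 ≠ 0 := left_ne_zero_of_mul_eq_one e
    obtain ⟨a, ha, at', au, av, -⟩ := c.surj
      ((g.1 0 1 * g.1 2 2 - g.1 0 2 * g.1 2 1) * d1) 0
      ((g.1 0 2 * g.1 1 1 - g.1 0 1 * g.1 1 2) * d1) 0
    refine ⟨a, ⟨ha, by rw [au, zero_mul]⟩, Units.mk0 d1 n1, Units.ext (by simpa using hcube n1),
      ⟨!![g.1 1 1 / d1, g.1 1 2 / d1; g.1 2 1 / d1, g.1 2 2 / d1], by
        rw [Matrix.det_fin_two]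
        simp
        field_simp
        linear_combination d1 ^ 2 * e - (g.1 1 1 * g.1 2 2 - g.1 1 2 * g.1 2 1) * hcube n1⟩,
      Units.ext ?_⟩
    rw [Units.val_mul, Units.val_mul, scal_val']
    show g.1 = (c.phi a).1 * _ * !![1, 0, 0; 0, _, _; 0, _, _]
    simp only [Coord.phi, uniThree_val, at', au, av, Units.val_mk0]
    ext i j
    fin_cases i <;> fin_cases j <;>
      simp [Matrix.mul_apply, Fin.sum_univ_three, k1, k2, hd1] <;> (try field_simp)
    · linear_combination (-(g.1 0 1)) * e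
    · linear_combination (-(g.1 0 2)) * e

end TwoData

end CfsgLib.SylowLie.SpFour
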