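import Cfsg.Agent.Lib.SylowLie.SpFour.TwoSetup

/-!
# Characteristic two: the torus

The diagonal elements extend to `S`, so that their parameters are cube roots of unity, and the field
has at most four elements.
-/

set_option autoImplicit false
set_option linter.style.haveILetI false
set_option maxHeartbeats 1600000

open Subgroup Matrix
open scoped Classical

namespace CfsgLib.SylowLie.SpFour

open CfsgLib.Fusion
open Cfsg (FusionSystem autInducedBy pElementClosure)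
open Cfsg.FusionSystem (normalizerIn centralizerIn)

local notation "SL2(" F ")" => Matrix.SpecialLinearGroup (Fin 2) F

variable {Ω : Type*} [Group Ω] {S : Subgroup Ω} [Finite S] {K : Type*} [Field K] [CharP K 2]
  {F : FusionSystem S}

/-- The `w`-axis. -/
def Coord.axis (c : Coord S K) : Subgroup Ω where
  carrier := {x | x ∈ S ∧ c.t x = 0 ∧ c.u x = 0 ∧ c.v x = 0}
  one_mem' := ⟨S.one_mem, c.t_one, c.u_one, c.v_one⟩
  mul_mem' := fun {x y} hx hy => ⟨S.mul_mem hx.1 hy.1,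
    by rw [c.t_mul hx.1 hy.1, hx.2.1, hy.2.1, add_zero],
    by rw [c.u_mul hx.1 hy.1, hx.2.2.1, hy.2.2.1, add_zero],
    by rw [c.v_mul hx.1 hy.1, hx.2.1, hx.2.2.2, hy.2.2.2]; ring⟩
  inv_mem' := fun {x} hx => ⟨S.inv_mem hx.1, by rw [c.t_inv hx.1, hx.2.1, neg_zero],
    by rw [c.u_inv hx.1, hx.2.2.1, neg_zero],
    by rw [c.v_inv hx.1, hx.2.1, hx.2.2.2]; ring⟩

/-- Two elements agree modulo the axis. -/
def Coord.Eq3 (c : Coord S K) (x y : Ω) : Prop := c.t x = c.t y ∧ c.u x = c.u y ∧ c.v x = c.v y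

theorem Coord.inv_mul_mem_axis (c : Coord S K) {x y : Ω} (hx : x ∈ S) (hy : y ∈ S)
    (h : c.Eq3 x y) : x⁻¹ * y ∈ c.axis := by
  refine ⟨S.mul_mem (S.inv_mem hx) hy, ?_, ?_, ?_⟩
  · rw [c.t_mul (S.inv_mem hx) hy, c.t_inv hx, h.1, neg_add_cancel]
  · rw [c.u_mul (S.inv_mem hx) hy, c.u_inv hx, h.2.1, neg_add_cancel]
  · rw [c.v_mul (S.inv_mem hx) hy, c.v_inv hx, c.t_inv hx, h.2.1, h.2.2]; ring

theorem Coord.axis_central (c : Coord S K) {z : Ω} (hz : z ∈ c.axis) : z ∈ centralizerIn S S :=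
  c.mem_center.2 ⟨hz.1, hz.2.1, hz.2.2.1, by rw [CharTwo.two_eq_zero, zero_mul]⟩

theorem Coord.conj_axis (c : Coord S K) {s z : Ω} (hs : s ∈ S) (hz : z ∈ c.axis) :
    s * z * s⁻¹ = z := conj_center hs (c.axis_central hz)

/-- Automorphisms fixing the fixed vectors and agreeing modulo them are equal. -/
theorem unique_mod_fix (d : Coord S K) (hS : IsPGroup 2 S) (hE : F.IsEssential 2 d.grpA)
    {W : Subgroup Ω} (hW : fixA F d = W) {α β : MulAut d.grpA} (hα : α ∈ F.autGroup d.grpA)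
    (hβ : β ∈ F.autGroup d.grpA) (h : ∀ x ∈ d.grpA, (autFun α x)⁻¹ * autFun β x ∈ W)
    (fα : ∀ x ∈ W, autFun α x = x) (fβ : ∀ x ∈ W, autFun β x = x) : α = β := by
  subst hW
  refine (inv_mul_eq_one.1 (eq_one_of_mod_fixA d hS hE (mul_mem (inv_mem hα) hβ) ?_ ?_))
  · intro x hx
    have h1 : autFun α⁻¹ ((autFun α x)⁻¹ * autFun β x) ∈ fixA F d :=
      fixA_invariant d (inv_mem hα) (h x hx)
    have hinv : autFun α⁻¹ (autFun α x)⁻¹ = x⁻¹ := eq_inv_of_mul_eq_one_left (by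
      conv_lhs => arg 2; rw [← autFun_apply_inv α hx]
      rw [← autFun_map_mul α⁻¹ (inv_mem (autFun_mem α hx)) (autFun_mem α hx), inv_mul_cancel,
        autFun_map_one])
    rw [autFun_map_mul α⁻¹ (inv_mem (autFun_mem α hx)) (autFun_mem β hx), hinv] at h1
    rwa [autFun_mul _ _ hx]
  · intro x hx
    rw [autFun_mul _ _ (fixA_le d hx), fβ x hx]
    conv_lhs => rw [← fα x hx]
    exact autFun_apply_inv α (fixA_le d hx)

namespace TwoData

variable {c : Coord S K} (hd : TwoData F c)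

include hd

theorem fixA_eq : SpFour.fixA F c = c.axis := by
  ext x
  rw [hd.fixA x]
  exact ⟨fun ⟨⟨a, b⟩, e, f⟩ => ⟨a, b, e, f⟩, fun ⟨a, b, e, f⟩ => ⟨⟨a, b⟩, e, f⟩⟩

theorem fixB_eq : SpFour.fixA F (Coord.swap c) = c.axis := by
  ext x
  have h : x ∈ SpFour.fixA F (Coord.swap c) ↔ x ∈ c.line 0 ∧ c.t x = 0 ∧ c.v x = 0 := by
    rw [← hd.fixB x, ← Coord.swap_grpA c]
    rfl
  rw [h]
  exact ⟨fun ⟨a, b, e⟩ => ⟨a.1, b, by rw [a.2, zero_mul], e⟩,
    fun ⟨a, b, e, f⟩ => ⟨⟨a, by rw [e, zero_mul]⟩, b, f⟩⟩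

theorem uniqueA (hS : IsPGroup 2 S) {α β : MulAut c.grpA} (hα : α ∈ F.autGroup c.grpA)
    (hβ : β ∈ F.autGroup c.grpA)
    (h : ∀ x ∈ c.grpA, c.u (autFun α x) = c.u (autFun β x) ∧ c.v (autFun α x) = c.v (autFun β x))
    (fα : ∀ x ∈ c.axis, autFun α x = x) (fβ : ∀ x ∈ c.axis, autFun β x = x) : α = β :=
  unique_mod_fix c hS hd.essA hd.fixA_eq hα hβ (fun x hx => c.inv_mul_mem_axis
    (autFun_mem α hx).1 (autFun_mem β hx).1
    ⟨(autFun_mem α hx).2.trans (autFun_mem β hx).2.symm, h x hx⟩) fα fβ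

theorem uniqueB (hS : IsPGroup 2 S) {α β : MulAut (c.line 0)} (hα : α ∈ F.autGroup (c.line 0))
    (hβ : β ∈ F.autGroup (c.line 0))
    (h : ∀ x ∈ c.line 0, c.t (autFun α x) = c.t (autFun β x) ∧ c.v (autFun α x) = c.v (autFun β x))
    (fα : ∀ x ∈ c.axis, autFun α x = x) (fβ : ∀ x ∈ c.axis, autFun β x = x) : α = β := by
  have e := Coord.swap_grpA c
  have key : ∀ (P : Subgroup Ω), (Coord.swap c).grpA = P → F.IsEssential 2 P →
      ∀ α β : MulAut P, α ∈ F.autGroup P → β ∈ F.autGroup P →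
      (∀ x ∈ P, (autFun α x)⁻¹ * autFun β x ∈ c.axis) → (∀ x ∈ c.axis, autFun α x = x) →
      (∀ x ∈ c.axis, autFun β x = x) → α = β := by
    rintro P rfl hE α β hα hβ h fα fβ
    exact unique_mod_fix _ hS hE hd.fixB_eq hα hβ h fα fβ
  refine key _ e hd.essB α β hα hβ (fun x hx => c.inv_mul_mem_axis (autFun_mem α hx).1
    (autFun_mem β hx).1 ⟨(h x hx).1, ?_, (h x hx).2⟩) fα fβ
  rw [(autFun_mem α hx).2, (autFun_mem β hx).2, zero_mul, zero_mul]

theorem axis_le_line : c.axis ≤ c.line 0 := fun _ h => ⟨h.1, by rw [h.2.2.1, zero_mul]⟩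

theorem axis_le_grpA : c.axis ≤ c.grpA := fun _ h => ⟨h.1, h.2.1⟩

theorem closureA_fix {α : MulAut c.grpA} (hα : α ∈ pElementClosure 2 (F.autGroup c.grpA)) {z : Ω}
    (hz : z ∈ c.axis) : autFun α z = z := by
  rw [← hd.fixA_eq] at hz
  exact hz.2 α hα

theorem closureB_fix {α : MulAut (c.line 0)}
    (hα : α ∈ pElementClosure 2 (F.autGroup (c.line 0))) {z : Ω} (hz : z ∈ c.axis) :
    autFun α z = z :=
  ((hd.fixB z).2 ⟨hd.axis_le_line hz, hz.2.1, hz.2.2.2⟩).2 α hα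

/-- The diagonal elements extend to `S`; their parameters are cube roots of unity. -/
theorem exists_torus (hS : IsPGroup 2 S) (hF : F.IsSaturated 2) {μ : K} (hμ : μ ≠ 0) :
    μ ^ 3 = 1 ∧ ∃ M ∈ F.autGroup S, (∀ z ∈ c.axis, autFun M z = z) ∧
      ∀ x ∈ S, c.t (autFun M x) = μ ^ 2 * c.t x ∧ c.u (autFun M x) = μ ^ 2 * c.u x ∧
        c.v (autFun M x) = μ * c.v x := by
  haveI := finite_field c
  haveI := finite_of_le c.grpA_le
  haveI := finite_mulAut (P := c.grpA)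
  have h2 : (2 : K) = 0 := CharTwo.two_eq_zero
  have hAS := c.grpA_le
  have hn := hd.essA.2.1
  obtain ⟨α, hαK, hα⟩ := hd.linA.2 ⟨!![μ, 0; 0, μ⁻¹], by simp [Matrix.det_fin_two, hμ]⟩
  have hαA : α ∈ F.autGroup c.grpA := CfsgLib.LS.Amal.pElementClosure_le _ hαK
  have hαc : ∀ x ∈ c.grpA, c.v (autFun α x) = μ * c.v x ∧ c.u (autFun α x) = μ⁻¹ * c.u x := by
    intro x hx
    have e := hα x hx
    exact ⟨by simpa [Matrix.mulVec, dotProduct, Fin.sum_univ_two] using congrFun e 0,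
      by simpa [Matrix.mulVec, dotProduct, Fin.sum_univ_two] using congrFun e 1⟩
  have hnA : ∀ s ∈ S, s ∈ Subgroup.normalizer (c.grpA : Set Ω) := fun s hs =>
    (c.le_normalizerIn_of_grpD_le hAS c.grpD_le_grpA hs).2
  have hmove : ∀ s ∈ S, ∀ x ∈ c.grpA, c.u (s * x * s⁻¹) = c.u x ∧
      c.v (s * x * s⁻¹) = c.v x + c.t s * c.u x := fun s hs x hx => by
    rw [c.u_conj hs hx.1, c.v_conj hs hx.1, hx.2]
    exact ⟨rfl, by ring⟩
  have hsA : ∀ s ∈ S, ∀ x ∈ c.grpA, s * x * s⁻¹ ∈ c.grpA := fun s hs x hx =>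
    (Subgroup.mem_normalizer_iff.1 (hnA s hs) _).1 hx
  have hext : S ≤ extSub S c.grpA (autFun α) := by
    intro s hs
    obtain ⟨r, hr, rt, -⟩ := c.surj (μ ^ 2 * c.t s) 0 0 0
    have e : α * conjAut s (hnA s hs) = conjAut r (hnA r hr) * α := by
      refine hd.uniqueA hS (mul_mem hαA (autInducedBy_le_autGroup hAS (conjAut_mem hs _)))
        (mul_mem (autInducedBy_le_autGroup hAS (conjAut_mem hr _)) hαA) (fun x hx => ?_)
        (fun z hz => ?_) fun z hz => ?_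
      · rw [autFun_mul _ _ hx, autFun_mul _ _ hx, autFun_conjAut _ hx,
          autFun_conjAut _ (autFun_mem α hx), (hαc _ (hsA s hs x hx)).2, (hαc _ (hsA s hs x hx)).1,
          (hmove s hs x hx).1, (hmove s hs x hx).2, (hmove r hr _ (autFun_mem α hx)).1,
          (hmove r hr _ (autFun_mem α hx)).2, (hαc x hx).1, (hαc x hx).2, rt]
        refine ⟨rfl, ?_⟩
        field_simp
      · have hzA := hd.axis_le_grpA hz
        rw [autFun_mul _ _ hzA, autFun_conjAut _ hzA, c.conj_axis hs hz, hd.closureA_fix hαK hz]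
      · have hzA := hd.axis_le_grpA hz
        rw [autFun_mul _ _ hzA, hd.closureA_fix hαK hz, autFun_conjAut _ hzA, c.conj_axis hr hz]
    refine ⟨⟨hs, hnA s hs⟩, r, hr, fun x hx => ?_⟩
    have e' := congrArg (fun γ : MulAut c.grpA => autFun γ x) e
    simp only [autFun_mul _ _ hx] at e'
    rwa [autFun_conjAut _ hx, autFun_conjAut _ (autFun_mem α hx)] at e'
  obtain ⟨g, hg, hge⟩ := (isReceptive_iff.1 (IsSaturated.automized_receptive hS hF hn).2).2 c.grpA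
    (autFun α) ((mem_autGroup_iff hAS).1 hαA) (img_autFun α)
  have hgS := hg.mono hext
  have himg : img S g = S := eq_of_le_of_card_le le_rfl hgS.img_le hgS.card_img.ge
  set M := autOf hgS himg with hMdef
  have hM : M ∈ F.autGroup S := autOf_mem hgS himg
  have hMA : ∀ x ∈ c.grpA, autFun M x = autFun α x := fun x hx =>
    (autFun_autOf hgS himg (hAS hx)).trans (hge x hx)
  have hMfix : ∀ z ∈ c.axis, autFun M z = z := fun z hz => by
    rw [hMA z (hd.axis_le_grpA hz), hd.closureA_fix hαK hz]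
  have hMt : ∀ s ∈ S, c.t (autFun M s) = μ ^ 2 * c.t s := by
    intro s hs
    obtain ⟨x, hx, xt, xu, -⟩ := c.surj 0 1 0 0
    have hxA : x ∈ c.grpA := ⟨hx, xt⟩
    have e := congrArg c.v (hMA _ (hsA s hs x hxA))
    rw [autFun_map_conj M hs hx, hMA x hxA,
      (hmove _ (autFun_mem M hs) _ (autFun_mem α hxA)).2, (hαc _ (hsA s hs x hxA)).1,
      (hmove s hs x hxA).2, (hαc x hxA).1, (hαc x hxA).2, xu] at e
    field_simp at e
    linear_combination e
  have hMB : ∀ y ∈ c.line 0, autFun M y ∈ c.line 0 := fun y hy => by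
    rw [← Coord.swap_grpA c] at hy ⊢
    exact autFun_grpA_two (Coord.swap c) hS hF hM hy
  choose T hT using fun τ : K => c.surj τ 0 0 0
  have hTB : ∀ τ, T τ ∈ c.line 0 := fun τ => ⟨(hT τ).1, by rw [(hT τ).2.2.1, zero_mul]⟩
  have hsplit : ∀ x ∈ S, ∃ a ∈ c.grpA, x = T (c.t x) * a ∧ c.u a = c.u x ∧
      c.v a = c.v x + c.t x * c.u x := by
    intro x hx
    obtain ⟨hs, st, su, sv, -⟩ := hT (c.t x)
    refine ⟨(T (c.t x))⁻¹ * x, ⟨S.mul_mem (S.inv_mem hs) hx, ?_⟩, (mul_inv_cancel_left _ _).symm,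
      ?_, ?_⟩
    · rw [c.t_mul (S.inv_mem hs) hx, c.t_inv hs, st, neg_add_cancel]
    · rw [c.u_mul (S.inv_mem hs) hx, c.u_inv hs, su, neg_zero, zero_add]
    · rw [c.v_mul (S.inv_mem hs) hx, c.v_inv hs, c.t_inv hs, st, su, sv]
      linear_combination (-(c.t x * c.u x)) * h2
  have hMu : ∀ x ∈ S, c.u (autFun M x) = μ⁻¹ * c.u x := by
    intro x hx
    obtain ⟨a, ha, hxa, au, -⟩ := hsplit x hx
    rw [hxa, autFun_map_mul M (hT _).1 ha.1, c.u_mul (autFun_mem M (hT _).1) (autFun_mem M ha.1),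
      (hMB _ (hTB _)).2, zero_mul, zero_add, hMA a ha, (hαc a ha).2, c.u_mul (hT _).1 ha.1,
      (hT (c.t x)).2.2.1, zero_add]
  -- the cube
  have h3 : μ ^ 3 = 1 := by
    by_cases hsmall : ∀ τ : K, τ = 0 ∨ τ = 1
    · rw [(hsmall μ).resolve_left hμ, one_pow]
    push Not at hsmall
    obtain ⟨τ, hτ0, hτ1⟩ := hsmall
    have hz : ∀ σ : K, σ ≠ 0 → ∃ z ∈ S, c.t z = 0 ∧ c.u z = 0 ∧ c.v z = 1 ∧ c.w z = σ ∧
        c.w (autFun M z) = μ ^ 3 * σ := by
      intro σ hσ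
      obtain ⟨x, hx, xt, xu, xv, xw⟩ := c.surj 0 σ⁻¹ 0 0
      obtain ⟨hs, st, -⟩ := hT σ
      have hxA : x ∈ c.grpA := ⟨hx, xt⟩
      have hMx := autFun_mem α hxA
      have hMs := autFun_mem M hs
      have hw : ∀ {s y}, s ∈ S → y ∈ c.grpA →
          c.w (y⁻¹ * (s * y * s⁻¹)) = c.t s ^ 2 * c.u y := fun {s y} hs hy => by
        rw [c.w_mul (S.inv_mem hy.1) (c.conj_mem hs hy.1), c.w_conj hs hy.1, c.t_inv hy.1,
          c.w_inv hy.1, hy.2, h2]
        ring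
      refine ⟨x⁻¹ * (T σ * x * (T σ)⁻¹), S.mul_mem (S.inv_mem hx) (c.conj_mem hs hx),
        (c.comm_coords hs hx).1, (c.comm_coords hs hx).2.1, ?_, ?_, ?_⟩
      · rw [(c.comm_coords hs hx).2.2, st, xu, xt, zero_mul, sub_zero, mul_inv_cancel₀ hσ]
      · rw [hw hs hxA, st, xu]; field_simp
      · rw [autFun_map_mul M (S.inv_mem hx) (c.conj_mem hs hx), autFun_map_conj M hs hx,
          show autFun M x⁻¹ = (autFun M x)⁻¹ from eq_inv_of_mul_eq_one_left (by
            rw [← autFun_map_mul M (S.inv_mem hx) hx, inv_mul_cancel, autFun_map_one]),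
          hMA x hxA, hw hMs hMx, hMt _ hs, st, (hαc x hxA).2, xu]
        field_simp
    obtain ⟨z, hz1, a1, b1, c1, d1, e1⟩ := hz 1 one_ne_zero
    obtain ⟨z', hz1', a2, b2, c2, d2, e2⟩ := hz τ hτ0
    have hax : z * z' ∈ c.axis := ⟨S.mul_mem hz1 hz1',
      by rw [c.t_mul hz1 hz1', a1, a2, add_zero], by rw [c.u_mul hz1 hz1', b1, b2, add_zero],
      by rw [c.v_mul hz1 hz1', c1, c2, a1]; linear_combination h2⟩
    have hzA : z ∈ c.grpA := ⟨hz1, a1⟩
    have e := congrArg c.w (hMfix _ hax)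
    rw [autFun_map_mul M hz1 hz1', c.w_mul (autFun_mem M hz1) (autFun_mem M hz1'),
      hMt z hz1, a1, e1, e2, c.w_mul hz1 hz1', a1, d1, d2] at e
    have hne : (1 : K) + τ ≠ 0 := fun h => hτ1 (by linear_combination h - h2)
    refine mul_right_cancel₀ hne ?_
    linear_combination e
  have hinv : μ⁻¹ = μ ^ 2 := inv_eq_of_mul_eq_one_right (by rw [← h3]; ring)
  refine ⟨h3, ?_⟩
  -- linearity on `B`
  have hres : ∃ β ∈ F.autGroup (c.line 0), ∀ y ∈ c.line 0, autFun β y = autFun M y := by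
    have hm := ((mem_autGroup_iff le_rfl).1 hM).mono (c.line_le 0)
    have himgB : img (c.line 0) (autFun M) = c.line 0 := img_eq_of_map_le (c.line_le 0) hm le_rfl hMB
    exact ⟨autOf hm himgB, autOf_mem hm himgB, fun y hy => autFun_autOf hm himgB hy⟩
  obtain ⟨β, hβ, hβM⟩ := hres
  obtain ⟨lam, hlK, hl⟩ := hd.linB.2 ⟨!![1, 0; 1, 1], by simp [Matrix.det_fin_two]⟩
  have hlβ : β * lam * β⁻¹ ∈ pElementClosure 2 (F.autGroup (c.line 0)) :=
    (Subgroup.mem_normalizer_iff.1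
      (CfsgLib.LS.Amal.le_normalizer_pElementClosure (p := 2) _ hβ) _).1 hlK
  obtain ⟨D, hD⟩ := hd.linB.1 _ hlβ
  have hMv : ∀ y ∈ c.grpD, c.v (autFun M y) = μ * c.v y := fun y hy => by
    rw [hMA y (c.grpD_le_grpA hy), (hαc y (c.grpD_le_grpA hy)).1]
  have hvB : ∀ y ∈ c.line 0, c.v (autFun M y) = μ * c.v y + c.v (autFun M (T (c.t y))) := by
    intro y hy
    obtain ⟨a, ha, hya, au, av⟩ := hsplit y hy.1
    rw [hy.2, zero_mul] at au av
    rw [mul_zero, add_zero] at av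
    have haD : a ∈ c.grpD := ⟨ha.1, ha.2, au⟩
    conv_lhs => rw [hya]
    rw [autFun_map_mul M (hT _).1 ha.1, c.v_mul (autFun_mem M (hT _).1) (autFun_mem M ha.1),
      hMv a haD, hMu a ha.1, au, mul_zero, mul_zero, add_zero, av, add_comm]
  set ε : K → K := fun τ => c.v (autFun M (T τ)) with hε
  have hlin : ∀ τ, ε τ = (1 - D.1 1 1) * μ * τ := by
    intro τ
    have key : ∀ v : K, μ ^ 2 * (v + τ) = D.1 1 0 * (μ * v + ε τ) + D.1 1 1 * (μ ^ 2 * τ) := by
      intro v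
      obtain ⟨y, hy, yt, yu, yv, -⟩ := c.surj τ 0 v 0
      have hyB : y ∈ c.line 0 := ⟨hy, by rw [yu, zero_mul]⟩
      have hy1 := autFun_mem lam hyB
      have e := congrFun (hD _ (autFun_mem β hyB)) 1
      rw [autFun_mul _ _ (autFun_mem β hyB), autFun_apply_inv β hyB, autFun_mul _ _ hyB,
        hβM _ hy1, hβM y hyB, hvB y hyB, hMt y hy, hMt _ hy1.1] at e
      have el := congrFun (hl y hyB) 1
      simp [Matrix.mulVec, dotProduct, Fin.sum_univ_two] at e el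
      rw [el, yv, yt] at e
      exact e
    have k0 := key 0
    have k1 := key 1
    have hc : D.1 1 0 = μ := mul_right_cancel₀ hμ (by linear_combination -(k1 - k0))
    rw [hc] at k0
    refine mul_left_cancel₀ hμ ?_
    linear_combination -k0
  set r := (1 - D.1 1 1) * μ * (μ ^ 2)⁻¹ with hr
  obtain ⟨b, hb, bt, bu, -⟩ := c.surj 0 r 0 0
  have hbn : b ∈ Subgroup.normalizer (S : Set Ω) := Subgroup.le_normalizer hb
  refine ⟨conjAut b hbn * M, mul_mem (autInducedBy_le_autGroup le_rfl (conjAut_mem hb _)) hM,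
    fun z hz => ?_, fun x hx => ?_⟩
  · rw [autFun_mul _ _ hz.1, hMfix z hz, autFun_conjAut _ hz.1, c.conj_axis hb hz]
  · have hMx := autFun_mem M hx
    rw [autFun_mul _ _ hx, autFun_conjAut _ hMx, c.t_conj hb hMx, c.u_conj hb hMx, c.v_conj hb hMx,
      bt, bu, hMt x hx, hMu x hx, hinv]
    refine ⟨rfl, rfl, ?_⟩
    obtain ⟨a, ha, hxa, au, av⟩ := hsplit x hx
    have hv : c.v (autFun M x) = c.v (autFun M (T (c.t x))) + μ * (c.v x + c.t x * c.u x) +
        μ ^ 2 * c.t x * (μ ^ 2 * c.u x) := by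
      conv_lhs => rw [hxa]
      rw [autFun_map_mul M (hT _).1 ha.1,
        c.v_mul (autFun_mem M (hT _).1) (autFun_mem M ha.1), hMt _ (hT _).1, hMu a ha.1,
        (hT (c.t x)).2.1, au, hinv, hMA a ha, (hαc a ha).1, av]
    rw [hv]
    show ε (c.t x) + μ * (c.v x + c.t x * c.u x) + μ ^ 2 * c.t x * (μ ^ 2 * c.u x) +
      (0 * (μ ^ 2 * c.u x) - μ ^ 2 * c.t x * r) = μ * c.v x
    rw [hlin, hr]
    field_simp
    linear_combination (c.t x * c.u x) * h2 + (c.t x * c.u x) * h3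

end TwoData

end CfsgLib.SylowLie.SpFour
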